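import Cfsg.Agent.Lib.Involution.BaerSuzuki
import Cfsg.Agent.Lib.Involution.Dihedral
import Cfsg.Agent.Lib.Solvable.Basic
import Cfsg.Agent.S0205

/-!
# Elements of order `p` acting on `p'`-subgroups

`subsingleton_of_norm`: no Frobenius group with kernel acting without fixed points on an abelian
group of exponent `p` when the element of order `p` has trivial norm.
`exists_acting`: if a Sylow `p`-subgroup is not normal and elements of order `p` centralise no
`p'`-element, an element of order `p` normalises a nontrivial `p'`-subgroup.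
-/

set_option autoImplicit false
set_option linter.style.haveILetI false

namespace Cfsg.Agent.GroupPartition

open Subgroup
open scoped IsMulCommutative

theorem card_comap_mk' {G : Type*} [Group G] [Finite G] (O : Subgroup G) [O.Normal]
    (H : Subgroup (G ⧸ O)) :
    Nat.card (H.comap (QuotientGroup.mk' O)) = Nat.card O * Nat.card H := by
  have h1 := (H.comap (QuotientGroup.mk' O)).card_mul_index
  rw [Subgroup.index_comap_of_surjective _ (QuotientGroup.mk'_surjective O),
    ← O.card_mul_index, Subgroup.index_eq_card O, ← H.card_mul_index, ← mul_assoc] at h1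
  exact Nat.eq_of_mul_eq_mul_right (Nat.pos_of_ne_zero Subgroup.index_ne_zero_of_finite) h1

section Norm

theorem mul_pow_eq_prod {G : Type*} [Group G] (V : Subgroup G) [V.Normal] [IsMulCommutative V]
    (g : G) (v : V) (n : ℕ) :
    ((v : G) * g) ^ n = ((∏ j ∈ Finset.range n, (MulAut.conjNormal (g ^ j) : MulAut V) v : V) : G) * g ^ n := by
  induction n with
  | zero => simp
  | succ n ih =>
    rw [pow_succ, ih, Finset.prod_range_succ, Subgroup.coe_mul, MulAut.conjNormal_apply, pow_succ]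
    group

theorem subsingleton_of_norm {Γ A : Type*} [Group Γ] [Finite Γ] [CommGroup A] (ψ : Γ →* MulAut A)
    {p : ℕ} [Fact p.Prime] (hexp : ∀ a : A, a ^ p = 1) (R : Subgroup Γ) (g : Γ)
    (hgR : g ∈ normalizer (R : Set Γ)) (hgp : g ^ p = 1) (hR : R ≠ ⊥) (hRp : ¬ p ∣ Nat.card R)
    (hcR : ∀ r ∈ R, Commute g r → r = 1)
    (hfpf : ∀ r ∈ R, r ≠ 1 → ∀ a, ψ r a = a → a = 1)
    (hN : ∀ a, ∏ j ∈ Finset.range p, ψ (g ^ j) a = 1) : ∀ a : A, a = 1 := by
  classical
  haveI := Fintype.ofFinite R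
  -- sums over `R` vanish
  have hT : ∀ a : A, ∏ r : R, ψ (r : Γ) a = 1 := by
    intro a
    obtain ⟨r₀, hr₀⟩ := Subgroup.ne_bot_iff_exists_ne_one.1 hR
    refine hfpf r₀ r₀.2 (fun e => hr₀ (Subtype.ext e)) _ ?_
    rw [map_prod]
    exact Fintype.prod_equiv (Equiv.mulLeft r₀) _ _ fun r => by
      simp [MulAut.mul_apply]
  intro a
  have hconj : ∀ r : R, ∏ j ∈ Finset.range p, ψ ((r : Γ) * g ^ j * (r : Γ)⁻¹) a = 1 := by
    intro r
    have := congrArg (ψ (r : Γ)) (hN (ψ (r : Γ)⁻¹ a))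
    rw [map_one, map_prod] at this
    refine Eq.trans (Finset.prod_congr rfl fun j _ => ?_) this
    simp [MulAut.mul_apply]
  have h0 : ∏ j ∈ Finset.range p, ∏ r : R, ψ ((r : Γ) * g ^ j * (r : Γ)⁻¹) a = 1 := by
    rw [Finset.prod_comm]
    exact Finset.prod_eq_one fun r _ => hconj r
  have hrest : ∀ j ∈ Finset.range p, j ≠ 0 → ∏ r : R, ψ ((r : Γ) * g ^ j * (r : Γ)⁻¹) a = 1 := by
    intro j hj hj0
    have hjR : g ^ j ∈ normalizer (R : Set Γ) := pow_mem hgR j
    let f : R → R := fun r =>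
      ⟨(r : Γ) * (g ^ j * (r : Γ)⁻¹ * (g ^ j)⁻¹),
        R.mul_mem r.2 ((mem_normalizer_iff.1 hjR _).1 (R.inv_mem r.2))⟩
    have hcj : ∀ r ∈ R, Commute (g ^ j) r → r = 1 := fun r hr h => by
      refine hcR r hr ?_
      have hco : j.Coprime p := (Nat.coprime_comm.1 ((Fact.out : p.Prime).coprime_iff_not_dvd.2
        fun hd => hj0 (Nat.eq_zero_of_dvd_of_lt hd (Finset.mem_range.1 hj))))
      obtain ⟨k, hk⟩ := exists_pow_eq_self_of_coprime (x := g)
        (n := j) (hco.coprime_dvd_right (orderOf_dvd_of_pow_eq_one hgp))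
      rw [← hk]
      exact h.pow_left k
    have hf : Function.Injective f := fun r r' h => by
      have h' : (r : Γ) * g ^ j * (r : Γ)⁻¹ = (r' : Γ) * g ^ j * (r' : Γ)⁻¹ := by
        have := congrArg (fun x : R => (x : Γ) * g ^ j) h
        simpa [f, mul_assoc] using this
      have h1 : Commute (g ^ j) ((r : Γ)⁻¹ * r') := by
        show g ^ j * ((r : Γ)⁻¹ * r') = (r : Γ)⁻¹ * r' * g ^ j
        calc g ^ j * ((r : Γ)⁻¹ * r') = (r : Γ)⁻¹ * ((r : Γ) * g ^ j * (r : Γ)⁻¹) * r' := by group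
          _ = (r : Γ)⁻¹ * r' * g ^ j := by rw [h']; group
      exact Subtype.ext (inv_mul_eq_one.1 (hcj _ (R.mul_mem (R.inv_mem r.2) r'.2) h1))
    refine Eq.trans ?_ (hT (ψ (g ^ j) a))
    refine Fintype.prod_equiv (Equiv.ofBijective f hf.bijective_of_finite) _ _ fun r => ?_
    show _ = ψ ((f r : R) : Γ) (ψ (g ^ j) a)
    rw [← MulAut.mul_apply, ← map_mul]
    simp [f, mul_assoc]
  rw [Finset.prod_eq_single_of_mem 0 (Finset.mem_range.2 (Fact.out : p.Prime).pos) hrest] at h0
  simp only [pow_zero, mul_one, mul_inv_cancel, map_one, MulAut.one_apply, Finset.prod_const,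
    Finset.card_univ] at h0
  have h1 : orderOf a ∣ 1 := by
    have hco : Nat.Coprime p (Fintype.card R) :=
      (Fact.out : p.Prime).coprime_iff_not_dvd.2 (by rwa [← Nat.card_eq_fintype_card])
    rw [← hco.gcd_eq_one]
    exact Nat.dvd_gcd (orderOf_dvd_of_pow_eq_one (hexp a)) (orderOf_dvd_of_pow_eq_one h0)
  exact orderOf_eq_one_iff.1 (Nat.dvd_one.1 h1)

end Norm

section Acting

variable {Q : Type*} [Group Q] [Finite Q] {p : ℕ} [hp : Fact p.Prime]

/-- The Frattini step: an element of order `p` normalising a Sylow subgroup of an `r`-section. -/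
theorem exists_acting_of_section {O N T : Subgroup Q} {r k : ℕ} [Fact r.Prime] (hrp : r ≠ p)
    (hNT : N ≤ T) (hTN : T ≤ normalizer (N : Set Q))
    (hcard : Nat.card N = Nat.card O * r ^ k) (hk : k ≠ 0) (hpd : p ∣ N.relIndex T) :
    ∃ (g : Q) (R : Subgroup Q), orderOf g = p ∧ R ≠ ⊥ ∧ ¬ p ∣ Nat.card R ∧
      g ∈ normalizer (R : Set Q) := by
  classical
  haveI : (N.subgroupOf T).Normal := ⟨fun x hx w => by
    simpa [mem_subgroupOf] using (mem_normalizer_iff.1 (hTN w.2) _).1 hx⟩
  obtain ⟨R⟩ := (inferInstance : Nonempty (Sylow r (N.subgroupOf T)))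
  set R' : Subgroup T := (R : Subgroup (N.subgroupOf T)).map (N.subgroupOf T).subtype with hR'
  have htop := Sylow.normalizer_sup_eq_top R
  have hd : p ∣ Nat.card (normalizer (R' : Set T)) := by
    refine hpd.trans ?_
    show (N.subgroupOf T).index ∣ _
    rw [← Subgroup.relIndex_top_right, ← htop, Subgroup.relIndex_sup_right]
    exact Subgroup.relIndex_dvd_card _ _
  obtain ⟨⟨⟨g, hgT⟩, hgn⟩, hg⟩ := exists_prime_orderOf_dvd_card' p hd
  rw [Subgroup.orderOf_mk, Subgroup.orderOf_mk] at hg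
  have hdvd : r ∣ Nat.card (N.subgroupOf T) := by
    rw [Nat.card_congr (Subgroup.subgroupOfEquivOfLe hNT).toEquiv, hcard]
    exact Dvd.dvd.mul_left (dvd_pow_self r hk) _
  refine ⟨g, R'.map T.subtype, hg, ?_, ?_, ?_⟩
  · rw [Ne, Subgroup.map_eq_bot_iff_of_injective _ (Subgroup.subtype_injective T), hR',
      Subgroup.map_eq_bot_iff_of_injective _ (Subgroup.subtype_injective _)]
    exact R.ne_bot_of_dvd_card hdvd
  · rw [Subgroup.card_map_of_injective (Subgroup.subtype_injective T), hR',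
      Subgroup.card_map_of_injective (Subgroup.subtype_injective _)]
    obtain ⟨n, hn⟩ := IsPGroup.iff_card.1 R.2
    rw [hn]
    exact fun h => hrp ((Nat.prime_dvd_prime_iff_eq hp.out Fact.out).1 (hp.out.dvd_of_dvd_pow h)).symm
  · refine mem_normalizer_iff.2 fun x => ⟨?_, ?_⟩
    · rintro ⟨y, hy, rfl⟩
      exact ⟨⟨g, hgT⟩ * y * (⟨g, hgT⟩ : T)⁻¹, (mem_normalizer_iff.1 hgn y).1 hy, by simp⟩
    · rintro ⟨y, hy, hyx⟩
      refine ⟨(⟨g, hgT⟩ : T)⁻¹ * y * ⟨g, hgT⟩, ?_, ?_⟩
      · refine (mem_normalizer_iff.1 hgn _).2 ?_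
        simpa [mul_assoc] using hy
      · change g⁻¹ * (y : Q) * g = x
        rw [show (y : Q) = g * x * g⁻¹ from hyx]
        group

/-- If Sylow `p`-subgroups are not normal and elements of order `p` commute with no nontrivial
`p'`-element, some element of order `p` normalises a nontrivial `p'`-subgroup. -/
theorem exists_acting {A : Type*} [CommGroup A] [Finite A] (ψ : Q →* MulAut A)
    (hker : IsPGroup p ψ.ker) (hfpf : p ≠ 2 → ∀ z, orderOf z = 2 → ∀ a, ψ z a = a → a = 1)
    (hc : ∀ x y : Q, orderOf x = p → (orderOf y).Prime → orderOf y ≠ p → ¬ Commute x y)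
    (hns : ∀ S : Sylow p Q, ¬ (S : Subgroup Q).Normal) :
    ∃ (g : Q) (R : Subgroup Q), orderOf g = p ∧ R ≠ ⊥ ∧ ¬ p ∣ Nat.card R ∧
      g ∈ normalizer (R : Set Q) := by
  classical
  obtain ⟨S⟩ := (inferInstance : Nonempty (Sylow p Q))
  set O := (S : Subgroup Q).normalCore with hOdef
  have hOS : O ≤ (S : Subgroup Q) := Subgroup.normalCore_le _
  have hOp : IsPGroup p O := S.2.to_le hOS
  have hmax : ∀ N : Subgroup Q, N.Normal → IsPGroup p N → N ≤ O := by
    intro N hN hNp
    obtain ⟨P, hP⟩ := hNp.exists_le_sylow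
    obtain ⟨g, hg⟩ := MulAction.exists_smul_eq Q P S
    haveI := hN
    refine Subgroup.normal_le_normalCore.2 fun n hn => ?_
    have h1 : g⁻¹ * n * g ∈ (P : Subgroup Q) := hP (by simpa using hN.conj_mem n hn g⁻¹)
    rw [← hg, Sylow.coe_subgroup_smul, Subgroup.mem_pointwise_smul_iff_inv_smul_mem,
      ← map_inv, MulAut.smul_def, MulAut.conj_apply, inv_inv]
    exact h1
  haveI : O.Normal := Subgroup.normalCore_normal _
  have hne : O ≠ (S : Subgroup Q) := fun e => hns S (e ▸ inferInstance)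
  have hpidx : p ∣ O.index := by
    rw [← Subgroup.relIndex_mul_index hOS]
    refine Dvd.dvd.mul_right ?_ _
    obtain ⟨n, hn⟩ := IsPGroup.iff_card.1 S.2
    obtain ⟨i, hi, hri⟩ := (Nat.dvd_prime_pow hp.out).1
      (hn ▸ (Subgroup.relIndex_dvd_card O (S : Subgroup Q)))
    rcases i with _ | i
    · rw [pow_zero, Subgroup.relIndex_eq_one] at hri
      exact absurd (le_antisymm hOS hri) hne
    · rw [hri]; exact dvd_pow_self p i.succ_ne_zero
  by_cases hp2 : p = 2
  · subst hp2
    have hpQ : 2 ∣ Nat.card (Q ⧸ O) := by rwa [← Subgroup.index_eq_card]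
    obtain ⟨y, hy⟩ := exists_prime_orderOf_dvd_card' 2 hpQ
    obtain ⟨x, hx⟩ : ∃ x : Q ⧸ O, ¬ IsPGroup 2 (closure ({y, x * y * x⁻¹} : Set (Q ⧸ O))) := by
      by_contra hall
      push Not at hall
      have hN := Involution.baer_suzuki (p := 2) y hall
      have h1 : IsPGroup 2 ((normalClosure ({y} : Set (Q ⧸ O))).comap (QuotientGroup.mk' O)) :=
        hN.comap_of_ker_isPGroup _ (by rw [QuotientGroup.ker_mk']; exact hOp)
      obtain ⟨y', rfl⟩ := QuotientGroup.mk'_surjective O y
      have h2 : y' ∈ O := hmax _ inferInstance h1 (subset_normalClosure (Set.mem_singleton _))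
      rw [QuotientGroup.mk'_apply, (QuotientGroup.eq_one_iff y').2 h2, orderOf_one] at hy
      omega
    set y' := x * y * x⁻¹ with hy'
    have hyy : y * y = 1 := Involution.sq_of_orderOf_two hy
    have hy'y' : y' * y' = 1 := by rw [hy', ← sq, conj_pow, sq, hyy]; group
    -- an element of odd prime order inverted by `y`
    obtain ⟨r, hr, hrd, hr2⟩ : ∃ r, r.Prime ∧ r ∣ orderOf (y * y') ∧ r ≠ 2 := by
      by_contra hall
      push Not at hall
      have hpow := Nat.eq_prime_pow_of_unique_prime_dvd (orderOf_pos (y * y')).ne'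
        (p := 2) fun {d} hd hdvd => hall d hd hdvd
      exact hx (Involution.isPGroup_closure_pair hyy hy'y' (a := _) (by
        rw [← hpow]; exact pow_orderOf_eq_one _))
    haveI := Fact.mk hr
    set e := (y * y') ^ (orderOf (y * y') / r) with he
    have heo : orderOf e = r := orderOf_pow_orderOf_div (orderOf_pos _).ne' hrd
    have hye : y * e * y⁻¹ = e⁻¹ := by
      have h1 : y * (y * y') * y⁻¹ = (y * y')⁻¹ := by
        rw [mul_inv_rev, inv_eq_of_mul_eq_one_right hyy, inv_eq_of_mul_eq_one_right hy'y',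
          ← mul_assoc y y y', hyy, one_mul]
      rw [he, ← conj_pow, h1, inv_pow]
    have hyn : y ∈ normalizer (zpowers e : Set (Q ⧸ O)) := by
      refine mem_normalizer_iff.2 fun n => ⟨?_, ?_⟩
      · rintro ⟨k, rfl⟩
        exact ⟨-k, by simp only; rw [← conj_zpow, hye, inv_zpow, zpow_neg]⟩
      · rintro ⟨k, hk⟩
        refine ⟨-k, ?_⟩
        simp only at hk ⊢
        calc e ^ (-k) = y⁻¹ * (y * e ^ (-k) * y⁻¹) * y := by group
          _ = n := by rw [← conj_zpow, hye, inv_zpow, zpow_neg, inv_inv, hk]; group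
    have hcardN : Nat.card ((zpowers e).comap (QuotientGroup.mk' O)) = Nat.card O * r ^ 1 := by
      rw [card_comap_mk', Nat.card_zpowers, heo, pow_one]
    refine exists_acting_of_section (p := 2) (N := (zpowers e).comap (QuotientGroup.mk' O))
      (T := (zpowers e ⊔ zpowers y).comap (QuotientGroup.mk' O)) (r := r) (k := 1) hr2
      (comap_mono le_sup_left) ?_ hcardN one_ne_zero ?_
    · intro t ht
      have h1 : zpowers e ⊔ zpowers y ≤ normalizer (zpowers e : Set (Q ⧸ O)) :=
        sup_le le_normalizer (zpowers_le.2 hyn)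
      refine mem_normalizer_iff.2 fun n => ?_
      simpa using (mem_normalizer_iff.1 (h1 ht) (QuotientGroup.mk' O n))
    · rw [Subgroup.relIndex_comap, Subgroup.map_comap_eq_self_of_surjective
        (QuotientGroup.mk'_surjective O)]
      have h1 := Subgroup.card_mul_index ((zpowers e).subgroupOf (zpowers e ⊔ zpowers y))
      rw [Nat.card_congr (Subgroup.subgroupOfEquivOfLe le_sup_left).toEquiv] at h1
      have h2 : 2 ∣ Nat.card (zpowers e ⊔ zpowers y : Subgroup (Q ⧸ O)) :=
        hy ▸ Subgroup.orderOf_dvd_natCard _ (mem_sup_right (mem_zpowers y))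
      rw [← h1, Nat.card_zpowers, heo] at h2
      exact (Nat.prime_two.dvd_mul.1 h2).resolve_left
        fun h => hr2 ((Nat.prime_dvd_prime_iff_eq Nat.prime_two hr).1 h).symm
  by_cases heven : 2 ∣ Nat.card Q
  · -- an involution inverts the module, so centralises an element of order `p`
    exfalso
    obtain ⟨z, hz⟩ := exists_prime_orderOf_dvd_card' 2 heven
    have hzz : z * z = 1 := Involution.sq_of_orderOf_two hz
    have hinv : ∀ a, ψ z a = a⁻¹ := by
      intro a
      exact congrFun (MonoidHom.FixedPointFree.coe_eq_inv_of_involutive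
        (φ := (ψ z).toMonoidHom) (fun a ha => hfpf hp2 z hz a ha) (fun a => by
          show ψ z (ψ z a) = a
          rw [← MulAut.mul_apply, ← map_mul, hzz, map_one, MulAut.one_apply])) a
    obtain ⟨g, hgS, hgO⟩ := SetLike.exists_of_lt (lt_of_le_of_ne hOS hne)
    have hK : ψ.ker ≤ O := hmax _ inferInstance hker
    have hmem : ∀ x : Q, g⁻¹ * x ∈ ψ.ker → g⁻¹ * (z * x * z⁻¹) ∈ ψ.ker := by
      intro x hx
      rw [MonoidHom.mem_ker, map_mul, map_inv, inv_mul_eq_one] at hx ⊢
      ext a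
      rw [map_mul, map_mul, map_inv, hx, MulAut.mul_apply, MulAut.mul_apply, MulAut.inv_def, hinv]
      rw [show (ψ z).symm a = a⁻¹ by rw [MulEquiv.symm_apply_eq, hinv, inv_inv], map_inv, inv_inv]
    haveI := Fintype.ofFinite {x : Q // g⁻¹ * x ∈ ψ.ker}
    let σ : Equiv.Perm {x : Q // g⁻¹ * x ∈ ψ.ker} :=
      Function.Involutive.toPerm (fun x => ⟨z * x.1 * z⁻¹, hmem _ x.2⟩) fun x => Subtype.ext (by
        show z * (z * x.1 * z⁻¹) * z⁻¹ = x.1
        calc z * (z * x.1 * z⁻¹) * z⁻¹ = (z * z) * x.1 * (z * z)⁻¹ := by group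
          _ = x.1 := by rw [hzz]; group)
    have hodd : ¬ 2 ∣ Fintype.card {x : Q // g⁻¹ * x ∈ ψ.ker} := by
      rw [← Nat.card_eq_fintype_card, show Nat.card {x : Q // g⁻¹ * x ∈ ψ.ker} = Nat.card ψ.ker from
        Nat.card_congr ((Equiv.mulLeft g⁻¹).subtypeEquiv (q := fun x => x ∈ ψ.ker) fun x => Iff.rfl)]
      obtain ⟨n, hn⟩ := IsPGroup.iff_card.1 hker
      rw [hn]
      exact fun h => hp2 ((Nat.prime_dvd_prime_iff_eq Nat.prime_two hp.out).1
        (Nat.prime_two.dvd_of_dvd_pow h)).symm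
    obtain ⟨⟨f, hf⟩, hff⟩ := Equiv.Perm.exists_fixed_point_of_prime (p := 2) (n := 1) hodd
      (σ := σ) (by
        rw [pow_one]
        ext x
        simp only [pow_two, Equiv.Perm.mul_apply, Equiv.Perm.one_apply, σ, Function.Involutive.coe_toPerm]
        calc z * (z * x.1 * z⁻¹) * z⁻¹ = (z * z) * x.1 * (z * z)⁻¹ := by group
          _ = x.1 := by rw [hzz]; group)
    have hfz : z * f * z⁻¹ = f := congrArg Subtype.val hff
    have hfS : f ∈ (S : Subgroup Q) := by
      have := mul_mem hgS (hOS (hK hf))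
      rwa [mul_inv_cancel_left] at this
    have hf1 : f ≠ 1 := fun e => hgO (hK (by
      have := ψ.ker.inv_mem hf
      rwa [e, mul_one, inv_inv] at this))
    obtain ⟨n, hn⟩ := IsPGroup.iff_orderOf.1 S.2 ⟨f, hfS⟩
    rw [Subgroup.orderOf_mk] at hn
    have hpf : p ∣ orderOf f := by
      rcases n with _ | n
      · exact absurd (orderOf_eq_one_iff.1 (hn.trans (pow_zero p))) hf1
      · exact hn ▸ dvd_pow_self p n.succ_ne_zero
    refine hc _ z (orderOf_pow_orderOf_div (orderOf_pos f).ne' hpf) (hz ▸ Nat.prime_two)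
      (hz ▸ Ne.symm hp2) ?_
    rw [mul_inv_eq_iff_eq_mul] at hfz
    exact (show Commute f z from hfz.symm).pow_left _
  · -- solvable
    haveI : Group.IsSolvable Q := S0205.result (Nat.odd_iff.2 (Nat.two_dvd_ne_zero.1 heven))
    have hQO : (⊤ : Subgroup (Q ⧸ O)) ≠ ⊥ := fun e => by
      have h1 : O.index = 1 := by
        rw [Subgroup.index_eq_card, ← Subgroup.card_top, e, Subgroup.card_bot]
      rw [h1] at hpidx
      exact hp.out.one_lt.ne' (Nat.dvd_one.1 hpidx)
    obtain ⟨N, r, hNn, -, hN1, -, -, hr, hNr⟩ :=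
      Solvable.exists_abelian_minimal_normal (K := (⊤ : Subgroup (Q ⧸ O))) inferInstance hQO
    haveI := Fact.mk hr
    obtain ⟨k, hk⟩ := IsPGroup.iff_card.1 hNr
    have hk0 : k ≠ 0 := fun e => hN1 (Subgroup.eq_bot_of_card_eq N (by rw [hk, e, pow_zero]))
    have hrp : r ≠ p := fun e => hN1 (eq_bot_iff.2 fun x hx => by
      obtain ⟨x, rfl⟩ := QuotientGroup.mk'_surjective O x
      have h1 : IsPGroup p (N.comap (QuotientGroup.mk' O)) :=
        (e ▸ hNr : IsPGroup p N).comap_of_ker_isPGroup _ (by rw [QuotientGroup.ker_mk']; exact hOp)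
      exact Subgroup.mem_bot.2 ((QuotientGroup.eq_one_iff x).2 (hmax _ inferInstance h1 hx)))
    refine exists_acting_of_section (p := p) (O := O) (N := N.comap (QuotientGroup.mk' O)) (T := ⊤)
      (r := r) (k := k) hrp le_top (by rw [Subgroup.normalizer_eq_top]) ?_ hk0 ?_
    · rw [card_comap_mk', hk]
    · rw [Subgroup.relIndex_top_right, Subgroup.index_comap_of_surjective _
        (QuotientGroup.mk'_surjective O)]
      rw [Subgroup.index_eq_card] at hpidx
      rw [← N.card_mul_index, hk] at hpidx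
      exact (hp.out.dvd_mul.1 hpidx).resolve_left fun h =>
        hrp ((Nat.prime_dvd_prime_iff_eq hp.out hr).1 (hp.out.dvd_of_dvd_pow h)).symm

end Acting

end Cfsg.Agent.GroupPartition
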