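import Mathlib
import Cfsg.Prelude.Def_Solvable

/-!
# Groups with a partition: components and elementary facts

`GroupPartition.Part G` records, for every `g ≠ 1`, the component `comp g` containing it, for a
nontrivial partition invariant under conjugation.
-/

set_option autoImplicit false
set_option linter.style.haveILetI false

namespace Cfsg.Agent.GroupPartition

open Subgroup

/-- A nontrivial conjugation-invariant partition, as the component map. -/
structure Part (G : Type*) [Group G] where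
  comp : G → Subgroup G
  mem : ∀ g, g ∈ comp g
  eq_of_mem : ∀ {g h : G}, g ≠ 1 → h ∈ comp g → h ≠ 1 → comp h = comp g
  conj : ∀ {g : G} (a : G), g ≠ 1 → comp (a * g * a⁻¹) = (comp g).map (MulAut.conj a).toMonoidHom
  ne_top : ∀ {g : G}, g ≠ 1 → comp g ≠ ⊤

variable {G : Type*} [Group G]

/-- The invariant refinement of a nontrivial partition. -/
theorem exists_part (S : Set (Subgroup G)) (hS2 : ∃ H ∈ S, ∃ K ∈ S, H ≠ K)
    (hS1 : ∀ H ∈ S, H ≠ ⊥) (hpart : ∀ g : G, g ≠ 1 → ∃! H : Subgroup G, H ∈ S ∧ g ∈ H) :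
    Nonempty (Part G) := by
  classical
  let c : G → Subgroup G := fun g => if h : g ≠ 1 then (hpart g h).exists.choose else ⊤
  have hc : ∀ {g : G}, g ≠ 1 → c g ∈ S ∧ g ∈ c g := fun {g} hg => by
    simp only [c, dif_pos hg]
    exact (hpart g hg).exists.choose_spec
  have huniq : ∀ {g : G} {H : Subgroup G}, g ≠ 1 → H ∈ S → g ∈ H → H = c g :=
    fun {g} {H} hg hH hgH => (hpart g hg).unique ⟨hH, hgH⟩ (hc hg)
  have hctop : ∀ {g : G}, g ≠ 1 → c g ≠ ⊤ := fun {g} hg htop => by
    obtain ⟨H, hH, K, hK, hne⟩ := hS2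
    have hall : ∀ L ∈ S, L = c g := fun L hL => by
      obtain ⟨⟨x, hx⟩, hx1⟩ := Subgroup.ne_bot_iff_exists_ne_one.1 (hS1 L hL)
      have hx1' : x ≠ 1 := fun e => hx1 (Subtype.ext e)
      rw [huniq hx1' hL hx, ← huniq hx1' (hc hg).1 (htop ▸ mem_top x)]
    exact hne ((hall H hH).trans (hall K hK).symm)
  have hconj1 : ∀ {g : G} (a : G), g ≠ 1 → a * g * a⁻¹ ≠ 1 := fun {g} a hg e =>
    hg (conj_eq_one_iff.1 e)
  refine ⟨{
    comp := fun g => ⨅ a : G, (c (a * g * a⁻¹)).comap (MulAut.conj a).toMonoidHom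
    mem := fun g => mem_iInf.2 fun a => ?_
    eq_of_mem := fun {g h} hg hh hh1 => ?_
    conj := fun {g} b hg => ?_
    ne_top := fun {g} hg htop => hctop (g := g) hg ?_ }⟩
  · show a * g * a⁻¹ ∈ c (a * g * a⁻¹)
    by_cases hg : g = 1
    · simp [hg]
    · exact (hc (hconj1 a hg)).2
  · refine iInf_congr fun a => ?_
    have h1 : a * h * a⁻¹ ∈ c (a * g * a⁻¹) := mem_iInf.1 hh a
    rw [huniq (hconj1 a hh1) (hc (hconj1 a hg)).1 h1]
  · ext x
    simp only [mem_iInf, mem_comap, Subgroup.mem_map, MulEquiv.coe_toMonoidHom, MulAut.conj_apply]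
    constructor
    · intro h
      refine ⟨b⁻¹ * x * b, fun a => ?_, by group⟩
      have := h (a * b⁻¹)
      rw [show a * b⁻¹ * (b * g * b⁻¹) * (a * b⁻¹)⁻¹ = a * g * a⁻¹ by group] at this
      rw [show a * (b⁻¹ * x * b) * a⁻¹ = a * b⁻¹ * x * (a * b⁻¹)⁻¹ by group]
      exact this
    · rintro ⟨y, hy, rfl⟩ a
      have := hy (a * b)
      rw [show a * (b * g * b⁻¹) * a⁻¹ = a * b * g * (a * b)⁻¹ by group,
        show a * (b * y * b⁻¹) * a⁻¹ = a * b * y * (a * b)⁻¹ by group]
      exact this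
  · refine eq_top_iff.2 fun x _ => ?_
    have := (mem_iInf.1 (htop ▸ mem_top x : x ∈ ⨅ a : G,
      (c (a * g * a⁻¹)).comap (MulAut.conj a).toMonoidHom)) 1
    simpa using this

/-- The conclusion allowed for nonsimple configurations: `S₄`, a proper Hughes subgroup, or a
Frobenius group. -/
def Small (G : Type*) [Group G] : Prop :=
  Nonempty (G ≃* Equiv.Perm (Fin 4)) ∨
    (∃ p : ℕ, p.Prime ∧ closure {g : G | g ^ p ≠ 1} ≠ ⊤) ∨
    ∃ H : Subgroup G, Cfsg.IsFrobeniusComplement H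

namespace Part

variable (P : Part G)

theorem comp_eq_of_common {g h x : G} (hg : g ≠ 1) (hh : h ≠ 1) (hx : x ≠ 1)
    (hxg : x ∈ P.comp g) (hxh : x ∈ P.comp h) : P.comp g = P.comp h :=
  (P.eq_of_mem hg hxg hx).symm.trans (P.eq_of_mem hh hxh hx)

theorem comp_ne_bot {g : G} (hg : g ≠ 1) : P.comp g ≠ ⊥ := fun e =>
  hg (Subgroup.mem_bot.1 (e ▸ P.mem g))

theorem comp_pow {g : G} {n : ℕ} (hg : g ^ n ≠ 1) : P.comp (g ^ n) = P.comp g :=
  P.eq_of_mem (fun e => hg (by rw [e, one_pow])) ((P.comp g).pow_mem (P.mem g) n) hg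

/-- A component which one element maps to a meeting conjugate is normalised by it. -/
theorem mem_normalizer_of_conj {g a x : G} (hg : g ≠ 1) (hx : x ∈ P.comp g) (hx1 : x ≠ 1)
    (hax : a * x * a⁻¹ ∈ P.comp g) : a ∈ normalizer (P.comp g : Set G) := by
  have h1 : (P.comp g).map (MulAut.conj a).toMonoidHom = P.comp g := by
    conv_lhs => rw [← P.eq_of_mem hg hx hx1, ← P.conj a hx1]
    exact P.eq_of_mem hg hax fun e => hx1 (conj_eq_one_iff.1 e)
  refine mem_normalizer_iff.2 fun n => ⟨fun hn => h1 ▸ ⟨n, hn, rfl⟩, fun hn => ?_⟩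
  rw [← h1] at hn
  obtain ⟨m, hm, hmn⟩ := hn
  rwa [← mul_left_cancel (mul_right_cancel (show a * m * a⁻¹ = a * n * a⁻¹ from hmn))]

theorem mem_normalizer_of_commute {g a x : G} (hg : g ≠ 1) (hx : x ∈ P.comp g) (hx1 : x ≠ 1)
    (hax : Commute a x) : a ∈ normalizer (P.comp g : Set G) :=
  P.mem_normalizer_of_conj hg hx hx1 (by rwa [hax.eq, mul_inv_cancel_right])

theorem self_mem_normalizer_self {g : G} : g ∈ normalizer (P.comp g : Set G) :=
  le_normalizer (P.mem g)

/-- Elements of two components normalising one another's component commute. -/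
theorem commute_of_normalizes {g h x y : G} (hg : g ≠ 1) (hh : h ≠ 1)
    (hne : P.comp g ≠ P.comp h) (hx : x ∈ P.comp g) (hy : y ∈ P.comp h)
    (hxn : x ∈ normalizer (P.comp h : Set G)) (hyn : y ∈ normalizer (P.comp g : Set G)) :
    Commute x y := by
  by_contra hc
  have h1 : x * y * x⁻¹ * y⁻¹ ∈ P.comp g := by
    rw [show x * y * x⁻¹ * y⁻¹ = x * (y * x⁻¹ * y⁻¹) by group]
    exact mul_mem hx ((mem_normalizer_iff.1 hyn _).1 (inv_mem hx))
  have h2 : x * y * x⁻¹ * y⁻¹ ∈ P.comp h :=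
    mul_mem ((mem_normalizer_iff.1 hxn _).1 hy) (inv_mem hy)
  refine hne (P.comp_eq_of_common hg hh (fun e => hc ?_) h1 h2)
  rw [mul_inv_eq_one, mul_inv_eq_iff_eq_mul] at e
  exact e

variable [Finite G]

/-- Commuting elements in different components have the same prime order. -/
theorem orderOf_eq_of_commute {x y : G} (hx : x ≠ 1) (hy : y ≠ 1) (hc : Commute x y)
    (hne : P.comp x ≠ P.comp y) : orderOf x = orderOf y ∧ (orderOf x).Prime := by
  have key : ∀ {x y : G}, x ≠ 1 → y ≠ 1 → Commute x y → P.comp x ≠ P.comp y →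
      ¬ orderOf x < orderOf y := by
    intro x y hx hy hc hne hlt
    have hyn : y ^ orderOf x ≠ 1 :=
      pow_ne_one_of_lt_orderOf (orderOf_pos x).ne' hlt
    have hxy : x * y ≠ 1 := fun e => hne (by
      rw [mul_eq_one_iff_eq_inv] at e
      exact P.eq_of_mem hy (e ▸ inv_mem (P.mem y)) hx)
    have e1 : (x * y) ^ orderOf x = y ^ orderOf x := by
      rw [hc.mul_pow, pow_orderOf_eq_one, one_mul]
    have h1 : P.comp (x * y) = P.comp y :=
      P.comp_eq_of_common hxy hy hyn (e1 ▸ pow_mem (P.mem _) _) (pow_mem (P.mem y) _)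
    have h2 : x ∈ P.comp y := by
      have := mul_mem (h1 ▸ P.mem (x * y)) (inv_mem (P.mem y))
      rwa [mul_inv_cancel_right] at this
    exact hne (P.eq_of_mem hy h2 hx)
  have heq : orderOf x = orderOf y := le_antisymm
    (not_lt.1 (key hy hx hc.symm hne.symm)) (not_lt.1 (key hx hy hc hne))
  refine ⟨heq, ?_⟩
  by_contra hnp
  obtain ⟨p, hp, hpd⟩ := Nat.exists_prime_and_dvd (fun h => hx (orderOf_eq_one_iff.1 h))
  have hlt : p < orderOf x := lt_of_le_of_ne (Nat.le_of_dvd (orderOf_pos x) hpd)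
    fun e => hnp (e ▸ hp)
  have hxp : x ^ p ≠ 1 := pow_ne_one_of_lt_orderOf hp.ne_zero hlt
  refine key hxp hy (hc.pow_left p) (by rwa [P.comp_pow hxp]) ?_
  rw [orderOf_pow_of_dvd hp.ne_zero hpd, ← heq]
  exact Nat.div_lt_self (orderOf_pos x) hp.one_lt

theorem comp_eq_of_commute {x y : G} (hx : x ≠ 1) (hy : y ≠ 1) (hc : Commute x y)
    (h : ¬ (orderOf x = orderOf y ∧ (orderOf x).Prime)) : P.comp x = P.comp y :=
  by_contra fun hne => h (P.orderOf_eq_of_commute hx hy hc hne)

/-- An element outside a component normalising it, fixing a point `u` of it: orders are equal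
primes, and all elements of its component which normalise the component have that order. -/
theorem orderOf_of_fixes {g h u k : G} (hg : g ≠ 1) (hh : h ∉ P.comp g) (hu : u ∈ P.comp g)
    (hu1 : u ≠ 1) (hc : Commute h u) (hk : k ∈ P.comp h) (hk1 : k ≠ 1)
    (hkn : k ∈ normalizer (P.comp g : Set G)) :
    orderOf h = orderOf u ∧ (orderOf h).Prime ∧ orderOf k = orderOf h := by
  have hh1 : h ≠ 1 := fun e => hh (e ▸ one_mem _)
  have hne : P.comp h ≠ P.comp u := fun e =>
    hh (P.eq_of_mem hg hu hu1 ▸ (e ▸ P.mem h))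
  obtain ⟨h1, h2⟩ := P.orderOf_eq_of_commute hh1 hu1 hc hne
  have hku : Commute k u := by
    refine P.commute_of_normalizes hh1 hu1 hne hk (P.mem u) ?_
      (P.mem_normalizer_of_commute hh1 (P.mem h) hh1 hc.symm)
    rwa [P.eq_of_mem hg hu hu1]
  obtain ⟨h3, -⟩ := P.orderOf_eq_of_commute hk1 hu1 hku (by rwa [P.eq_of_mem hh1 hk hk1])
  exact ⟨h1, h2, h3.trans h1.symm⟩

/-- The induced partition of a subgroup not contained in a component. -/
def restrict (L : Subgroup G) (hL : ∀ g : G, g ≠ 1 → ¬ L ≤ P.comp g) : Part L where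
  comp g := (P.comp (g : G)).subgroupOf L
  mem g := mem_subgroupOf.2 (P.mem _)
  eq_of_mem {g h} hg hh hh1 := by
    show (P.comp (h : G)).subgroupOf L = _
    rw [P.eq_of_mem (g := (g : G)) (fun e => hg (Subtype.ext e)) (mem_subgroupOf.1 hh)
      (fun e => hh1 (Subtype.ext e))]
  conj {g} a hg := by
    ext x
    rw [mem_subgroupOf, Subgroup.coe_mul, Subgroup.coe_mul, Subgroup.coe_inv,
      P.conj (a : G) (fun e => hg (Subtype.ext e))]
    constructor
    · rintro ⟨y, hy, hyx⟩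
      have hyL : y ∈ L := by
        have : y = (a : G)⁻¹ * x * a := by rw [← hyx]; simp [mul_assoc]
        rw [this]
        exact mul_mem (mul_mem (inv_mem a.2) x.2) a.2
      exact ⟨⟨y, hyL⟩, mem_subgroupOf.2 hy, Subtype.ext hyx⟩
    · rintro ⟨y, hy, rfl⟩
      exact ⟨y, mem_subgroupOf.1 hy, rfl⟩
  ne_top {g} hg := fun e => hL (g : G) (fun e' => hg (Subtype.ext e')) fun x hx => by
    have : (⟨x, hx⟩ : L) ∈ (P.comp (g : G)).subgroupOf L := e ▸ mem_top _
    exact mem_subgroupOf.1 this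

end Part

end Cfsg.Agent.GroupPartition
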