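import Cfsg.Agent.Lib.GroupPartition.Local
import Cfsg.Agent.Lib.Transfer.Thompson
import Cfsg.Agent.Lib.BSW.DihedralTI

/-!
# An involution centraliser of dihedral type

If some involution centralises a nontrivial element of odd order and no component contains the
centralisers of all its involutions, the Brauer–Suzuki–Wall theorem applies.
-/

set_option autoImplicit false
set_option linter.style.haveILetI false

namespace Cfsg.Agent.GroupPartition

open Subgroup

namespace Part

variable {G : Type*} [Group G]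

/-- `t` is central in its component, `s` centralises `t` from outside, `w` is not an involution. -/
structure DihedralType (P : Part G) (t s w : G) : Prop where
  ht : orderOf t = 2
  hcent : ∀ c ∈ P.comp t, Commute c t
  hst : Commute s t
  hs : s ∉ P.comp t
  hw : w ∈ P.comp t
  hw2 : w * w ≠ 1

variable [Finite G] {P : Part G} {t s w : G} (h : P.DihedralType t s w)
include h

theorem DihedralType.ne_one : t ≠ 1 := fun e => by simpa [e] using h.ht

theorem DihedralType.orderOf_s : orderOf s = 2 := P.orderOf_eq_two h.ht h.hst h.hs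

theorem DihedralType.replace {s' : G} (hc : Commute s' t) (hs : s' ∉ P.comp t) :
    P.DihedralType t s' w := ⟨h.ht, h.hcent, hc, hs, h.hw, h.hw2⟩

theorem DihedralType.inv {c : G} (hc : c ∈ P.comp t) : s * c * s⁻¹ = c⁻¹ :=
  P.inverts h.ht h.hst h.hs hc (h.hcent c hc)

theorem DihedralType.comm {a b : G} (ha : a ∈ P.comp t) (hb : b ∈ P.comp t) : Commute a b := by
  have h1 : (a * b)⁻¹ = a⁻¹ * b⁻¹ := by
    rw [← h.inv (mul_mem ha hb), ← h.inv ha, ← h.inv hb]; group
  rw [← mul_inv_rev] at h1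
  exact inv_injective h1

theorem DihedralType.commute_s {u : G} (hu : u ∈ P.comp t) (hu2 : u * u = 1) : Commute s u := by
  have h1 := h.inv hu
  rw [inv_eq_of_mul_eq_one_right hu2] at h1
  exact mul_inv_eq_iff_eq_mul.1 h1

/-- The centraliser of an involution of the component. -/
theorem DihedralType.commute_iff {u c : G} (hu : u ∈ P.comp t) (hu2 : orderOf u = 2) :
    Commute c u ↔ c ∈ P.comp t ∨ c * s ∈ P.comp t := by
  have hu1 : u ≠ 1 := fun e => by simp [e] at hu2
  have huu : u * u = 1 := by rw [← pow_two, ← hu2, pow_orderOf_eq_one]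
  have hsu := h.commute_s hu huu
  have hcu := P.eq_of_mem h.ne_one hu hu1
  constructor
  · intro hc
    refine or_iff_not_imp_left.2 fun hcX => by_contra fun hcs => ?_
    have hinv : ∀ {d : G}, Commute d u → d ∉ P.comp t → d * w * d⁻¹ = w⁻¹ := fun hd hdX =>
      P.inverts hu2 hd (hcu ▸ hdX) (hcu ▸ h.hw) (h.comm h.hw hu)
    have h1 := hinv (hc.mul_left hsu) hcs
    rw [show c * s * w * (c * s)⁻¹ = c * (s * w * s⁻¹) * c⁻¹ by group, h.inv h.hw,
      show c * w⁻¹ * c⁻¹ = (c * w * c⁻¹)⁻¹ by group, hinv hc hcX, inv_inv,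
      eq_inv_iff_mul_eq_one] at h1
    exact h.hw2 h1
  · rintro (hc | hc)
    · exact h.comm hc hu
    · have hss : s * s = 1 := by rw [← pow_two, ← h.orderOf_s, pow_orderOf_eq_one]
      have := (h.comm hc hu).mul_left hsu
      rwa [mul_assoc, hss, mul_one] at this

theorem DihedralType.commute_t_iff {c : G} :
    Commute c t ↔ c ∈ P.comp t ∨ c * s ∈ P.comp t :=
  h.commute_iff (P.mem t) h.ht

theorem DihedralType.not_conj_mem (a : G) (hexp : ∀ c, Commute c s → c * c = 1) :
    a * s * a⁻¹ ∉ P.comp t := by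
  intro hv
  have h1 := hexp (a⁻¹ * w * a) (by
    simpa [mul_assoc] using (h.comm h.hw hv).map (MulAut.conj a⁻¹).toMonoidHom)
  refine h.hw2 ?_
  calc w * w = a * (a⁻¹ * w * a * (a⁻¹ * w * a)) * a⁻¹ := by group
    _ = 1 := by rw [h1]; group

/-- With a second involution in the component, centralisers of outside involutions are
elementary abelian. -/
theorem DihedralType.exponent_two {u : G} (hu : u ∈ P.comp t) (hu2 : orderOf u = 2) (hut : u ≠ t)
    {c : G} (hc : Commute c s) : c * c = 1 := by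
  by_contra hcc
  have hs1 : s ≠ 1 := fun e => h.hs (e ▸ one_mem _)
  have hcY : c ∈ P.comp s := P.mem_of_commute_ne_two h.orderOf_s hc fun e =>
    hcc (by rw [← pow_two, ← e, pow_orderOf_eq_one])
  have key : ∀ v ∈ P.comp t, v ≠ 1 → v * v = 1 → v * c * v⁻¹ = c⁻¹ := fun v hv hv1 hvv =>
    P.inverts h.orderOf_s (h.commute_s hv hvv).symm (fun hvY => h.hs (by
      rw [← P.comp_eq_of_common hs1 h.ne_one hv1 hvY hv]; exact P.mem s)) hcY hc
  have huu : u * u = 1 := by rw [← pow_two, ← hu2, pow_orderOf_eq_one]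
  have htt : t * t = 1 := by rw [← pow_two, ← h.ht, pow_orderOf_eq_one]
  have h1 := key (t * u) (mul_mem (P.mem t) hu) (fun e => hut
    ((inv_eq_of_mul_eq_one_right e).symm.trans (inv_eq_of_mul_eq_one_right htt)))
    (by rw [← pow_two, (h.comm (P.mem t) hu).mul_pow, pow_two, pow_two, htt, huu, one_mul])
  rw [show t * u * c * (t * u)⁻¹ = t * (u * c * u⁻¹) * t⁻¹ by group,
    key u hu (fun e => by simp [e] at hu2) huu,
    show t * c⁻¹ * t⁻¹ = (t * c * t⁻¹)⁻¹ by group, key t (P.mem t) h.ne_one htt, inv_inv,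
    eq_inv_iff_mul_eq_one] at h1
  exact hcc h1

/-- A Sylow subgroup centralising an involution of the component, and containing `s`, meets it
with index two. -/
theorem DihedralType.relIndex {S : Sylow 2 G} {v : G} (hv : v ∈ P.comp t) (hv2 : orderOf v = 2)
    (hsS : s ∈ (S : Subgroup G)) (hS : ∀ c ∈ (S : Subgroup G), Commute c v) :
    ((S : Subgroup G) ⊓ P.comp t).relIndex (S : Subgroup G) = 2 := by
  refine Subgroup.index_eq_two_iff.2 ⟨⟨s, hsS⟩, fun b => ?_⟩
  simp only [mem_subgroupOf, Subgroup.mem_inf, Subgroup.coe_mul, mul_mem b.2 hsS, b.2, true_and]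
  rcases (h.commute_iff hv hv2).1 (hS b b.2) with hb | hb
  · exact Or.inr ⟨hb, fun hbs => h.hs (by simpa using mul_mem (inv_mem hb) hbs)⟩
  · exact Or.inl ⟨hb, fun hb' => h.hs (by simpa using mul_mem (inv_mem hb') hb)⟩

omit h in
theorem no_index_two [IsSimpleGroup G] (hne : ∃ a b : G, a * b ≠ b * a) (M : Subgroup G)
    (hM : M.Normal) : M.index ≠ 2 := fun hi => by
  rcases hM.eq_bot_or_eq_top with rfl | rfl
  · rw [index_bot] at hi
    haveI : IsCyclic G := by
      haveI : Fact (Nat.Prime 2) := ⟨Nat.prime_two⟩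
      exact isCyclic_of_prime_card hi
    obtain ⟨a, b, hab⟩ := hne
    obtain ⟨g, hg⟩ := IsCyclic.exists_generator (α := G)
    obtain ⟨i, rfl⟩ := mem_zpowers_iff.1 (hg a)
    obtain ⟨j, rfl⟩ := mem_zpowers_iff.1 (hg b)
    exact hab (zpow_mul_comm g i j)
  · rw [index_top] at hi
    omega

/-- A simple group has a single involution in such a component. -/
theorem DihedralType.eq_t [IsSimpleGroup G] (hne : ∃ a b : G, a * b ≠ b * a) {u : G}
    (hu : u ∈ P.comp t) (hu2 : orderOf u = 2) : u = t := by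
  by_contra hut
  haveI : Fact (Nat.Prime 2) := ⟨Nat.prime_two⟩
  obtain ⟨S, hS⟩ := (IsPGroup.to_sup_of_normal_left'
    (IsPGroup.of_card (p := 2) (n := 1) (by rw [Nat.card_zpowers, h.ht, pow_one]) : IsPGroup 2 (zpowers t))
    (IsPGroup.of_card (p := 2) (n := 1) (by rw [Nat.card_zpowers, h.orderOf_s, pow_one]) : IsPGroup 2 (zpowers s))
    (zpowers_le.2 (Subgroup.centralizer_le_normalizer _ (mem_centralizer_iff.2 fun y hy => by
        obtain ⟨n, rfl⟩ := mem_zpowers_iff.1 hy
        exact (h.hst.zpow_right n).symm.eq)))).exists_le_sylow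
  have htS : t ∈ (S : Subgroup G) := hS (mem_sup_left (mem_zpowers t))
  have hsS : s ∈ (S : Subgroup G) := hS (mem_sup_right (mem_zpowers s))
  haveI : Nontrivial (S : Subgroup G) := ⟨⟨⟨t, htS⟩, 1, fun e => h.ne_one (congrArg Subtype.val e)⟩⟩
  haveI := S.2.center_nontrivial
  have hZ : 2 ∣ Nat.card (Subgroup.center (S : Subgroup G)) := by
    obtain ⟨n, hn, hc⟩ := (S.2.to_subgroup (Subgroup.center (S : Subgroup G))).nontrivial_iff_card.1
      inferInstance
    exact hc ▸ dvd_pow_self 2 hn.ne'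
  obtain ⟨⟨⟨z, hzS⟩, hzc⟩, hz2⟩ := exists_prime_orderOf_dvd_card' 2 hZ
  rw [← Subgroup.orderOf_coe, ← Subgroup.orderOf_coe] at hz2
  have hzc' : ∀ c ∈ (S : Subgroup G), Commute c z := fun c hc =>
    congrArg Subtype.val (Subgroup.mem_center_iff.1 hzc ⟨c, hc⟩)
  obtain ⟨v, hv, hv2, hSv⟩ : ∃ v ∈ P.comp t, orderOf v = 2 ∧
      ∀ c ∈ (S : Subgroup G), Commute c v := by
    by_cases hzX : z ∈ P.comp t
    · exact ⟨z, hzX, hz2, hzc'⟩
    refine ⟨t, P.mem t, h.ht, fun c hc => ?_⟩
    have h' := h.replace (hzc' t htS).symm hzX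
    have hexp : ∀ a ∈ (S : Subgroup G), a⁻¹ = a := fun a ha =>
      inv_eq_of_mul_eq_one_right (h'.exponent_two hu hu2 hut (hzc' a ha))
    show c * t = t * c
    rw [← hexp (c * t) (mul_mem hc htS), mul_inv_rev, hexp c hc, hexp t htS]
  obtain ⟨M, hMn, hMi, -⟩ := Transfer.exists_index_two_of_involution S
    ((S : Subgroup G) ⊓ P.comp t) inf_le_left (h.relIndex hv hv2 hsS hSv) s
    (by rw [← h.orderOf_s, pow_orderOf_eq_one]) hsS (fun hs => h.hs hs.2)
    fun a ha => h.not_conj_mem a (fun c hc => h.exponent_two hu hu2 hut hc) ha.2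
  exact no_index_two hne M hMn hMi

/-- A single involution in the component makes it a normal subgroup of index two in `C(t)`. -/
theorem DihedralType.normalizer_iff [IsSimpleGroup G] (hne : ∃ a b : G, a * b ≠ b * a) {a : G} :
    a ∈ normalizer (P.comp t : Set G) ↔ Commute a t := by
  refine ⟨fun ha => ?_, fun ha => P.mem_normalizer_of_commute h.ne_one (P.mem t) h.ne_one ha⟩
  exact mul_inv_eq_iff_eq_mul.1 (h.eq_t hne (P.conj_mem ha (P.mem t))
    ((MulAut.conj a).orderOf_eq t ▸ h.ht))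

/-- Some Sylow 2-subgroup contains `s` and centralises `t`. -/
theorem DihedralType.exists_sylow [IsSimpleGroup G] (hne : ∃ a b : G, a * b ≠ b * a) :
    ∃ S : Sylow 2 G, s ∈ (S : Subgroup G) ∧ ∀ c ∈ (S : Subgroup G), Commute c t := by
  haveI : Fact (Nat.Prime 2) := ⟨Nat.prime_two⟩
  set C := centralizer ({t} : Set G) with hC
  have htC : t ∈ C := mem_centralizer_singleton_iff.2 rfl
  have hsC : s ∈ C := mem_centralizer_singleton_iff.2 h.hst.eq
  have hP0 : IsPGroup 2 (zpowers (⟨t, htC⟩ : C) ⊔ zpowers (⟨s, hsC⟩ : C) : Subgroup C) := by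
    refine IsPGroup.to_sup_of_normal_left'
      (IsPGroup.of_card (n := 1) (by rw [Nat.card_zpowers, Subgroup.orderOf_mk, h.ht, pow_one]))
      (IsPGroup.of_card (n := 1) (by
        rw [Nat.card_zpowers, Subgroup.orderOf_mk, h.orderOf_s, pow_one]))
      (zpowers_le.2 (Subgroup.centralizer_le_normalizer _ (mem_centralizer_iff.2 fun y hy => ?_)))
    obtain ⟨n, rfl⟩ := mem_zpowers_iff.1 hy
    exact ((show Commute (⟨s, hsC⟩ : C) ⟨t, htC⟩ from Subtype.ext h.hst).zpow_right n).symm.eq
  obtain ⟨S₁, hS₁⟩ := hP0.exists_le_sylow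
  obtain ⟨S, hS⟩ := (S₁.isPGroup'.map C.subtype).exists_le_sylow
  have htS : t ∈ (S : Subgroup G) := hS ⟨_, hS₁ (mem_sup_left (mem_zpowers _)), rfl⟩
  have hsS : s ∈ (S : Subgroup G) := hS ⟨_, hS₁ (mem_sup_right (mem_zpowers _)), rfl⟩
  refine ⟨S, hsS, by_contra fun hnS => ?_⟩
  haveI : Nontrivial (S : Subgroup G) := ⟨⟨⟨t, htS⟩, 1, fun e => h.ne_one (congrArg Subtype.val e)⟩⟩
  haveI := S.2.center_nontrivial
  have hZ : 2 ∣ Nat.card (Subgroup.center (S : Subgroup G)) := by
    obtain ⟨n, hn, hc⟩ := (S.2.to_subgroup (Subgroup.center (S : Subgroup G))).nontrivial_iff_card.1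
      inferInstance
    exact hc ▸ dvd_pow_self 2 hn.ne'
  obtain ⟨⟨⟨z, hzS⟩, hzc⟩, hz2⟩ := exists_prime_orderOf_dvd_card' 2 hZ
  rw [← Subgroup.orderOf_coe, ← Subgroup.orderOf_coe] at hz2
  have hzc' : ∀ c ∈ (S : Subgroup G), Commute c z := fun c hc =>
    congrArg Subtype.val (Subgroup.mem_center_iff.1 hzc ⟨c, hc⟩)
  have hzt : Commute t z := hzc' t htS
  have hzX : z ∉ P.comp t := fun hz => hnS fun c hc => h.eq_t hne hz hz2 ▸ hzc' c hc
  have hz1 : z ≠ 1 := fun e => hzX (e ▸ one_mem _)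
  have htY : t ∉ P.comp z := fun ht' => hzX ((P.eq_of_mem hz1 ht' h.ne_one).symm ▸ P.mem z)
  have hcase : ∀ c ∈ (S : Subgroup G), c ∈ P.comp z ∨ c * t ∈ P.comp z := fun c hc =>
    or_iff_not_imp_left.2 fun hcY => by_contra fun hctY => hnS fun b hb => by
      have hsq : ∀ a ∈ (S : Subgroup G), a⁻¹ = a := fun a ha => by
        refine inv_eq_of_mul_eq_one_right ?_
        by_cases haY : a ∈ P.comp z
        · have h1 := P.inverts hz2 (hzc' _ (mul_mem hc htS)) hctY haY (hzc' a ha)
          rw [show c * t * a * (c * t)⁻¹ = c * (t * a * t⁻¹) * c⁻¹ by group,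
            P.inverts hz2 hzt htY haY (hzc' a ha),
            show c * a⁻¹ * c⁻¹ = (c * a * c⁻¹)⁻¹ by group,
            P.inverts hz2 (hzc' c hc) hcY haY (hzc' a ha), inv_inv, eq_inv_iff_mul_eq_one] at h1
          exact h1
        · rw [← pow_two, ← P.orderOf_eq_two hz2 (hzc' a ha) haY, pow_orderOf_eq_one]
      show b * t = t * b
      rw [← hsq (b * t) (mul_mem hb htS), mul_inv_rev, hsq b hb, hsq t htS]
  have hrel : ((S : Subgroup G) ⊓ P.comp z).relIndex (S : Subgroup G) = 2 := by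
    refine Subgroup.index_eq_two_iff.2 ⟨⟨t, htS⟩, fun b => ?_⟩
    simp only [mem_subgroupOf, Subgroup.mem_inf, Subgroup.coe_mul, mul_mem b.2 htS, b.2, true_and]
    rcases hcase b b.2 with hb | hb
    · exact Or.inr ⟨hb, fun hbt => htY (by simpa using mul_mem (inv_mem hb) hbt)⟩
    · exact Or.inl ⟨hb, fun hb' => htY (by simpa using mul_mem (inv_mem hb') hb)⟩
  obtain ⟨a, haS, haY⟩ : ∃ a : G, a * t * a⁻¹ ∈ (S : Subgroup G) ⊓ P.comp z := by
    by_contra hno
    push Not at hno
    obtain ⟨M, hMn, hMi, -⟩ := Transfer.exists_index_two_of_involution S _ inf_le_left hrel t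
      (by rw [← h.ht, pow_orderOf_eq_one]) htS (fun ht' => htY ht'.2) hno
    exact no_index_two hne M hMn hMi
  -- `z` is a conjugate of `t`
  have hmap := P.conj a h.ne_one
  rw [P.eq_of_mem hz1 haY (conj_ne_one a h.ne_one)] at hmap
  have hzmem := P.mem z
  rw [hmap] at hzmem
  obtain ⟨z₀, hz₀, rfl⟩ := hzmem
  replace hz2 : orderOf z₀ = 2 := ((MulAut.conj a).orderOf_eq z₀).symm.trans hz2
  obtain rfl := h.eq_t hne hz₀ hz2
  simp only [MulEquiv.coe_toMonoidHom, MulAut.conj_apply] at hzc'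
  have hle : (S : Subgroup G).map (MulAut.conj a⁻¹).toMonoidHom ≤ C := by
    rintro _ ⟨c, hc, rfl⟩
    exact mem_centralizer_singleton_iff.2
      (by simpa [mul_assoc, commute_iff_eq] using (hzc' c hc).map (MulAut.conj a⁻¹).toMonoidHom)
  obtain ⟨T, hT⟩ := ((S.isPGroup'.map (MulAut.conj a⁻¹).toMonoidHom).of_equiv
    (Subgroup.subgroupOfEquivOfLe hle).symm).exists_le_sylow
  have h1 : Nat.card (S : Subgroup G) ≤ Nat.card (S₁ : Subgroup C) := by
    refine le_trans ?_ ((Subgroup.card_le_of_le hT).trans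
      (Sylow.card_eq_multiplicity T ▸ Sylow.card_eq_multiplicity S₁ ▸ le_rfl))
    rw [Nat.card_congr (Subgroup.subgroupOfEquivOfLe hle).toEquiv,
      Subgroup.card_map_of_injective (MulAut.conj a⁻¹).injective]
  have heq : (S₁ : Subgroup C).map C.subtype = S := Subgroup.eq_of_le_of_card_ge hS (by
    rwa [Subgroup.card_map_of_injective C.subtype_injective])
  exact hnS fun c hc => by
    obtain ⟨c', -, rfl⟩ := heq.symm ▸ hc
    exact mem_centralizer_singleton_iff.1 c'.2

/-- All involutions are conjugate to `t`. -/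
theorem DihedralType.isConj_t [IsSimpleGroup G] (hne : ∃ a b : G, a * b ≠ b * a) {x : G}
    (hx : orderOf x = 2) : IsConj t x := by
  haveI : Fact (Nat.Prime 2) := ⟨Nat.prime_two⟩
  obtain ⟨S, hsS, hS⟩ := h.exists_sylow hne
  obtain ⟨T, hT⟩ := (IsPGroup.of_card (p := 2) (n := 1) (by rw [Nat.card_zpowers, hx, pow_one]) :
    IsPGroup 2 (zpowers x)).exists_le_sylow
  obtain ⟨a, ha⟩ := MulAction.exists_smul_eq G T S
  have hxS : a * x * a⁻¹ ∈ (S : Subgroup G) := by
    rw [← ha, Sylow.coe_subgroup_smul]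
    exact ⟨x, hT (mem_zpowers x), rfl⟩
  have hx' : orderOf (a * x * a⁻¹) = 2 := (MulAut.conj a).orderOf_eq x ▸ hx
  obtain ⟨b, hb⟩ : ∃ b : G, b * (a * x * a⁻¹) * b⁻¹ ∈ P.comp t := by
    by_contra hno
    push Not at hno
    obtain ⟨M, hMn, hMi, -⟩ := Transfer.exists_index_two_of_involution S
      ((S : Subgroup G) ⊓ P.comp t) inf_le_left (h.relIndex (P.mem t) h.ht hsS hS) (a * x * a⁻¹)
      (by rw [← hx', pow_orderOf_eq_one]) hxS (fun hq => hno 1 (by simpa using hq.2))
      fun b hb => hno b hb.2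
    exact no_index_two hne M hMn hMi
  have e := h.eq_t hne hb (((MulAut.conj b).orderOf_eq _).trans hx')
  exact (isConj_iff.2 ⟨b * a, by rw [← e]; group⟩).symm

/-- The group is `PSL(2, q)`. -/
theorem DihedralType.exists_psl [IsSimpleGroup G] (hne : ∃ a b : G, a * b ≠ b * a) :
    ∃ (F : Type) (_ : Field F) (_ : Fintype F),
      Nonempty (G ≃* Matrix.ProjectiveSpecialLinearGroup (Fin 2) F) := by
  letI := Fintype.ofFinite G
  have hXC : P.comp t ≤ centralizer ({t} : Set G) := fun c hc =>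
    mem_centralizer_singleton_iff.2 (h.hcent c hc).eq
  have hsC : s ∈ centralizer ({t} : Set G) := mem_centralizer_singleton_iff.2 h.hst.eq
  have htt : t * t = 1 := by rw [← pow_two, ← h.ht, pow_orderOf_eq_one]
  let c : BSW.Config G :=
  { t := t, K := P.comp t, s := s, ht := h.ht
    comm := fun x hx y hy => (h.comm hx hy).eq
    hKH := hXC, htK := P.mem t, hs := h.orderOf_s, hsH := hsC, hsK := h.hs
    hH := by
      refine le_antisymm (sup_le hXC (zpowers_le.2 hsC)) fun x hx => ?_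
      rcases h.commute_t_iff.1 (mem_centralizer_singleton_iff.1 hx) with hx' | hx'
      · exact mem_sup_left hx'
      · have := mul_mem (mem_sup_left hx' (T := zpowers s)) (inv_mem (mem_sup_right (mem_zpowers s)))
        rwa [mul_inv_cancel_right] at this
    hCK := by
      refine le_antisymm (fun x hx => ?_) (zpowers_le.2
        ⟨P.mem t, mem_centralizer_singleton_iff.2 h.hst.symm.eq⟩)
      have h1 := h.inv hx.1
      rw [(show Commute x s from mem_centralizer_singleton_iff.1 hx.2).symm.eq, mul_inv_cancel_right,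
        eq_inv_iff_mul_eq_one, ← pow_two] at h1
      rcases (Nat.dvd_prime Nat.prime_two).1 (orderOf_dvd_of_pow_eq_one h1) with e | e
      · rw [orderOf_eq_one_iff.1 e]; exact one_mem _
      · rw [h.eq_t hne hx.1 e]; exact mem_zpowers t
    hinv := fun x hx => h.inv hx
    hTI := fun a ha => (eq_bot_iff_forall _).2 fun x ⟨hxX, y, hy, hyx⟩ => by_contra fun hx1 => by
      subst hyx
      exact ha (mem_centralizer_singleton_iff.2 ((h.normalizer_iff hne).1
        (P.mem_normalizer_of_conj h.ne_one hy (fun e => hx1 (by simp [e])) hxX)).eq)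
    hconj := fun x y hx hy => (h.isConj_t hne hx).symm.trans (h.isConj_t hne hy) }
  obtain ⟨Q, D, hG, hQC, -, hD, hQD, hN, -⟩ := c.conclusion
  obtain ⟨F, iF, iFt, -, e⟩ := BSW.DihedralTI.exists_psl hG hQC hD hQD hN (by
    by_contra h5
    have hpos : 0 < Nat.card D := Nat.card_pos
    have hq3 : Nat.card Q = 3 := by omega
    rw [hq3] at hG
    have h12 : Nat.card G = 12 := by omega
    set C := centralizer ({t} : Set G) with hC
    have hCtop : C ≠ ⊤ := fun htop => by
      have hz : zpowers t ≤ Subgroup.center G := zpowers_le.2 (Subgroup.mem_center_iff.2 fun x =>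
        mem_centralizer_singleton_iff.1 (htop ▸ mem_top x : x ∈ C))
      rcases (inferInstance : (Subgroup.center G).Normal).eq_bot_or_eq_top with e | e
      · rw [e, le_bot_iff, zpowers_eq_bot] at hz
        exact h.ne_one hz
      · obtain ⟨a, b, hab⟩ := hne
        exact hab (Subgroup.mem_center_iff.1 (e ▸ mem_top b) a)
    have h2 : 2 ∣ Nat.card (P.comp t) := h.ht ▸ (P.comp t).orderOf_dvd_natCard (P.mem t)
    have h3 : 3 ≤ Nat.card (P.comp t) := by
      refine le_trans ?_ (Nat.le_of_dvd Nat.card_pos ((P.comp t).orderOf_dvd_natCard h.hw))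
      by_contra hlt
      interval_cases ho : orderOf w
      · exact (orderOf_pos w).ne' ho
      · exact h.hw2 (by rw [orderOf_eq_one_iff.1 ho, one_mul])
      · exact h.hw2 (by rw [← pow_two, ← ho, pow_orderOf_eq_one])
    have hlt : Nat.card (P.comp t) < Nat.card C := by
      refine lt_of_le_of_ne (Subgroup.card_le_of_le hXC) fun e => h.hs ?_
      rw [Subgroup.eq_of_le_of_card_ge hXC e.ge]
      exact hsC
    have hClt : Nat.card C < 12 := h12 ▸ lt_of_le_of_ne (Subgroup.card_le_card_group _) fun e =>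
      hCtop (Subgroup.eq_top_of_card_eq _ e)
    obtain ⟨j, hj⟩ := Subgroup.card_dvd_of_le hXC
    obtain ⟨k, hk⟩ := h12 ▸ Subgroup.card_subgroup_dvd_card C
    have hj2 : 2 ≤ j := by nlinarith
    have h8 : 8 ≤ Nat.card C := by
      obtain ⟨i, hi⟩ := h2
      rw [hj]
      calc 8 = 4 * 2 := rfl
        _ ≤ _ := Nat.mul_le_mul (by omega) hj2
    interval_cases Nat.card C <;> omega)
  exact ⟨F, iF, iFt, e⟩

end Part

end Cfsg.Agent.GroupPartition
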