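import Cfsg.Agent.Lib.GroupPartition.Normal

/-!
# An elementary abelian normal subgroup meeting several components

Then the group is a Frobenius group, a `p`-group, or the symmetric group of degree four.
-/

set_option autoImplicit false
set_option linter.style.haveILetI false
open scoped Pointwise IsMulCommutative

namespace Cfsg.Agent.GroupPartition

open Subgroup

/-- A group of order 24 with self-centralising normal four-group and an element of order three. -/
theorem nonempty_equiv_perm_four {G : Type*} [Group G] [Finite G] (A : Subgroup G) [A.Normal]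
    (hA : centralizer (A : Set G) ≤ A) (hG : Nat.card G = 24) (H : Subgroup G)
    (hH : Nat.card H = 6) (hd : A ⊓ H = ⊥) : Nonempty (G ≃* Equiv.Perm (Fin 4)) := by
  classical
  haveI := Fintype.ofFinite (G ⧸ H)
  have hidx : Nat.card (G ⧸ H) = 4 := by
    have h1 := H.card_mul_index
    rw [hH, hG, Subgroup.index_eq_card] at h1
    omega
  have hcore : H.normalCore = ⊥ := by
    refine (Subgroup.eq_bot_iff_forall _).2 fun k hk => ?_
    have hkc : k ∈ centralizer (A : Set G) := mem_centralizer_iff.2 fun a ha => by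
      have h1 : a * k * a⁻¹ * k⁻¹ ∈ A ⊓ H := by
        refine mem_inf.2 ⟨?_, ?_⟩
        · rw [show a * k * a⁻¹ * k⁻¹ = a * (k * a⁻¹ * k⁻¹) by group]
          exact A.mul_mem ha (Subgroup.Normal.conj_mem inferInstance _ (A.inv_mem ha) k)
        · exact mul_mem (H.normalCore_le ((Subgroup.normalCore_normal H).conj_mem k hk a))
            (H.inv_mem (H.normalCore_le hk))
      rw [hd, Subgroup.mem_bot, mul_inv_eq_one, mul_inv_eq_iff_eq_mul] at h1
      exact h1
    have h2 : k ∈ A ⊓ H := ⟨hA hkc, H.normalCore_le hk⟩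
    rwa [hd, Subgroup.mem_bot] at h2
  have hinj : Function.Injective (MulAction.toPermHom G (G ⧸ H)) := by
    rw [← MonoidHom.ker_eq_bot_iff, ← Subgroup.normalCore_eq_ker, hcore]
  have hbij : Function.Bijective (MulAction.toPermHom G (G ⧸ H)) :=
    (Nat.bijective_iff_injective_and_card _).2 ⟨hinj, by rw [hG, Nat.card_perm, hidx]; rfl⟩
  exact ⟨(MulEquiv.ofBijective _ hbij).trans
    (Equiv.permCongrHom (Finite.equivFinOfCardEq hidx))⟩

namespace Part

variable {G : Type*} [Group G] [Finite G] (P : Part G)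

include P in
/-- A `p`-group with a partition has a proper Hughes subgroup. -/
theorem small_of_isPGroup {p : ℕ} [Fact p.Prime] (hG : IsPGroup p G) {g : G} (hg : g ≠ 1) :
    Small G := by
  haveI : Nontrivial G := ⟨⟨g, 1, hg⟩⟩
  haveI := hG.center_nontrivial
  obtain ⟨⟨z, hz⟩, hz1⟩ := exists_ne (1 : Subgroup.center G)
  have hz1' : z ≠ 1 := fun e => hz1 (Subtype.ext e)
  refine Or.inr (Or.inl ⟨p, Fact.out, fun e => P.ne_top hz1' (eq_top_iff.2 (e ▸
    (closure_le _).2 fun x hx => ?_))⟩)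
  have hx1 : x ≠ 1 := fun e => hx (by rw [e, one_pow])
  rw [← P.comp_eq_of_commute hx1 hz1' (Subgroup.mem_center_iff.1 hz x) ?_]
  · exact P.mem x
  rintro ⟨-, hp⟩
  obtain ⟨k, hk⟩ := IsPGroup.iff_orderOf.1 hG x
  have hp' : orderOf x = p := by
    rw [hk] at hp ⊢
    rw [Nat.Prime.eq_one_of_pow hp, pow_one]
  exact hx (by rw [← hp', pow_orderOf_eq_one])

section Split

variable {A : Subgroup G} [A.Normal] [IsMulCommutative A] {p : ℕ} [hp : Fact p.Prime]
  (hexp : ∀ a ∈ A, a ^ p = 1) (hsplit : ∀ g : G, g ≠ 1 → ¬ A ≤ P.comp g)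
include hexp hsplit

omit [Finite G] hexp hsplit hp in
theorem normalizes_comp {a v : G} (ha : a ∈ A) (ha1 : a ≠ 1) (hv : v ∈ A) :
    v ∈ normalizer (P.comp a : Set G) :=
  P.mem_normalizer_of_commute ha1 (P.mem a) ha1
    (congrArg Subtype.val (mul_comm (⟨v, hv⟩ : A) ⟨a, ha⟩))

/-- Components meeting `A` are `p`-groups. -/
theorem orderOf_eq_of_mem_comp {a h : G} (ha : a ∈ A) (ha1 : a ≠ 1) (hh : h ∈ P.comp a)
    (hprime : (orderOf h).Prime) : orderOf h = p := by
  classical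
  by_contra hne
  set r := orderOf h with hr
  set X := P.comp a
  refine hsplit a ha1 fun v hv => ?_
  have hhA : h ∈ normalizer (A : Set G) := by rw [Subgroup.normalizer_eq_top]; exact mem_top h
  set D := X ⊓ A
  have hstep : ∀ w ∈ A, h * w * h⁻¹ * w⁻¹ ∈ D := fun w hw => by
    refine mem_inf.2 ⟨?_, mul_mem ((mem_normalizer_iff.1 hhA w).1 hw) (inv_mem hw)⟩
    rw [show h * w * h⁻¹ * w⁻¹ = h * (w * h⁻¹ * w⁻¹) by group]
    exact X.mul_mem hh ((mem_normalizer_iff.1 (P.normalizes_comp ha ha1 hw) _).1 (inv_mem hh))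
  have hpow : ∀ i : ℕ, ∀ w ∈ A, h ^ i * w * (h ^ i)⁻¹ * w⁻¹ ∈ D := fun i => by
    induction i with
    | zero => intro w _; simp
    | succ i ih =>
      intro w hw
      have h2 : h * w * h⁻¹ ∈ A := (mem_normalizer_iff.1 hhA w).1 hw
      have h3 := mul_mem (ih _ h2) (hstep w hw)
      rw [show h ^ (i + 1) * w * (h ^ (i + 1))⁻¹ * w⁻¹ =
        h ^ i * (h * w * h⁻¹) * (h ^ i)⁻¹ * (h * w * h⁻¹)⁻¹ * (h * w * h⁻¹ * w⁻¹) by
        rw [pow_succ]; group]
      exact h3
  let ψ : G →* MulAut A := MulAut.conjNormal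
  set c : A := ∏ i ∈ Finset.range r, ψ (h ^ i) ⟨v, hv⟩ with hc
  have hcfix : ψ h c = c := by
    rw [hc, map_prod]
    have hshift : ∀ f : ℕ → A, f r = f 0 →
        ∏ i ∈ Finset.range r, f (i + 1) = ∏ i ∈ Finset.range r, f i := fun f hf => by
      have h1 := Finset.prod_range_succ' f r
      rw [Finset.prod_range_succ, hf] at h1
      exact (mul_right_cancel h1).symm
    rw [← hshift (fun i => ψ (h ^ i) ⟨v, hv⟩) (by rw [hr, pow_orderOf_eq_one, pow_zero])]
    refine Finset.prod_congr rfl fun i _ => ?_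
    rw [← MulAut.mul_apply, ← map_mul, ← pow_succ']
  have hcD : (c : G) ∈ D := by
    refine mem_inf.2 ⟨?_, c.2⟩
    by_cases hc1 : (c : G) = 1
    · rw [hc1]; exact one_mem X
    have h1 : Commute h (c : G) := by
      have := congrArg Subtype.val hcfix
      rw [MulAut.conjNormal_apply, mul_inv_eq_iff_eq_mul] at this
      exact this
    have hh1 : h ≠ 1 := fun e => hprime.ne_one (by rw [hr, e, orderOf_one])
    have h2 : P.comp (c : G) = P.comp h := P.comp_eq_of_commute hc1 hh1 h1.symm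
      fun ⟨e, _⟩ => hne (((Nat.prime_dvd_prime_iff_eq (e ▸ hprime) hp.out).1
        (orderOf_dvd_of_pow_eq_one (hexp _ c.2))).symm.trans e).symm
    have h3 := P.mem (c : G)
    rw [h2, P.eq_of_mem ha1 hh hh1] at h3
    exact h3
  have hmul : ((c : A) : G) * (v ^ r)⁻¹ ∈ D := by
    have h1 : c * ((⟨v, hv⟩ : A) ^ r)⁻¹ =
        ∏ i ∈ Finset.range r, (ψ (h ^ i) ⟨v, hv⟩ * (⟨v, hv⟩ : A)⁻¹) := by
      rw [Finset.prod_mul_distrib, Finset.prod_const, Finset.card_range, inv_pow, hc]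
    have h2 : c * ((⟨v, hv⟩ : A) ^ r)⁻¹ ∈ D.subgroupOf A := by
      rw [h1]
      refine Subgroup.prod_mem _ fun i _ => mem_subgroupOf.2 ?_
      rw [Subgroup.coe_mul, MulAut.conjNormal_apply]
      exact hpow i v hv
    simpa using mem_subgroupOf.1 h2
  have hvr : v ^ r ∈ D := by
    have := mul_mem (inv_mem hmul) hcD
    simpa [mul_assoc] using this
  obtain ⟨k, hk⟩ := exists_pow_eq_self_of_coprime (x := v) (n := r)
    (((Nat.coprime_primes hprime hp.out).2 hne).coprime_dvd_right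
      (orderOf_dvd_of_pow_eq_one (hexp v hv)))
  rw [← hk]
  exact pow_mem hvr.1 k

/-- Elements of prime order other than `p` act without fixed points on `A`. -/
theorem eq_one_of_commute {a h : G} (ha : a ∈ A) (hprime : (orderOf h).Prime) (hne : orderOf h ≠ p)
    (hc : Commute h a) : a = 1 := by
  by_contra ha1
  refine hne (P.orderOf_eq_of_mem_comp hexp hsplit ha ha1 ?_ hprime)
  rw [← P.comp_eq_of_commute (fun e => hprime.ne_one (by rw [e, orderOf_one])) ha1 hc]
  · exact P.mem h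
  rintro ⟨e, -⟩
  exact hne ((Nat.prime_dvd_prime_iff_eq hprime hp.out).1
    (e ▸ orderOf_dvd_of_pow_eq_one (hexp a ha)))

/-- No element of order `p q`. -/
theorem not_commute {x y : G} (hA1 : A ≠ ⊥) (hx : orderOf x = p) (hy : (orderOf y).Prime)
    (hne : orderOf y ≠ p) : ¬ Commute x y := by
  intro hc
  -- a fixed point of `x`
  have hW : IsPGroup p (A ⊔ zpowers x : Subgroup G) :=
    (show IsPGroup p A from fun a => ⟨1, Subtype.ext (by
      rw [SubmonoidClass.coe_pow, pow_one, OneMemClass.coe_one]; exact hexp a a.2)⟩).to_sup_of_normal_left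
      (IsPGroup.of_card (n := 1) (by rw [Nat.card_zpowers, hx, pow_one]))
  haveI := hW.isNilpotent
  haveI : (A.subgroupOf (A ⊔ zpowers x)).Normal := Subgroup.Normal.subgroupOf inferInstance _
  obtain ⟨⟨⟨a, haW⟩, haA, hac⟩, ha1⟩ := Subgroup.ne_bot_iff_exists_ne_one.1
    (Solvable.inf_center_ne_bot (N := A.subgroupOf (A ⊔ zpowers x)) (fun e => hA1 (by
      rw [Subgroup.subgroupOf_eq_bot, disjoint_iff, inf_eq_left.2 le_sup_left] at e
      exact e)))
  have hax : Commute x a := congrArg Subtype.val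
    (Subgroup.mem_center_iff.1 hac ⟨x, mem_sup_right (mem_zpowers x)⟩)
  have haA' : a ∈ A := mem_subgroupOf.1 haA
  have ha1' : a ≠ 1 := fun e => ha1 (Subtype.ext (Subtype.ext e))
  have hx1 : x ≠ 1 := fun e => by rw [e, orderOf_one] at hx; exact hp.out.one_lt.ne hx
  have hy1 : y ≠ 1 := fun e => hy.ne_one (by rw [e, orderOf_one])
  have hxy : orderOf (x * y) = p * orderOf y := by
    rw [hc.orderOf_mul_eq_mul_orderOf_of_coprime, hx]
    rw [hx]; exact (Nat.coprime_primes hp.out hy).2 hne.symm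
  have hnp : ¬ (orderOf (x * y)).Prime := by
    rw [hxy]; exact Nat.not_prime_mul hp.out.ne_one hy.ne_one
  have hk1 : x * y ≠ 1 := fun e => by
    rw [e, orderOf_one] at hxy
    exact hp.out.ne_one (Nat.eq_one_of_mul_eq_one_right hxy.symm)
  have hkx : P.comp x = P.comp (x * y) := (P.comp_eq_of_commute hk1 hx1
    ((Commute.refl x).mul_left hc.symm) fun h => hnp h.2).symm
  have hky : P.comp y = P.comp (x * y) := (P.comp_eq_of_commute hk1 hy1
    (hc.mul_left (Commute.refl y)) fun h => hnp h.2).symm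
  have han : a ∈ normalizer (P.comp (x * y) : Set G) :=
    hkx ▸ P.mem_normalizer_of_commute hx1 (P.mem x) hx1 hax.symm
  have hmem : a * (x * y) * a⁻¹ * (x * y)⁻¹ ∈ P.comp (x * y) ⊓ A := by
    refine mem_inf.2 ⟨mul_mem ((mem_normalizer_iff.1 han _).1 (P.mem _)) (inv_mem (P.mem _)), ?_⟩
    rw [show a * (x * y) * a⁻¹ * (x * y)⁻¹ = a * ((x * y) * a⁻¹ * (x * y)⁻¹) by group]
    exact mul_mem haA' (Subgroup.Normal.conj_mem inferInstance _ (inv_mem haA') _)
  by_cases he : a * (x * y) * a⁻¹ * (x * y)⁻¹ = 1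
  · rw [mul_inv_eq_one, mul_inv_eq_iff_eq_mul] at he
    have h1 : P.comp (x * y) = P.comp a :=
      P.comp_eq_of_commute hk1 ha1' he.symm fun h => hnp h.2
    refine hne (P.orderOf_eq_of_mem_comp hexp hsplit haA' ha1' ?_ hy)
    rw [← h1, ← hky]; exact P.mem y
  · refine hne (P.orderOf_eq_of_mem_comp hexp hsplit hmem.2 he ?_ hy)
    rw [P.eq_of_mem hk1 hmem.1 he, ← hky]; exact P.mem y

/-- An element of order `p` normalising a `p'`-subgroup forces a four-group. -/
theorem card_eq_four (hA1 : A ≠ ⊥) {g : G} {R : Subgroup G} (hg : orderOf g = p) (hR : R ≠ ⊥)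
    (hRp : ¬ p ∣ Nat.card R) (hgR : g ∈ normalizer (R : Set G)) : Nat.card A = 4 ∧ p = 2 := by
  classical
  let ψ : G →* MulAut A := MulAut.conjNormal
  have hgp : g ^ p = 1 := hg ▸ pow_orderOf_eq_one g
  have hrpow : ∀ r ∈ R, r ≠ 1 → ∃ n : ℕ, (orderOf (r ^ n)).Prime ∧ orderOf (r ^ n) ≠ p := by
    intro r hr hr1
    obtain ⟨q, hq, hqd⟩ := Nat.exists_prime_and_dvd (n := orderOf r)
      fun e => hr1 (orderOf_eq_one_iff.1 e)
    refine ⟨orderOf r / q, ?_, ?_⟩ <;> rw [orderOf_pow_orderOf_div (orderOf_pos r).ne' hqd]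
    · exact hq
    · exact fun e => hRp (e ▸ hqd.trans (R.orderOf_dvd_natCard hr))
  have hfR : ∀ r ∈ R, r ≠ 1 → ∀ a : A, ψ r a = a → a = 1 := by
    intro r hr hr1 a ha
    obtain ⟨n, hn1, hn2⟩ := hrpow r hr hr1
    have h1 := congrArg Subtype.val ha
    rw [MulAut.conjNormal_apply, mul_inv_eq_iff_eq_mul] at h1
    exact Subtype.ext (P.eq_one_of_commute hexp hsplit a.2 hn1 hn2 ((show Commute r a from h1).pow_left n))
  have hcR : ∀ r ∈ R, Commute g r → r = 1 := fun r hr hc => by_contra fun hr1 => by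
    obtain ⟨n, hn1, hn2⟩ := hrpow r hr hr1
    exact P.not_commute hexp hsplit hA1 hg hn1 hn2 (hc.pow_right n)
  set N : A → A := fun a => ∏ j ∈ Finset.range p, ψ (g ^ j) a with hN
  have hNmul : ∀ a b, N (a * b) = N a * N b := fun a b => by
    simp only [hN, map_mul, Finset.prod_mul_distrib]
  obtain ⟨a₀, ha₀⟩ : ∃ a, N a ≠ 1 := by
    by_contra hall
    push Not at hall
    refine hA1 ((Subgroup.eq_bot_iff_forall _).2 fun a ha => ?_)
    exact congrArg Subtype.val (subsingleton_of_norm ψ (p := p)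
      (fun b => Subtype.ext (hexp b b.2)) R g hgR hgp hR hRp hcR hfR hall ⟨a, ha⟩)
  obtain ⟨v₀, hv₀⟩ : ∃ v : A, g * (v : G) * g⁻¹ * (v : G)⁻¹ ≠ 1 := by
    by_contra hall
    push Not at hall
    refine ha₀ ?_
    have h1 : ∀ j : ℕ, ψ (g ^ j) a₀ = a₀ := fun j => by
      have h2 : Commute g (a₀ : G) := by
        have := hall a₀
        rw [mul_inv_eq_one, mul_inv_eq_iff_eq_mul] at this
        exact this
      exact Subtype.ext (by rw [MulAut.conjNormal_apply, (h2.pow_left j).eq, mul_inv_cancel_right])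
    simp only [hN, h1, Finset.prod_const, Finset.card_range]
    exact Subtype.ext (hexp a₀ a₀.2)
  set Z := P.comp (g * (v₀ : G) * g⁻¹ * (v₀ : G)⁻¹)
  -- all elements with nontrivial norm give elements of `Z`
  have hU : ∀ a : A, N a ≠ 1 → (a : G) * g ∈ Z := by
    intro a ha
    set w := (a : G) * g with hw
    have hwp : w ^ p = (N a : G) := by rw [hw, mul_pow_eq_prod A g a p, hgp, mul_one]
    have hwN : w ^ p ≠ 1 := fun e => ha (Subtype.ext (hwp ▸ e))
    have hw1 : w ≠ 1 := fun e => hwN (by rw [e, one_pow])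
    have hvn : (v₀ : G) ∈ normalizer (P.comp w : Set G) := by
      rw [← P.comp_pow hwN, hwp]
      exact P.normalizes_comp (N a).2 (fun e => ha (Subtype.ext e)) v₀.2
    have hgv : g * (v₀ : G) * g⁻¹ ∈ A := Subgroup.Normal.conj_mem inferInstance _ v₀.2 g
    have hmem : w * v₀ * w⁻¹ * (v₀ : G)⁻¹ ∈ P.comp w := by
      rw [show w * (v₀ : G) * w⁻¹ * (v₀ : G)⁻¹ = w * ((v₀ : G) * w⁻¹ * (v₀ : G)⁻¹) by group]
      exact mul_mem (P.mem w) ((mem_normalizer_iff.1 hvn _).1 (inv_mem (P.mem w)))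
    have heq : w * v₀ * w⁻¹ * (v₀ : G)⁻¹ = g * (v₀ : G) * g⁻¹ * (v₀ : G)⁻¹ := by
      have hc : Commute (a : G) (g * (v₀ : G) * g⁻¹) :=
        congrArg Subtype.val (mul_comm a (⟨_, hgv⟩ : A))
      rw [hw, show (a : G) * g * v₀ * ((a : G) * g)⁻¹ = (a : G) * (g * v₀ * g⁻¹) * (a : G)⁻¹ by
        group, hc.eq, mul_inv_cancel_right]
    have h1 : P.comp w = Z := by
      rw [heq] at hmem
      exact (P.eq_of_mem hw1 hmem hv₀).symm
    rw [← h1]; exact P.mem w
  have hquot : ∀ a b : A, N a ≠ 1 → N b ≠ 1 → (b : G) * (a : G)⁻¹ ∈ Z := fun a b ha hb => by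
    have := mul_mem (hU b hb) (inv_mem (hU a ha))
    rwa [show (b : G) * g * ((a : G) * g)⁻¹ = (b : G) * (a : G)⁻¹ by group] at this
  have hker : ∀ k : A, N k = 1 → (k : G) ∈ Z := fun k hk => by
    have hk' : N (k * a₀) ≠ 1 := by rwa [hNmul, hk, one_mul]
    have := hquot a₀ (k * a₀) ha₀ hk'
    rwa [Subgroup.coe_mul, mul_inv_cancel_right] at this
  have hZA : ¬ A ≤ Z := hsplit _ hv₀
  have ha₀Z : (a₀ : G) ∉ Z := fun e => hZA fun x hx => by
    by_cases hx' : N ⟨x, hx⟩ = 1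
    · exact hker _ hx'
    · have := mul_mem (hquot a₀ ⟨x, hx⟩ ha₀ hx') e
      rwa [inv_mul_cancel_right] at this
  have hNZ : ∀ a : A, (a : G) ∈ Z → N a = 1 := fun a ha => by_contra fun hN1 => ha₀Z (by
    have h1 := mul_mem (hquot a a₀ hN1 ha₀) ha
    rwa [inv_mul_cancel_right] at h1)
  have hp2 : p = 2 := by
    by_contra hp2
    have h2 : ¬ (2 : ℕ) ∣ p := fun h => hp2 ((Nat.prime_dvd_prime_iff_eq Nat.prime_two hp.out).1 h).symm
    have hsq : N (a₀ * a₀) ≠ 1 := by
      intro e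
      rw [hNmul, ← pow_two] at e
      refine ha₀ (orderOf_eq_one_iff.1 (Nat.dvd_one.1 ?_))
      rw [← ((Nat.prime_two.coprime_iff_not_dvd).2 h2).gcd_eq_one]
      exact Nat.dvd_gcd (orderOf_dvd_of_pow_eq_one e)
        (orderOf_dvd_of_pow_eq_one (Subtype.ext (hexp _ (N a₀).2)))
    have := hquot a₀ (a₀ * a₀) ha₀ hsq
    rw [Subgroup.coe_mul, mul_inv_cancel_right] at this
    exact ha₀Z this
  refine ⟨?_, hp2⟩
  subst hp2
  have hexp' : ∀ a : A, a * a = 1 := fun a => by
    rw [← pow_two]; exact Subtype.ext (hexp a a.2)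
  have hN2 : ∀ a, N a = a * ψ g a := fun a => by
    simp [hN, Finset.prod_range_succ]
  -- the fixed points of `g` and of a conjugate have index two and meet trivially
  set C : Subgroup A := (ψ g).toMonoidHom.eqLocus (MonoidHom.id A) with hC
  have hmemC : ∀ a, a ∈ C ↔ N a = 1 := fun a => by
    show ψ g a = a ↔ _
    rw [hN2]
    exact ⟨fun e => by rw [e, hexp'], fun e => mul_left_cancel (a := a) (e.trans (hexp' a).symm)⟩
  have hC2 : C.index = 2 := by
    refine Subgroup.index_eq_two_iff.2 ⟨a₀, fun b => ?_⟩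
    by_cases hb : b ∈ C
    · refine Or.inr ⟨hb, fun h => ha₀ ((hmemC a₀).1 ?_)⟩
      simpa using C.mul_mem (C.inv_mem hb) h
    · refine Or.inl ⟨(hmemC _).2 (hNZ _ ?_), hb⟩
      have h1 := hquot a₀ b ha₀ fun e => hb ((hmemC b).2 e)
      have h2 : ((a₀ : G))⁻¹ = a₀ := congrArg Subtype.val
        (inv_eq_of_mul_eq_one_right (hexp' a₀) : a₀⁻¹ = a₀)
      rwa [h2] at h1
  obtain ⟨⟨r, hr⟩, hr1⟩ := Subgroup.ne_bot_iff_exists_ne_one.1 hR
  have hr1' : r ≠ 1 := fun e => hr1 (Subtype.ext e)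
  set C' : Subgroup A := C.map (ψ r).toMonoidHom with hC'
  have hC'2 : C'.index = 2 := by
    rw [hC', Subgroup.index_map_of_bijective (f := (ψ r).toMonoidHom) (ψ r).bijective, hC2]
  have hinf : C ⊓ C' = ⊥ := by
    refine (Subgroup.eq_bot_iff_forall _).2 fun x hx => ?_
    obtain ⟨hx1, y, hy, hyx⟩ := hx
    have hxg : ψ g x = x := hx1
    have hxr : ψ (r * g * r⁻¹) x = x := by
      rw [← hyx]
      show ψ (r * g * r⁻¹) (ψ r y) = ψ r y
      rw [← MulAut.mul_apply, ← map_mul, inv_mul_cancel_right, map_mul, MulAut.mul_apply,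
        show ψ g y = y from hy]
    have he : g * (r * g * r⁻¹) ∈ R := by
      have hgg : g⁻¹ = g := inv_eq_of_mul_eq_one_right (by rw [← pow_two, hgp])
      rw [show g * (r * g * r⁻¹) = g * r * g⁻¹ * (g * g) * r⁻¹ by group,
        show g * g = 1 by rw [← pow_two, hgp]]
      rw [mul_one]
      exact R.mul_mem ((mem_normalizer_iff.1 hgR r).1 hr) (R.inv_mem hr)
    refine hfR _ he (fun e => hr1' (hcR r hr ?_)) x ?_
    · have h1 : r * g * r⁻¹ = g := by
        rw [mul_eq_one_iff_inv_eq, inv_eq_of_mul_eq_one_right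
          (show g * g = 1 by rw [← pow_two, hgp])] at e
        exact e.symm
      rw [mul_inv_eq_iff_eq_mul] at h1
      exact h1.symm
    · rw [map_mul, MulAut.mul_apply, hxr, hxg]
  have h4 : Nat.card A ≤ 4 := by
    have := Subgroup.index_inf_le (H := C) (K := C')
    rwa [hinf, Subgroup.index_bot, hC2, hC'2] at this
  have hA2 : IsPGroup 2 A := fun a => ⟨1, by rw [pow_one, pow_two, hexp']⟩
  obtain ⟨n, hn⟩ := IsPGroup.iff_card.1 hA2
  have hn3 : n ≤ 2 := (Nat.pow_le_pow_iff_right (le_refl 2)).1 (hn ▸ h4)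
  interval_cases n
  · exact absurd (Subgroup.eq_bot_of_card_eq A (hn.trans (pow_zero 2))) hA1
  · exfalso
    obtain ⟨⟨a, ha⟩, ha1⟩ := Subgroup.ne_bot_iff_exists_ne_one.1 hA1
    refine hsplit a (fun e => ha1 (Subtype.ext e)) fun x hx => ?_
    by_cases hx1 : x = 1
    · exact hx1 ▸ one_mem _
    have : (⟨x, hx⟩ : A) = ⟨a, ha⟩ := by
      have h2 : Nat.card A = 2 := hn.trans (pow_one 2)
      obtain ⟨y, hy, huniq⟩ := (Nat.card_eq_two_iff' (1 : A)).1 h2
      rw [huniq ⟨x, hx⟩ fun e => hx1 (congrArg Subtype.val e), huniq ⟨a, ha⟩ fun e => ha1 e]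
    rw [show x = a from congrArg Subtype.val this]
    exact P.mem a
  · rw [hn]; norm_num

end Split

/-- An elementary abelian normal subgroup meeting several components. -/
theorem small_of_elementary (A : Subgroup G) [A.Normal] [IsMulCommutative A] {p : ℕ} [hp : Fact p.Prime]
    (hA1 : A ≠ ⊥) (hexp : ∀ a ∈ A, a ^ p = 1) (hsplit : ∀ g : G, g ≠ 1 → ¬ A ≤ P.comp g) :
    Small G := by
  classical
  have hAp : IsPGroup p A := fun a => ⟨1, Subtype.ext (by
    rw [SubmonoidClass.coe_pow, pow_one, OneMemClass.coe_one]; exact hexp a a.2)⟩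
  by_cases hS : ∃ S : Sylow p G, (S : Subgroup G).Normal
  · obtain ⟨S, hS⟩ := hS
    haveI := hS
    by_cases hS1 : (S : Subgroup G) = ⊤
    · obtain ⟨⟨a, ha⟩, ha1⟩ := Subgroup.ne_bot_iff_exists_ne_one.1 hA1
      refine P.small_of_isPGroup (p := p) ?_ (g := a) (fun e => ha1 (Subtype.ext e))
      exact fun x => by
        obtain ⟨k, hk⟩ := S.2 ⟨x, hS1 ▸ mem_top x⟩
        exact ⟨k, congrArg Subtype.val hk⟩
    letI := Sylow.unique_of_normal S hS
    have hmem : ∀ x : G, (∃ k, orderOf x = p ^ k) → x ∈ (S : Subgroup G) := by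
      rintro x ⟨k, hk⟩
      obtain ⟨T, hT⟩ := (IsPGroup.of_card (G := zpowers x) (p := p) (n := k)
        (by rw [Nat.card_zpowers, hk])).exists_le_sylow
      rw [Subsingleton.elim S T]
      exact hT (mem_zpowers x)
    have hA : A ≤ (S : Subgroup G) := fun a ha => hmem a (by
      obtain ⟨k, hk⟩ := IsPGroup.iff_orderOf.1 hAp ⟨a, ha⟩
      exact ⟨k, by rwa [Subgroup.orderOf_mk] at hk⟩)
    refine small_of_coprime (S : Subgroup G) (fun e => hA1 (eq_bot_iff.2 (e ▸ hA))) hS1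
      S.card_coprime_index fun h hh k hk hc => ?_
    by_contra hk1
    obtain ⟨q, hq, hqd, hqp⟩ : ∃ q, q.Prime ∧ q ∣ orderOf h ∧ q ≠ p := by
      by_contra hall
      push Not at hall
      exact hh (hmem h ⟨_, Nat.eq_prime_pow_of_unique_prime_dvd (orderOf_pos h).ne'
        fun {d} hd hdd => hall d hd hdd⟩)
    obtain ⟨n, hn⟩ := IsPGroup.iff_orderOf.1 S.2 ⟨k, hk⟩
    rw [Subgroup.orderOf_mk] at hn
    have hpk : p ∣ orderOf k := by
      rcases n with _ | n
      · exact absurd (orderOf_eq_one_iff.1 (hn.trans (pow_zero p))) hk1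
      · exact hn ▸ dvd_pow_self p n.succ_ne_zero
    have ho := orderOf_pow_orderOf_div (orderOf_pos h).ne' hqd
    exact P.not_commute hexp hsplit hA1 (orderOf_pow_orderOf_div (orderOf_pos k).ne' hpk)
      (ho.symm ▸ hq) (by rw [ho]; exact hqp) ((hc.symm.pow_left _).pow_right _)
  push Not at hS
  have hfix : ∀ (y : G) (a : A), (orderOf y).Prime → orderOf y ≠ p →
      (MulAut.conjNormal y : MulAut A) a = a → a = 1 := by
    intro y a hy hne ha
    have h1 := congrArg Subtype.val ha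
    rw [MulAut.conjNormal_apply, mul_inv_eq_iff_eq_mul] at h1
    exact Subtype.ext (P.eq_one_of_commute hexp hsplit a.2 hy hne h1)
  have hker : IsPGroup p (MulAut.conjNormal : G →* MulAut A).ker := by
    intro y
    by_contra hy
    obtain ⟨q, hq, hqd, hqp⟩ : ∃ q, q.Prime ∧ q ∣ orderOf (y : G) ∧ q ≠ p := by
      by_contra hall
      push Not at hall
      have he := Nat.eq_prime_pow_of_unique_prime_dvd
        (orderOf_pos (y : G)).ne' fun {d} hd hdd => hall d hd hdd
      refine hy ⟨(orderOf (y : G)).primeFactorsList.length, Subtype.ext ?_⟩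
      rw [SubmonoidClass.coe_pow, OneMemClass.coe_one, ← he, pow_orderOf_eq_one]
    obtain ⟨⟨a, ha⟩, ha1⟩ := Subgroup.ne_bot_iff_exists_ne_one.1 hA1
    have ho := orderOf_pow_orderOf_div (orderOf_pos (y : G)).ne' hqd
    refine ha1 (hfix _ ⟨a, ha⟩ (ho.symm ▸ hq) (by rw [ho]; exact hqp) ?_)
    rw [map_pow, MonoidHom.mem_ker.1 y.2, one_pow, MulAut.one_apply]
  obtain ⟨g, R, hg, hR, hRp, hgR⟩ := exists_acting (MulAut.conjNormal : G →* MulAut A) hker
    (fun hp2 z hz a ha => hfix z a (hz ▸ Nat.prime_two) (hz ▸ Ne.symm hp2) ha)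
    (fun x y hx hy hne => P.not_commute hexp hsplit hA1 hx hy hne) hS
  obtain ⟨hA4, rfl⟩ := P.card_eq_four hexp hsplit hA1 hg hR hRp hgR
  -- the centraliser of `A` is elementary
  set C := centralizer (A : Set G) with hC
  haveI hCn : C.Normal := by rw [hC]; infer_instance
  have hCker : C = (MulAut.conjNormal : G →* MulAut A).ker := by
    ext x
    rw [hC, MonoidHom.mem_ker, mem_centralizer_iff]
    constructor
    · intro h; ext a
      rw [MulAut.conjNormal_apply, MulAut.one_apply, ← h a a.2, mul_inv_cancel_right]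
    · intro h a ha
      have h1 := congrArg (fun f : MulAut A => ((f ⟨a, ha⟩ : A) : G)) h
      simp only [MulAut.conjNormal_apply, MulAut.one_apply] at h1
      rw [mul_inv_eq_iff_eq_mul] at h1
      exact h1.symm
  obtain ⟨⟨a₁, ha₁⟩, ha₁1⟩ := Subgroup.ne_bot_iff_exists_ne_one.1 hA1
  have hC2 : ∀ w ∈ C, w ^ 2 = 1 := by
    intro w hw
    by_contra hw2
    have hw1 : w ≠ 1 := fun e => hw2 (by rw [e, one_pow])
    refine hsplit w hw1 fun x hx => ?_
    by_cases hx1 : x = 1
    · exact hx1 ▸ one_mem _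
    rw [P.comp_eq_of_commute hw1 hx1 ((mem_centralizer_iff.1 hw x hx).symm) ?_]
    · exact P.mem x
    rintro ⟨e, hpr⟩
    refine hw2 ?_
    have : orderOf w = 2 := (Nat.prime_dvd_prime_iff_eq hpr Nat.prime_two).1
      (by rw [e]; exact orderOf_dvd_of_pow_eq_one (hexp x hx))
    rw [← this, pow_orderOf_eq_one]
  have hAC : A ≤ C := fun x hx => mem_centralizer_iff.2 fun y hy =>
    congrArg Subtype.val (mul_comm (⟨y, hy⟩ : A) ⟨x, hx⟩)
  haveI : IsMulCommutative C := ⟨⟨fun a b => Subtype.ext (by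
    have h1 : ∀ z ∈ C, z⁻¹ = z := fun z hz => inv_eq_of_mul_eq_one_right (by rw [← pow_two, hC2 z hz])
    calc (a : G) * b = ((a : G) * b)⁻¹ := (h1 _ (mul_mem a.2 b.2)).symm
      _ = (b : G) * a := by rw [mul_inv_rev, h1 _ a.2, h1 _ b.2])⟩⟩
  obtain ⟨hC4, -⟩ := P.card_eq_four (A := C) hC2 (fun x hx hle => hsplit x hx (hAC.trans hle))
    (fun e => hA1 (eq_bot_iff.2 (e ▸ hAC))) hg hR hRp hgR
  have hCA : C = A := (Subgroup.eq_of_le_of_card_ge hAC (hC4.trans hA4.symm).le).symm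
  -- the order
  have hinj : Function.Injective
      (fun x : (MulAut.conjNormal : G →* MulAut A).range =>
        (⟨fun a => ⟨(x : MulAut A) a.1,
          fun e => a.2 ((x : MulAut A).injective (e.trans (map_one _).symm))⟩,
          fun a => ⟨(x : MulAut A).symm a.1, fun e => a.2 ((x : MulAut A).symm.injective
            (e.trans (map_one _).symm))⟩,
          fun a => Subtype.ext ((x : MulAut A).symm_apply_apply a.1),
          fun a => Subtype.ext ((x : MulAut A).apply_symm_apply a.1)⟩ :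
            Equiv.Perm {a : A // a ≠ 1})) := by
    intro x y hxy
    refine Subtype.ext (MulEquiv.ext fun a => ?_)
    by_cases ha : a = 1
    · rw [ha, map_one, map_one]
    · exact congrArg Subtype.val (congrFun (congrArg (fun f : Equiv.Perm {a : A // a ≠ 1} => ⇑f) hxy) ⟨a, ha⟩)
  have hk6 : Nat.card (MulAut.conjNormal : G →* MulAut A).range ≤ 6 := by
    refine (Nat.card_le_card_of_injective _ hinj).trans ?_
    haveI := Fintype.ofFinite A
    rw [Nat.card_perm]
    have h3 : Nat.card {a : A // a ≠ 1} = 3 := by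
      rw [Nat.card_eq_fintype_card, Fintype.card_subtype_compl, Fintype.card_subtype_eq,
        ← Nat.card_eq_fintype_card, hA4]
    rw [h3]; rfl
  have hG : Nat.card G = 4 * Nat.card (MulAut.conjNormal : G →* MulAut A).range := by
    rw [← Subgroup.index_ker, ← hCker, ← C.card_mul_index, hC4]
  set H := normalizer (R : Set G) with hH
  have hAH : A ⊓ H = ⊥ := by
    refine (Subgroup.eq_bot_iff_forall _).2 fun a ha => ?_
    obtain ⟨⟨r, hr⟩, hr1⟩ := Subgroup.ne_bot_iff_exists_ne_one.1 hR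
    have hr1' : r ≠ 1 := fun e => hr1 (Subtype.ext e)
    have h1 : a * r * a⁻¹ * r⁻¹ ∈ A ⊓ R := by
      refine mem_inf.2 ⟨?_, mul_mem ((mem_normalizer_iff.1 ha.2 r).1 hr) (inv_mem hr)⟩
      rw [show a * r * a⁻¹ * r⁻¹ = a * (r * a⁻¹ * r⁻¹) by group]
      exact mul_mem ha.1 (Subgroup.Normal.conj_mem inferInstance _ (inv_mem ha.1) r)
    have hd : A ⊓ R = ⊥ := by
      refine Coprime.disjoint_of_coprime_card ?_
      rw [hA4, show (4 : ℕ) = 2 ^ 2 by rfl]
      exact Nat.Coprime.pow_left 2 (Nat.prime_two.coprime_iff_not_dvd.2 hRp)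
    rw [hd, Subgroup.mem_bot, mul_inv_eq_one, mul_inv_eq_iff_eq_mul] at h1
    obtain ⟨q, hq, hqd⟩ := Nat.exists_prime_and_dvd (n := orderOf r)
      fun e => hr1' (orderOf_eq_one_iff.1 e)
    have ho := orderOf_pow_orderOf_div (orderOf_pos r).ne' hqd
    refine P.eq_one_of_commute hexp hsplit ha.1 (ho.symm ▸ hq) ?_
      ((show Commute r a from h1.symm).pow_left _)
    rw [ho]
    exact fun e => hRp (e ▸ hqd.trans (R.orderOf_dvd_natCard hr))
  have hH6 : Nat.card H = 6 ∧ Nat.card G = 24 := by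
    have h1 : Nat.card H * 4 ≤ Nat.card G := by
      rw [← hA4, ← Coprime.card_sup_of_le_normalizer (H := H) (N := A)
        (by rw [Subgroup.normalizer_eq_top]; exact le_top) (by rw [inf_comm]; exact hAH)]
      exact Subgroup.card_le_card_group _
    have h2 : 2 ∣ Nat.card H := hg ▸ H.orderOf_dvd_natCard hgR
    have h3 : Nat.card R ∣ Nat.card H := Subgroup.card_dvd_of_le le_normalizer
    have h4 : Nat.card R ≠ 1 := fun e => hR (Subgroup.eq_bot_of_card_eq R e)
    obtain ⟨i, hi⟩ := h2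
    obtain ⟨j, hj⟩ := h3
    have h5 : Nat.card H ≤ 6 := by omega
    have hpos : 0 < Nat.card H := Nat.card_pos
    have h6 : Nat.card R ≤ 6 := (Nat.le_of_dvd hpos ⟨j, hj⟩).trans h5
    have hHc : Nat.card H = 6 := by
      interval_cases hR' : Nat.card R <;> first | (exfalso; exact hRp ⟨_, rfl⟩) | omega
    exact ⟨hHc, by omega⟩
  exact Or.inl (nonempty_equiv_perm_four A (le_of_eq hCA) hH6.2 H hH6.1 hAH)

include P in
/-- Any nontrivial abelian normal subgroup gives a small configuration. -/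
theorem small_of_abelian_normal {A : Subgroup G} [A.Normal] (hA : IsMulCommutative A)
    (hA1 : A ≠ ⊥) : Small G := by
  classical
  haveI : Group.IsSolvable A := Group.isSolvable_of_comm fun a b => hA.is_comm.comm a b
  obtain ⟨N, p, hNn, -, hN1, hmin, hNc, hp, hNp⟩ :=
    Solvable.exists_abelian_minimal_normal (K := A) inferInstance hA1
  haveI := hNn
  haveI := hNc
  haveI := Fact.mk hp
  let E : Subgroup G := ⟨⟨⟨{x | x ∈ N ∧ x ^ p = 1}, fun {a b} ha hb => ⟨mul_mem ha.1 hb.1, by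
    rw [(show Commute a b from congrArg Subtype.val (mul_comm (⟨a, ha.1⟩ : N) ⟨b, hb.1⟩)).mul_pow,
      ha.2, hb.2, one_mul]⟩⟩, ⟨one_mem N, one_pow p⟩⟩,
    fun {a} ha => ⟨inv_mem ha.1, by rw [inv_pow, ha.2, inv_one]⟩⟩
  have hEn : E.Normal := ⟨fun x hx a => ⟨hNn.conj_mem x hx.1 a, by
    rw [conj_pow, hx.2, mul_one, mul_inv_cancel]⟩⟩
  have hEN : E = N := by
    refine (hmin E hEn fun x hx => hx.1).resolve_left fun e => hN1 ?_
    refine Subgroup.eq_bot_of_card_eq N ?_
    obtain ⟨k, hk⟩ := IsPGroup.iff_card.1 hNp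
    rcases k with _ | k
    · rw [hk, pow_zero]
    obtain ⟨⟨x, hx⟩, hxo⟩ := exists_prime_orderOf_dvd_card' p (hk ▸ dvd_pow_self p k.succ_ne_zero)
    rw [Subgroup.orderOf_mk] at hxo
    have h1 : x ∈ E := ⟨hx, by rw [← hxo, pow_orderOf_eq_one]⟩
    rw [e, Subgroup.mem_bot] at h1
    rw [h1, orderOf_one] at hxo
    exact absurd hxo.symm hp.ne_one
  have hexp : ∀ a ∈ N, a ^ p = 1 := fun a ha => (hEN.symm ▸ ha : a ∈ E).2
  by_cases hsplit : ∀ g : G, g ≠ 1 → ¬ N ≤ P.comp g
  · exact P.small_of_elementary N hN1 hexp hsplit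
  push Not at hsplit
  obtain ⟨g, hg, hNg⟩ := hsplit
  obtain ⟨⟨n, hn⟩, hn1⟩ := Subgroup.ne_bot_iff_exists_ne_one.1 hN1
  haveI : (P.comp g).Normal := Subgroup.normalizer_eq_top_iff.1 (eq_top_iff.2 fun a _ =>
    P.mem_normalizer_of_conj hg (hNg hn) (fun e => hn1 (Subtype.ext e))
      (hNg (hNn.conj_mem n hn a)))
  exact P.small_of_normal hg

end Part

end Cfsg.Agent.GroupPartition
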