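import Cfsg.Agent.Lib.GroupPartition.Local

/-!
# A group between a simple group and its automorphism group

`Emb G X` embeds `X` in `G` and `G` in `Aut X` compatibly.
-/

set_option autoImplicit false
set_option linter.style.haveILetI false

namespace Cfsg.Agent.GroupPartition

open Subgroup

/-- `G` lies between `X` and `Aut X`. -/
structure Emb (G : Type*) (X : Type*) [Group G] [Group X] where
  ι : X →* G
  ι_inj : Function.Injective ι
  ρ : G →* MulAut X
  ρ_inj : Function.Injective ρ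
  ρ_ι : ∀ l, ρ (ι l) = MulAut.conj l

namespace Emb

variable {G X : Type*} [Group G] [Group X] (E : Emb G X)

theorem conj_ι (g : G) (l : X) : g * E.ι l * g⁻¹ = E.ι (E.ρ g l) := by
  apply E.ρ_inj
  rw [map_mul, map_mul, map_inv, E.ρ_ι, E.ρ_ι]
  ext x
  simp [MulAut.conj_apply]

theorem commute_ι {g : G} {l : X} (h : E.ρ g l = l) : Commute g (E.ι l) := by
  have h1 := E.conj_ι g l
  rw [h] at h1
  exact mul_inv_eq_iff_eq_mul.1 h1

theorem orderOf_ι (l : X) : orderOf (E.ι l) = orderOf l := orderOf_injective E.ι E.ι_inj l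

theorem ι_ne_one {l : X} (hl : l ≠ 1) : E.ι l ≠ 1 := fun e => hl (E.ι_inj (e.trans (map_one _).symm))

/-- Replace `X` by an isomorphic group. -/
def congr {Y : Type*} [Group Y] (e : X ≃* Y) : Emb G Y where
  ι := E.ι.comp e.symm.toMonoidHom
  ι_inj := E.ι_inj.comp e.symm.injective
  ρ := (MulAut.congr e).toMonoidHom.comp E.ρ
  ρ_inj := (MulAut.congr e).injective.comp E.ρ_inj
  ρ_ι l := by
    ext x
    simp [E.ρ_ι, MulAut.congr, MulAut.conj_apply]

/-- A normal subgroup with trivial centraliser. -/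
def ofNormal (L : Subgroup G) [L.Normal] (hC : centralizer (L : Set G) = ⊥) : Emb G L where
  ι := L.subtype
  ι_inj := L.subtype_injective
  ρ := MulAut.conjNormal
  ρ_inj := (injective_iff_map_eq_one _).2 fun g hg => by
    rw [← mem_bot, ← hC, mem_centralizer_iff]
    intro x hx
    have h1 : g * x * g⁻¹ = x := by
      rw [← MulAut.conjNormal_apply g ⟨x, hx⟩, hg]; rfl
    exact (mul_inv_eq_iff_eq_mul.1 h1).symm
  ρ_ι l := by
    ext x
    simp [MulAut.conjNormal_apply]

theorem mulEquiv_of_surjective (h : ∀ g : G, ∃ l, E.ι l = g) : Nonempty (G ≃* X) :=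
  ⟨(MulEquiv.ofBijective E.ι ⟨E.ι_inj, h⟩).symm⟩

variable [Finite G] {P : Part G}

/-- A fixed point whose order differs from that of `g` lies in the component of `g`. -/
theorem mem_comp {g : G} {l : X} (hg : g ≠ 1) (hfix : E.ρ g l = l)
    (ho : orderOf l ≠ orderOf g) : E.ι l ∈ P.comp g := by
  by_cases hl : l = 1
  · rw [hl, map_one]; exact one_mem _
  rw [← P.comp_eq_of_commute (E.ι_ne_one hl) hg (E.commute_ι hfix).symm
    fun h => ho (by rw [← E.orderOf_ι]; exact h.1)]
  exact P.mem _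

end Emb

/-- The `p`-elements of a nilpotent component lie in one `p`-subgroup. -/
theorem Part.Hard.exists_pGroup {G : Type*} [Group G] [Finite G] {P : Part G} (hP : P.Hard)
    {g : G} (hg : g ≠ 1) (p : ℕ) [Fact p.Prime] :
    ∃ K : Subgroup G, IsPGroup p K ∧
      ∀ a ∈ P.comp g, (∃ k : ℕ, a ^ p ^ k = 1) → a ∈ K := by
  haveI := hP.isNilpotent_comp hg
  obtain ⟨S⟩ := (inferInstance : Nonempty (Sylow p (P.comp g)))
  haveI : (S : Subgroup (P.comp g)).Normal :=
    (Group.isNilpotent_of_finite_tfae.out 0 3 rfl rfl).1 inferInstance p (Fact.mk Fact.out) S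
  refine ⟨(S : Subgroup (P.comp g)).map (P.comp g).subtype, S.2.map _, fun a ha ⟨k, hk⟩ => ?_⟩
  have h1 : IsPGroup p (zpowers (⟨a, ha⟩ : P.comp g)) := by
    intro x
    obtain ⟨n, hn⟩ := mem_zpowers_iff.1 x.2
    refine ⟨k, Subtype.ext ?_⟩
    rw [SubmonoidClass.coe_pow, ← hn, ← zpow_natCast, ← zpow_mul, mul_comm, zpow_mul, zpow_natCast,
      show (⟨a, ha⟩ : P.comp g) ^ p ^ k = 1 from Subtype.ext hk, one_zpow, OneMemClass.coe_one]
  obtain ⟨T, hT⟩ := h1.exists_le_sylow
  haveI := Sylow.unique_of_normal S inferInstance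
  rw [Subsingleton.elim T S] at hT
  exact ⟨⟨a, ha⟩, hT (mem_zpowers _), rfl⟩

end Cfsg.Agent.GroupPartition
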