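import Cfsg.Agent.Lib.GroupPartition.Local
import Cfsg.Agent.Lib.TICentralisers.Rigid

/-!
# A component containing the centralisers of its involutions

Its normaliser is then strongly embedded with all involution centralisers equal to the component,
so the configuration of `TICentralisers` holds.
-/

set_option autoImplicit false
set_option linter.style.haveILetI false

namespace Cfsg.Agent.GroupPartition

open Subgroup
open Cfsg (IsStronglyEmbedded)
open Cfsg.Agent.Involution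

namespace Part

variable {G : Type*} [Group G]

/-- The component of `g` contains an involution and the centralisers of its involutions. -/
structure Closed (P : Part G) (g : G) : Prop where
  hg : g ≠ 1
  exists_inv : ∃ t ∈ P.comp g, orderOf t = 2
  closed : ∀ u ∈ P.comp g, orderOf u = 2 → ∀ c, Commute c u → c ∈ P.comp g

variable [Finite G] {P : Part G} (hP : P.Hard) {g : G} (h : P.Closed g)
include hP h

theorem Closed.two_dvd : 2 ∣ Nat.card (P.comp g) := by
  obtain ⟨t, ht, ht2⟩ := h.exists_inv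
  exact ht2 ▸ (P.comp g).orderOf_dvd_natCard ht

theorem Closed.mem_of_involution {s : G} (hs : s ∈ normalizer (P.comp g : Set G)) (hs2 : orderOf s = 2) :
    s ∈ P.comp g := by
  haveI : Fact (Nat.Prime 2) := ⟨Nat.prime_two⟩
  obtain ⟨u, hu, hu1, hc⟩ := hP.exists_fixed_layer h.hg hs hs2 (h.two_dvd hP)
  exact h.closed u hu.1 (P.orderOf_of_mem_layer hu hu1) s hc

theorem Closed.stronglyEmbedded : IsStronglyEmbedded (normalizer (P.comp g : Set G)) := by
  haveI : Fact (Nat.Prime 2) := ⟨Nat.prime_two⟩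
  refine ⟨fun htop => ?_, ?_, fun a ha => ?_⟩
  · obtain ⟨z, hz, hz2⟩ := hP.exists_layer h.hg (h.two_dvd hP)
    have hn : (P.layer g 2).Normal := ⟨fun x hx a => conj_mem_layer (htop ▸ mem_top a) hx⟩
    have hbot := hP.noAb _ hn ⟨⟨fun x y => Subtype.ext (x.2.2.1 y y.2.1)⟩⟩
    rw [hbot, mem_bot] at hz
    rw [hz, orderOf_one] at hz2
    omega
  · exact even_iff_two_dvd.2 ((h.two_dvd hP).trans (card_dvd_of_le le_normalizer))
  · by_contra hodd
    rw [Nat.not_odd_iff_even, even_iff_two_dvd] at hodd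
    obtain ⟨⟨s, hsN, y, hy, hys⟩, hs2⟩ := exists_prime_orderOf_dvd_card' 2 hodd
    rw [← Subgroup.orderOf_coe] at hs2
    change a * y * a⁻¹ = s at hys
    have hy2 : orderOf y = 2 := by rw [← StrongEmb.orderOf_conj' a y, hys, hs2]
    exact ha (P.mem_normalizer_of_conj h.hg (h.mem_of_involution hP hy hy2)
      (fun e => by simp [e] at hy2) (hys ▸ h.mem_of_involution hP hsN hs2))

/-- All involutions are conjugate, and the centraliser of each is its component. -/
theorem Closed.commute_iff {u c : G} (hu : orderOf u = 2) : Commute c u ↔ c ∈ P.comp u := by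
  haveI : Fact (Nat.Prime 2) := ⟨Nat.prime_two⟩
  obtain ⟨z, hz, hz2⟩ := hP.exists_layer h.hg (h.two_dvd hP)
  have hz1 : z ≠ 1 := fun e => by simp [e] at hz2
  obtain ⟨a, rfl⟩ := isConj_iff.1 (StrongEmb.isConj_involutions (h.stronglyEmbedded hP) hz2 hu)
  rw [P.conj a hz1, P.eq_of_mem h.hg hz.1 hz1]
  constructor
  · intro hc
    refine ⟨a⁻¹ * c * a, h.closed z hz.1 hz2 _ ?_, by simp [mul_assoc]⟩
    simpa [mul_assoc] using hc.map (MulAut.conj a⁻¹).toMonoidHom
  · rintro ⟨d, hd, rfl⟩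
    simpa using ((hz.2.1 d hd).symm.map (MulAut.conj a).toMonoidHom)

/-- Step I: an involution outside `N(X)` conjugates no nontrivial element of `X` into `N(X)`. -/
theorem Closed.conj_not_mem {a u : G} (ha : a ∈ P.comp g) (ha1 : a ≠ 1) (hu : orderOf u = 2)
    (huM : u ∉ normalizer (P.comp g : Set G)) : u * a * u⁻¹ ∉ normalizer (P.comp g : Set G) := by
  intro hxN
  have hg := h.hg
  have huu := StrongEmb.mul_self_of_orderOf hu
  have hui := StrongEmb.inv_eq_of_orderOf hu
  have hu1 : u ≠ 1 := fun e => by simp [e] at hu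
  have hxX : u * a * u⁻¹ ∉ P.comp g := fun hx =>
    huM (P.mem_normalizer_of_conj hg ha ha1 hx)
  have hx1 : u * a * u⁻¹ ≠ 1 := conj_ne_one u ha1
  have hY1 : u * g * u⁻¹ ≠ 1 := conj_ne_one u hg
  have hxY := P.mem_comp_conj u hg ha
  have hne : P.comp g ≠ P.comp (u * g * u⁻¹) := fun e => hxX (e ▸ hxY)
  have haN : a ∈ normalizer (P.comp (u * g * u⁻¹) : Set G) := by
    refine P.mem_normalizer_of_conj hY1 hxY hx1 ?_
    have h1 := P.mem_comp_conj u hg (P.conj_mem hxN ha)
    rwa [show u * (u * a * u⁻¹ * a * (u * a * u⁻¹)⁻¹) * u⁻¹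
        = (u * u) * a * u⁻¹ * a * u * a⁻¹ * (u * u)⁻¹ by group, huu, one_mul, inv_one, mul_one,
      show a * u⁻¹ * a * u * a⁻¹ = a * (u⁻¹ * a * u) * a⁻¹ by group,
      show u⁻¹ * a * u = u * a * u⁻¹ by rw [hui]] at h1
  set x := u * a * u⁻¹ with hx
  have hax : Commute a x := P.commute_of_normalizes hg hY1 hne ha hxY haN hxN
  obtain ⟨hord, hp⟩ := P.orderOf_eq_of_commute ha1 hx1 hax
    (by rwa [P.eq_of_mem hg ha ha1, P.eq_of_mem hY1 hxY hx1])
  have hp2 : orderOf a ≠ 2 := fun e => hxX (h.mem_of_involution hP hxN (hord ▸ e))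
  have hd1 : a * x ≠ 1 := fun e => hxX (eq_inv_of_mul_eq_one_right e ▸ inv_mem ha)
  have hxu : u * x * u⁻¹ = a := by
    rw [hx, show u * (u * a * u⁻¹) * u⁻¹ = (u * u) * a * (u * u)⁻¹ by group, huu]; simp
  have hud : Commute (a * x) u := by
    have h1 : u * (a * x) * u⁻¹ = a * x := by
      rw [show u * (a * x) * u⁻¹ = (u * a * u⁻¹) * (u * x * u⁻¹) by group, hxu, ← hx, hax.eq]
    exact (mul_inv_eq_iff_eq_mul.1 h1).symm
  have hd := (h.commute_iff hP hu).1 hud
  have haU : a ∈ normalizer (P.comp u : Set G) :=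
    P.mem_normalizer_of_commute hu1 hd hd1 ((Commute.refl a).mul_right hax)
  have hu' := P.conj_mem haU (P.mem u)
  have hc' : Commute (a * u * a⁻¹) u := (h.commute_iff hP hu).2 hu'
  have hw : x * a⁻¹ = u * (a * u * a⁻¹) := by rw [hx, hui]; group
  have hw2 : (x * a⁻¹) ^ 2 = 1 := by
    rw [hw, hc'.symm.mul_pow, conj_pow, pow_two u, huu]; simp
  have hwp : (x * a⁻¹) ^ orderOf a = 1 := by
    rw [hax.symm.inv_right.mul_pow, inv_pow, pow_orderOf_eq_one, hord, pow_orderOf_eq_one]; simp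
  have hw1 : x * a⁻¹ = 1 := by
    have := pow_gcd_eq_one.2 ⟨hw2, hwp⟩
    rwa [((Nat.coprime_primes Nat.prime_two hp).2 (Ne.symm hp2)).gcd_eq_one, pow_one] at this
  exact hxX (mul_inv_eq_one.1 hw1 ▸ ha)

/-- No element of `N(X) \ X` centralises a nontrivial element of `X`. -/
theorem Closed.not_commute {x a : G} (hxN : x ∈ normalizer (P.comp g : Set G))
    (hxX : x ∉ P.comp g) (ha : a ∈ P.comp g) (ha1 : a ≠ 1) : ¬ Commute x a := by
  classical
  intro hxa
  have hg := h.hg
  set M := normalizer (P.comp g : Set G) with hM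
  have hse := h.stronglyEmbedded hP
  have hx1 : x ≠ 1 := fun e => hxX (e ▸ one_mem _)
  obtain ⟨hord, hp⟩ := P.orderOf_eq_of_commute hx1 ha1 hxa (fun e => hxX (by
    rw [P.eq_of_mem hg ha ha1] at e
    exact e ▸ P.mem x))
  have hp2 : orderOf x ≠ 2 := fun e => hxX (h.mem_of_involution hP hxN e)
  haveI := Fact.mk hp
  obtain ⟨g₀, -, hg₀⟩ := SetLike.exists_of_lt (lt_top_iff_ne_top.mpr hse.1)
  obtain ⟨t, htM, ht2⟩ := StrongEmb.exists_involution hse
  haveI : Nonempty {s : G // orderOf s = 2 ∧ s ∈ M} := ⟨⟨t, ht2, htM⟩⟩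
  obtain ⟨⟨u, hu, hu0⟩⟩ : Nonempty
      {i : G // orderOf i = 2 ∧ i • ((1 : G) : G ⧸ M) = (g₀ : G ⧸ M)} :=
    (Nat.card_pos_iff.1 (by rw [StrongEmb.card_swap_base hse g₀ hg₀]; exact Nat.card_pos)).1
  rw [StrongEmb.smul_one_eq_iff] at hu0
  have huu := StrongEmb.mul_self_of_orderOf hu
  have hui := StrongEmb.inv_eq_of_orderOf hu
  have hu1 : u ≠ 1 := fun e => by simp [e] at hu
  have huM : u ∉ M := fun hm => hg₀ (by
    simpa using mul_mem hm (inv_mem hu0))
  -- elements of `M` inverted by `u`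
  let I := {d : G // d ∈ M ∧ u * d * u⁻¹ = d⁻¹}
  have hinj : ∀ d₁ d₂ : I, (d₁ : G)⁻¹ * d₂ ∈ P.comp g → (d₁ : G) = d₂ := fun d₁ d₂ hd => by
    by_contra hne
    refine h.conj_not_mem hP hd (fun e => hne (inv_mul_eq_one.1 e)) hu huM ?_
    rw [show u * ((d₁ : G)⁻¹ * d₂) * u⁻¹ = (u * d₁ * u⁻¹)⁻¹ * (u * d₂ * u⁻¹) by group,
      d₁.2.2, d₂.2.2, inv_inv]
    exact mul_mem d₁.2.1 (inv_mem d₂.2.1)
  let φ : I → M ⧸ (P.comp g).subgroupOf M := fun d => QuotientGroup.mk ⟨d, d.2.1⟩
  have hφ : Function.Injective φ := fun d₁ d₂ e =>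
    Subtype.ext (hinj d₁ d₂ (mem_subgroupOf.1 (QuotientGroup.eq.1 e)))
  have hcard : Nat.card {s : G // orderOf s = 2 ∧ s ∈ M} ≤ Nat.card I := by
    rw [← StrongEmb.card_swap_base hse g₀ hg₀]
    refine Nat.card_le_card_of_injective (fun i => ⟨u * i.1, ?_, ?_⟩) fun i j e => ?_
    · have h1 := mul_mem (inv_mem hu0) (StrongEmb.smul_one_eq_iff.1 i.2.2)
      rwa [show (g₀⁻¹ * u)⁻¹ * (g₀⁻¹ * i.1) = u⁻¹ * i.1 by group, hui] at h1
    · rw [mul_inv_rev, StrongEmb.inv_eq_of_orderOf i.2.1, ← mul_assoc u u, huu, one_mul]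
    · exact Subtype.ext (mul_left_cancel (congrArg Subtype.val e))
  haveI : Fact (Nat.Prime 2) := ⟨Nat.prime_two⟩
  obtain ⟨z, hz, hz2⟩ := hP.exists_layer hg (h.two_dvd hP)
  have hcard' : Nat.card (M ⧸ (P.comp g).subgroupOf M) ≤
      Nat.card {s : G // orderOf s = 2 ∧ s ∈ M} := by
    refine Nat.card_le_card_of_injective (fun q => ⟨(q.out : G) * z * (q.out : G)⁻¹,
      (StrongEmb.orderOf_conj' _ _).trans hz2, le_normalizer (P.conj_mem q.out.2 hz.1)⟩)
      fun q q' e => ?_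
    rw [← QuotientGroup.out_eq' q, ← QuotientGroup.out_eq' q', QuotientGroup.eq]
    refine mem_subgroupOf.2 (h.closed z hz.1 hz2 _ ?_)
    have e' : (q.out : G) * z * (q.out : G)⁻¹ = (q'.out : G) * z * (q'.out : G)⁻¹ :=
      congrArg Subtype.val e
    show ((q.out⁻¹ * q'.out : M) : G) * z = z * ((q.out⁻¹ * q'.out : M) : G)
    push_cast
    calc (q.out : G)⁻¹ * q'.out * z
        = (q.out : G)⁻¹ * ((q'.out : G) * z * (q'.out : G)⁻¹) * q'.out := by group
      _ = (q.out : G)⁻¹ * ((q.out : G) * z * (q.out : G)⁻¹) * q'.out := by rw [← e']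
      _ = z * ((q.out : G)⁻¹ * q'.out) := by group
  haveI : ((P.comp g).subgroupOf M).Normal :=
    (Subgroup.normal_subgroupOf_iff_le_normalizer le_normalizer).2 le_rfl
  obtain ⟨⟨d, hdM, hdu⟩, hd⟩ :=
    (hφ.bijective_of_nat_card_le (hcard'.trans hcard)).2 (QuotientGroup.mk ⟨x, hxN⟩)
  have hdX : d ∉ P.comp g := fun hd' => hxX (by
    have h1 := mem_subgroupOf.1 (QuotientGroup.eq.1 hd)
    simpa using mul_mem hd' h1)
  have hdp : d ^ orderOf x = 1 := by
    refine (hinj ⟨1, one_mem _, by simp⟩ ⟨d ^ orderOf x, pow_mem hdM _, ?_⟩ ?_).symm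
    · rw [← conj_pow, hdu, inv_pow]
    · have h1 := congrArg (· ^ orderOf x) hd
      simp only [φ] at h1
      have h2 : (⟨x, hxN⟩ : M) ^ orderOf x = 1 := Subtype.ext (by simp [pow_orderOf_eq_one])
      rw [← QuotientGroup.mk_pow, ← QuotientGroup.mk_pow, h2, QuotientGroup.mk_one,
        QuotientGroup.eq_one_iff, mem_subgroupOf] at h1
      simpa using h1
  have hd1 : d ≠ 1 := fun e => hdX (e ▸ one_mem _)
  have hdo : orderOf d = orderOf x := orderOf_eq_prime hdp hd1
  obtain ⟨a₀, ha₀, ha₀1, hda⟩ := hP.exists_fixed_layer hg hdM hdo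
    (hord ▸ (P.comp g).orderOf_dvd_natCard ha)
  have hfix : ∀ c ∈ centralizer ({d} : Set G), Commute c u → c = 1 := fun c hc hcu => by
    by_contra hc1
    have hcd : Commute c d := mem_centralizer_singleton_iff.1 hc
    have hud : Commute d u := by
      by_cases hUY : P.comp u = P.comp d
      · exact (h.commute_iff hP hu).2 (hUY ▸ P.mem d)
      refine (P.commute_of_normalizes hu1 hd1 hUY (P.mem u) (P.mem d) ?_ ?_).symm
      · exact P.mem_normalizer_of_conj hd1 (P.mem d) hd1 (hdu ▸ inv_mem (P.mem d))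
      · exact P.mem_normalizer_of_commute hu1 ((h.commute_iff hP hu).1 hcu) hc1 hcd.symm
    rw [show u * d * u⁻¹ = d by rw [← hud.eq, mul_inv_cancel_right], eq_inv_iff_mul_eq_one,
      ← pow_two] at hdu
    exact hp2 (hdo ▸ orderOf_eq_prime hdu hd1)
  have hT : ∀ c ∈ centralizer ({d} : Set G), u * c * u ∈ centralizer ({d} : Set G) := fun c hc => by
    have h1 := ((show Commute c d from mem_centralizer_singleton_iff.1 hc).map
      (MulAut.conj u).toMonoidHom)
    simp only [MulEquiv.coe_toMonoidHom, MulAut.conj_apply, hdu, Commute.inv_right_iff] at h1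
    rw [hui] at h1
    exact mem_centralizer_singleton_iff.2 h1
  have hinv := TICentralisers.inverts_of_fpf huu _ hT hfix a₀
    (mem_centralizer_singleton_iff.2 hda.symm)
  exact huM (P.mem_normalizer_of_conj hg ha₀.1 ha₀1 (by rw [hui, hinv]; exact inv_mem ha₀.1))

/-- The configuration of `TICentralisers`. -/
theorem Closed.cfg : TICentralisers.Cfg (normalizer (P.comp g : Set G)) (P.comp g) := by
  have hg := h.hg
  refine ⟨fun c hc ⟨s, hs, hsc⟩ => ?_, h.stronglyEmbedded hP, fun t ht ht2 => ?_, hP.noAb⟩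
  · haveI : Fact (Nat.Prime 2) := ⟨Nat.prime_two⟩
    have hs1 : s ≠ 1 := fun e => by simp [e] at hs
    have hcU : c ∈ P.comp s := (h.commute_iff hP hs).1 hsc.symm
    obtain ⟨z, hz, hz2⟩ := hP.exists_layer hg (h.two_dvd hP)
    have hz1 : z ≠ 1 := fun e => by simp [e] at hz2
    obtain ⟨a, rfl⟩ := isConj_iff.1 (StrongEmb.isConj_involutions (h.stronglyEmbedded hP) hz2 hs)
    rw [P.conj a hz1, P.eq_of_mem hg hz.1 hz1] at hcU
    obtain ⟨c₀, hc₀, rfl⟩ := hcU
    have hle : centralizer ({(MulAut.conj a).toMonoidHom c₀} : Set G) ≤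
        (P.comp g).map (MulAut.conj a).toMonoidHom := fun x hx => by
      have hc₀1 : c₀ ≠ 1 := fun e => hc (by simp [e])
      have hxc : Commute (a⁻¹ * x * a) c₀ := by
        simpa [mul_assoc] using (show Commute x _ from mem_centralizer_singleton_iff.1 hx).map
          (MulAut.conj a⁻¹).toMonoidHom
      refine ⟨a⁻¹ * x * a, ?_, by simp [mul_assoc]⟩
      exact by_contra fun hX => h.not_commute hP
        (P.mem_normalizer_of_commute hg hc₀ hc₀1 hxc) hX hc₀ hc₀1 hxc
    haveI := hP.isNilpotent_comp hg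
    haveI : Group.IsNilpotent ((P.comp g).map (MulAut.conj a).toMonoidHom) :=
      Group.nilpotent_of_mulEquiv ((P.comp g).equivMapOfInjective _ (MulAut.conj a).injective)
    exact Group.nilpotent_of_mulEquiv (Subgroup.subgroupOfEquivOfLe hle)
  · ext x
    have ht1 : t ≠ 1 := fun e => by simp [e] at ht2
    rw [mem_centralizer_singleton_iff, ← P.eq_of_mem hg (h.mem_of_involution hP ht ht2) ht1]
    exact h.commute_iff hP ht2

end Part

end Cfsg.Agent.GroupPartition
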