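import Cfsg.Agent.Lib.GroupPartition.Emb
import Cfsg.Agent.Lib.AutPSL.Group
import Cfsg.Agent.Lib.AutPSL.Main
import Cfsg.Agent.Lib.PSL2.Classes

/-!
# A `PSL(2, q)` socle: no field automorphism

An element acting as a field automorphism would have a component containing incompatible fixed
points.
-/

set_option autoImplicit false
set_option linter.style.haveILetI false

namespace Cfsg.Agent.GroupPartition

open Subgroup Matrix
open scoped MatrixGroups
open Cfsg.Agent.PSL2 (uu ll dd ww)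
open Cfsg.Agent.AutPSL (conjP fieldP)

namespace Linear

variable {F : Type} [Field F]

theorem fieldP_mk_of_fixed (σ : F ≃+* F) (s : SL(2, F)) (h : ∀ i j, σ (s.1 i j) = s.1 i j) :
    (fieldP σ : MulAut PSL(2, F)) (PSL2.mk s) = PSL2.mk s := by
  show (fieldP σ : MulAut PSL(2, F)) (QuotientGroup.mk s) = _
  rw [AutPSL.fieldP_mk]
  refine congrArg QuotientGroup.mk (Subtype.ext ?_)
  rw [AutPSL.fieldSL_coe]
  ext i j
  exact h i j

theorem fix_uu (σ : F ≃+* F) {t : F} (ht : σ t = t) :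
    (fieldP σ : MulAut PSL(2, F)) (PSL2.mk (uu t)) = PSL2.mk (uu t) :=
  fieldP_mk_of_fixed σ _ fun i j => by fin_cases i <;> fin_cases j <;> simp [ht]

theorem fix_ll (σ : F ≃+* F) {t : F} (ht : σ t = t) :
    (fieldP σ : MulAut PSL(2, F)) (PSL2.mk (ll t)) = PSL2.mk (ll t) :=
  fieldP_mk_of_fixed σ _ fun i j => by fin_cases i <;> fin_cases j <;> simp [ht]

theorem fix_ww (σ : F ≃+* F) : (fieldP σ : MulAut PSL(2, F)) (PSL2.mk ww) = PSL2.mk ww :=
  fieldP_mk_of_fixed σ _ fun i j => by fin_cases i <;> fin_cases j <;> simp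

theorem fix_dd (σ : F ≃+* F) {a : Fˣ} (ha : σ a = a) :
    (fieldP σ : MulAut PSL(2, F)) (PSL2.mk (dd a)) = PSL2.mk (dd a) :=
  fieldP_mk_of_fixed σ _ fun i j => by
    fin_cases i <;> fin_cases j <;> simp [ha, Units.val_inv_eq_inv_val]

theorem mk_uu_inj {s t : F} (h : PSL2.mk (uu s) = PSL2.mk (uu t)) : s = t := by
  rcases PSL2.mk_eq_mk.1 h with h | h
  · exact PSL2.uu_injective h
  · have h0 := congrArg (fun A : SL(2, F) => A 0 0) h
    have h1 := congrArg (fun A : SL(2, F) => A 0 1) h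
    simp at h0 h1
    have h2 : (2 : F) = 0 := by linear_combination h0
    linear_combination h1 - t * h2

theorem orderOf_mk_ww : orderOf (PSL2.mk (ww : SL(2, F))) = 2 := by
  refine orderOf_eq_prime (by rw [pow_two, ← map_mul, PSL2.ww_mul_self, PSL2.mk_neg_one]) fun h => ?_
  rcases PSL2.mk_eq_one.1 h with h | h <;>
    simpa using congrArg (fun A : SL(2, F) => A 0 1) h

theorem eq_of_dd_fixes_uu {a : Fˣ} {t : F} (ht : t ≠ 0)
    (h : Commute (PSL2.mk (dd a)) (PSL2.mk (uu t))) : (a : F) ^ 2 = 1 := by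
  have h1 : PSL2.mk (uu ((a : F) ^ 2 * t)) = PSL2.mk (uu t) := by
    rw [← PSL2.dd_conj_uu, map_mul, map_mul, map_inv, h.eq, mul_inv_cancel_right]
  exact (mul_eq_right₀ ht).1 (mk_uu_inj h1)

theorem mk_mul_self_of_commute (h2 : (2 : F) ≠ 0) {A : SL(2, F)}
    (hw : Commute (PSL2.mk A) (PSL2.mk ww))
    (hw' : Commute (PSL2.mk A) (PSL2.mk (uu 1 * ww * uu (-1)))) :
    PSL2.mk A * PSL2.mk A = 1 := by
  have hdet := PSL2.det_eq A
  rw [← map_mul]
  rw [commute_iff_eq, ← map_mul, ← map_mul, PSL2.mk_eq_mk] at hw hw'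
  rcases hw with hw | hw
  · have e1 := congrArg (fun B : SL(2, F) => B 0 0) hw
    have e2 := congrArg (fun B : SL(2, F) => B 0 1) hw
    simp only [Matrix.SpecialLinearGroup.coe_neg, Matrix.neg_apply, PSL2.mul00, PSL2.mul01] at e1 e2
    simp at e1 e2
    have hd : A 1 1 = A 0 0 := by linear_combination -e2
    have hc : A 1 0 = -A 0 1 := by linear_combination -e1
    rcases hw' with hw' | hw'
    · have f1 := congrArg (fun B : SL(2, F) => B 0 0) hw'
      simp only [Matrix.SpecialLinearGroup.coe_neg, Matrix.neg_apply, PSL2.mul00, PSL2.mul01, PSL2.mul10, PSL2.mul11, hd, hc] at f1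
      simp at f1
      have hb : A 0 1 = 0 := by linear_combination -f1
      rw [hd, hc, hb] at hdet
      refine PSL2.mk_eq_one.2 (Or.inl ?_)
      apply PSL2.ext2 <;> simp [PSL2.mul00, PSL2.mul01, PSL2.mul10, PSL2.mul11, hd, hc, hb]
      all_goals first | linear_combination hdet | linear_combination -hdet
    · have f1 := congrArg (fun B : SL(2, F) => B 0 0) hw'
      have f2 := congrArg (fun B : SL(2, F) => B 0 1) hw'
      simp only [Matrix.SpecialLinearGroup.coe_neg, Matrix.neg_apply, PSL2.mul00, PSL2.mul01, PSL2.mul10, PSL2.mul11, hd, hc] at f1 f2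
      simp at f1 f2
      have ha : A 0 0 = 0 := by
        have h4 : (2 : F) * 2 * A 0 0 = 0 := by linear_combination f2
        simpa [h2] using h4
      rw [hd, hc, ha] at hdet
      refine PSL2.mk_eq_one.2 (Or.inr ?_)
      apply PSL2.ext2 <;> simp [PSL2.mul00, PSL2.mul01, PSL2.mul10, PSL2.mul11, hd, hc, ha]
      all_goals first | linear_combination hdet | linear_combination -hdet
  · have e1 := congrArg (fun B : SL(2, F) => B 0 0) hw
    have e2 := congrArg (fun B : SL(2, F) => B 0 1) hw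
    simp only [Matrix.SpecialLinearGroup.coe_neg, Matrix.neg_apply, PSL2.mul00, PSL2.mul01] at e1 e2
    simp at e1 e2
    have hd : A 1 1 = -A 0 0 := by linear_combination e2
    have hc : A 1 0 = A 0 1 := by linear_combination -e1
    rw [hd, hc] at hdet
    refine PSL2.mk_eq_one.2 (Or.inr ?_)
    apply PSL2.ext2 <;> simp [PSL2.mul00, PSL2.mul01, PSL2.mul10, PSL2.mul11, hd, hc] <;> ring_nf
    all_goals first | linear_combination hdet | linear_combination -hdet

theorem fixed_card [Fintype F] (σ : F ≃+* F) :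
    ∃ (K : Subfield F), Fintype.card F = Nat.card K ^ orderOf σ ∧ ∀ a : F, a ∈ K ↔ σ a = a := by
  classical
  haveI : Finite (RingAut F) := Finite.of_injective (fun s => (s : F → F)) DFunLike.coe_injective
  let S := zpowers (σ : RingAut F)
  let _ := Fintype.ofFinite S
  refine ⟨FixedPoints.subfield S F, ?_, fun a => ⟨fun h => h ⟨σ, mem_zpowers _⟩, fun h s => ?_⟩⟩
  · have hc := Module.natCard_eq_pow_finrank (K := FixedPoints.subfield S F) (V := F)
    rw [FixedPoints.finrank_eq_card, ← Nat.card_eq_fintype_card (α := S), Nat.card_zpowers,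
      Nat.card_eq_fintype_card (α := F)] at hc
    exact hc
  · exact (zpowers_le.2 (show (σ : RingAut F) ∈ MulAction.stabilizer (RingAut F) a from h)) s.2

end Linear

open Linear

variable {G : Type*} [Group G] [Finite G] {F : Type} [Field F] [Fintype F]

/-- No element acts as a field automorphism of prime order. -/
theorem Part.Hard.false_of_field {P : Part G} (hP : P.Hard) (hq : 5 ≤ Fintype.card F)
    (E : Emb G PSL(2, F)) (g : G) (σ : F ≃+* F) (hσ : (orderOf σ).Prime)
    (hρ : E.ρ g = fieldP σ) : False := by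
  classical
  have hord : orderOf g = orderOf σ := by
    rw [← orderOf_injective E.ρ E.ρ_inj, hρ, AutPSL.orderOf_fieldP le_rfl]
  have hg : g ≠ 1 := fun e => by
    rw [e, orderOf_one] at hord; exact hσ.ne_one hord.symm
  obtain ⟨p, hpc⟩ := CharP.exists F
  obtain ⟨e, hp, hF⟩ := FiniteField.card F p
  haveI := Fact.mk hp
  have hmem : ∀ {l : PSL(2, F)}, (fieldP σ : MulAut PSL(2, F)) l = l → orderOf l ≠ orderOf σ →
      E.ι l ∈ P.comp g := fun {l} hl ho =>
    E.mem_comp hg (by rw [hρ]; exact hl) (by rwa [hord])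
  have hone : σ (1 : F) = 1 := map_one σ
  by_cases hpr : p ≠ orderOf σ
  · obtain ⟨K, hK, hKmem⟩ := hP.exists_pGroup hg p
    have key : ∀ l : PSL(2, F), (fieldP σ : MulAut PSL(2, F)) l = l → orderOf l = p → E.ι l ∈ K :=
      fun l hl ho => hKmem _ (hmem hl (by rwa [ho])) ⟨1, by
        rw [pow_one, ← ho, ← E.orderOf_ι, pow_orderOf_eq_one]⟩
    have hu := key _ (fix_uu σ hone) (PSL2.orderOf_mk_uu p one_ne_zero)
    have hl := key _ (fix_ll σ (t := (-1 : F)) (by rw [map_neg, hone])) (by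
      rw [← PSL2.ww_conj_uu (1 : F), PSL2.orderOf_mk_conj]
      exact PSL2.orderOf_mk_uu p one_ne_zero)
    set y := uu (1 : F) * ll (-1) with hy
    have hy3 : PSL2.mk y ^ 3 = 1 := by
      rw [← map_pow, pow_succ, pow_two, hy]
      refine PSL2.mk_eq_one.2 (Or.inr ?_)
      apply PSL2.ext2 <;> simp [PSL2.mul00, PSL2.mul01, PSL2.mul10, PSL2.mul11]
    have hy1 : PSL2.mk y ≠ 1 := fun h => by
      rcases PSL2.mk_eq_one.1 h with h | h <;>
        simpa [hy, PSL2.mul01] using congrArg (fun A : SL(2, F) => A 0 1) h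
    have hw : PSL2.mk y * PSL2.mk (uu 1) = PSL2.mk ww := by
      rw [← map_mul, hy]
      congr 1
      apply PSL2.ext2 <;> simp [PSL2.mul00, PSL2.mul01, PSL2.mul10, PSL2.mul11]
    have hy' : E.ι (PSL2.mk y) ∈ K := by rw [hy, map_mul, map_mul]; exact mul_mem hu hl
    have hw' : E.ι (PSL2.mk ww) ∈ K := by rw [← hw, map_mul]; exact mul_mem hy' hu
    have hdvd : ∀ l : PSL(2, F), E.ι l ∈ K → (orderOf l).Prime → orderOf l = p := fun l hlK hlp => by
      obtain ⟨k, hk⟩ := IsPGroup.iff_orderOf.1 hK ⟨_, hlK⟩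
      rw [Subgroup.orderOf_mk, E.orderOf_ι] at hk
      exact (Nat.prime_dvd_prime_iff_eq hlp hp).1 (hlp.dvd_of_dvd_pow (dvd_of_eq hk))
    have h3 := hdvd _ hy' (by rw [orderOf_eq_prime hy3 hy1]; norm_num)
    have h2 := hdvd _ hw' (by rw [orderOf_mk_ww]; norm_num)
    rw [orderOf_eq_prime hy3 hy1] at h3
    rw [orderOf_mk_ww] at h2
    omega
  push Not at hpr
  by_cases htor : ∃ a : Fˣ, σ a = a ∧ (a : F) ^ 2 ≠ 1
  · obtain ⟨a, ha, ha2⟩ := htor
    have ht1 : PSL2.mk (dd a) ≠ 1 := fun h => ha2 (by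
      rcases PSL2.mk_eq_one.1 h with h | h <;>
        have := congrArg (fun A : SL(2, F) => A 0 0) h <;> simp at this <;> simp [this])
    have hco : (orderOf (PSL2.mk (dd a))).Coprime p := by
      refine Nat.Coprime.symm ((hp.coprime_iff_not_dvd).2 fun hd => ?_)
      have h1 := hd.trans ((orderOf_map_dvd PSL2.mk (dd a)).trans (dvd_of_eq (PSL2.orderOf_dd a)))
      have h2 := h1.trans (orderOf_dvd_card (x := a))
      rw [Fintype.card_units] at h2
      have h3 : p ∣ Fintype.card F := hF ▸ dvd_pow_self p e.ne_zero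
      have := Nat.dvd_sub h3 h2
      rw [Nat.sub_sub_self Fintype.card_pos] at this
      exact hp.ne_one (Nat.dvd_one.1 this)
    have ht := hmem (fix_dd σ ha) fun h => by
      rw [h, ← hpr, Nat.coprime_self] at hco; exact hp.ne_one hco
    have hu : E.ι (PSL2.mk (uu 1)) ∈ normalizer (P.comp g : Set G) :=
      P.mem_normalizer_of_commute hg (P.mem g) hg (E.commute_ι (by rw [hρ]; exact fix_uu σ hone)).symm
    have hc : E.ι (PSL2.mk (uu (1 - (a : F) ^ 2))) ∈ P.comp g := by
      have h1 := mul_mem (P.conj_mem hu ht) (inv_mem ht)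
      rw [← map_inv, ← map_inv, ← map_mul, ← map_mul, ← map_mul, ← map_inv, ← map_inv, ← map_mul,
        ← map_mul, ← map_mul] at h1
      convert h1 using 3
      rw [mul_assoc (uu 1 * dd a), mul_assoc (uu 1), ← mul_assoc (dd a), PSL2.uu_inv,
        PSL2.dd_conj_uu, PSL2.uu_mul_uu]
      congr 1
      ring
    have hne : (1 : F) - (a : F) ^ 2 ≠ 0 := sub_ne_zero.2 ha2.symm
    have hcomm : Commute (E.ι (PSL2.mk (dd a))) (E.ι (PSL2.mk (uu (1 - (a : F) ^ 2)))) :=
      hP.commute_of_coprime (p := p) hg ht hc (by rw [E.orderOf_ι, PSL2.orderOf_mk_uu p hne])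
        (by rwa [E.orderOf_ι])
    exact ha2 (eq_of_dd_fixes_uu hne (E.ι_inj (by rw [map_mul, map_mul]; exact hcomm)))
  push Not at htor
  obtain ⟨K, hKcard, hKmem⟩ := fixed_card σ
  have hK3 : Nat.card K ≤ 3 := by
    have hsub : (Set.univ : Set K) ⊆ {0, 1, -1} := fun x _ => by
      by_cases hx : x = 0
      · exact Or.inl hx
      have hx' : (x : F) ≠ 0 := fun h => hx (Subtype.ext h)
      have h1 := htor (Units.mk0 _ hx') ((hKmem _).1 x.2)
      rw [Units.val_mk0, sq_eq_one_iff] at h1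
      rcases h1 with h1 | h1
      · exact Or.inr (Or.inl (Subtype.ext h1))
      · exact Or.inr (Or.inr (Subtype.ext h1))
    calc Nat.card K = (Set.univ : Set K).ncard := (Set.ncard_univ _).symm
      _ ≤ ({0, 1, -1} : Set K).ncard := Set.ncard_le_ncard hsub (Set.toFinite _)
      _ ≤ 3 := (Set.ncard_insert_le _ _).trans (Nat.succ_le_succ
          ((Set.ncard_insert_le _ _).trans (by simp)))
  rw [← hpr] at hKcard
  have hpK : p ∣ Nat.card K := hp.dvd_of_dvd_pow (hKcard ▸ hF ▸ dvd_pow_self p e.ne_zero)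
  have hp3 : p = Nat.card K := by
    have := Nat.le_of_dvd Nat.card_pos hpK
    have := hp.two_le
    obtain ⟨j, hj⟩ := hpK
    rcases j with _ | _ | j
    · rw [mul_zero] at hj
      exact absurd hj Nat.card_pos.ne'
    · rw [hj, zero_add, mul_one]
    · rw [hj] at hK3; nlinarith
  have hp2 : p ≠ 2 := fun h2 => by
    rw [← hp3, h2] at hKcard; omega
  have hp' : p = 3 := by have := hp.two_le; omega
  have hq27 : Fintype.card F = 27 := by rw [hKcard, ← hp3, hp']; norm_num
  subst hp'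
  have h2F : (2 : F) ≠ 0 := PSL2.odd_card_iff.1 (by rw [hq27]; decide)
  -- the two fixed involutions
  have hw := hmem (fix_ww σ) (by rw [orderOf_mk_ww, ← hpr]; norm_num)
  have hw'fix : (fieldP σ : MulAut PSL(2, F)) (PSL2.mk (uu 1 * ww * uu (-1))) =
      PSL2.mk (uu 1 * ww * uu (-1)) := by
    rw [map_mul, map_mul, map_mul, map_mul, fix_uu σ hone, fix_ww, fix_uu σ (by rw [map_neg, hone])]
  have hw'o : orderOf (PSL2.mk (uu (1 : F) * ww * uu (-1))) = 2 := by
    rw [← PSL2.uu_inv, PSL2.orderOf_mk_conj, orderOf_mk_ww]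
  have hw' := hmem hw'fix (by rw [hw'o, ← hpr]; norm_num)
  have hcard := (PSL2.card_centralizer_involution h2F (orderOf_mk_ww (F := F))).2 (by rw [hq27])
  haveI : Fact (Nat.Prime 7) := ⟨by norm_num⟩
  obtain ⟨⟨x, hxC⟩, hx7⟩ := exists_prime_orderOf_dvd_card' 7
    (G := centralizer ({PSL2.mk ww} : Set PSL(2, F))) (by rw [hcard, hq27]; norm_num)
  rw [Subgroup.orderOf_mk] at hx7
  have hxw : Commute x (PSL2.mk ww) := mem_centralizer_singleton_iff.1 hxC
  have hx : E.ι x ∈ P.comp g := by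
    have hw1 : E.ι (PSL2.mk (ww : SL(2, F))) ≠ 1 := E.ι_ne_one fun h => by
      have := orderOf_mk_ww (F := F); rw [h, orderOf_one] at this; omega
    rw [← P.eq_of_mem hg hw hw1]
    exact P.mem_of_commute_ne_two (by rw [E.orderOf_ι, orderOf_mk_ww]) (hxw.map E.ι)
      (by rw [E.orderOf_ι, hx7]; norm_num)
  have hxw' : Commute x (PSL2.mk (uu 1 * ww * uu (-1))) := E.ι_inj ((map_mul E.ι _ _).trans
    ((hP.commute_odd hg hx hw' (by rw [E.orderOf_ι, hw'o])
      (by rw [E.orderOf_ι, hx7]; decide)).eq.trans (map_mul E.ι _ _).symm))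
  obtain ⟨A, rfl⟩ := PSL2.mk_surjective x
  have h1 := mk_mul_self_of_commute h2F hxw hxw'
  have h7 : orderOf (PSL2.mk A) ∣ 2 := orderOf_dvd_of_pow_eq_one (by rw [pow_two, h1])
  rw [hx7] at h7
  norm_num at h7

end Cfsg.Agent.GroupPartition
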