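import Cfsg.Agent.Lib.GroupPartition.FieldAut

/-!
# A `PSL(2, q)` socle

The group is `PSL(2, q)` or `PGL(2, q)`.
-/

set_option autoImplicit false
set_option linter.style.haveILetI false

namespace Cfsg.Agent.GroupPartition

open Subgroup Matrix
open scoped MatrixGroups
open Cfsg.Agent.PSL2 (uu ll dd ww)
open Cfsg.Agent.AutPSL (conjP fieldP)

namespace Linear

variable {F : Type} [Field F]

/-- `diag(μ, 1)` followed by a field automorphism. -/
def twist (μ : Fˣ) (σ : F ≃+* F) : MulAut PSL(2, F) := conjP (GL.diagHom ![μ, 1]) * fieldP σ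

theorem dd_neg (a : Fˣ) : dd (-a) = -dd a := by
  refine Subtype.ext ?_
  show !![((-a : Fˣ) : F), 0; 0, (((-a)⁻¹ : Fˣ) : F)] = -!![(a : F), 0; 0, ((a⁻¹ : Fˣ) : F)]
  ext i j
  fin_cases i <;> fin_cases j <;> simp

theorem sq_of_mk_dd_eq_one {a : Fˣ} (h : PSL2.mk (dd a) = 1) : (a : F) ^ 2 = 1 := by
  rcases PSL2.mk_eq_one.1 h with h | h
  · rw [PSL2.dd_eq_one_iff.1 h, Units.val_one, one_pow]
  · rw [← PSL2.dd_one, ← dd_neg] at h
    rw [PSL2.dd_injective h, Units.val_neg, Units.val_one, neg_one_sq]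

theorem twist_mk (μ : Fˣ) (σ : F ≃+* F) (s : SL(2, F)) :
    twist μ σ (PSL2.mk s) =
      PSL2.mk (AutPSL.conjSL (GL.diagHom ![μ, 1]) (AutPSL.fieldSL σ s)) := rfl

theorem twist_uu (μ : Fˣ) (σ : F ≃+* F) (t : F) :
    twist μ σ (PSL2.mk (uu t)) = PSL2.mk (uu ((μ : F) * σ t)) := by
  rw [twist_mk]
  refine congrArg PSL2.mk (Subtype.ext ?_)
  rw [AutPSL.conjSL_coe, ← map_inv, GL.coe_diagHom, GL.coe_diagHom, AutPSL.fieldSL_coe]
  ext i j
  fin_cases i <;> fin_cases j <;>
    simp [uu, Matrix.mul_apply, Fin.sum_univ_two, Units.val_inv_eq_inv_val]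

theorem twist_ll (μ : Fˣ) (σ : F ≃+* F) (t : F) :
    twist μ σ (PSL2.mk (ll t)) = PSL2.mk (ll (σ t * ((μ⁻¹ : Fˣ) : F))) := by
  rw [twist_mk]
  refine congrArg PSL2.mk (Subtype.ext ?_)
  rw [AutPSL.conjSL_coe, ← map_inv, GL.coe_diagHom, GL.coe_diagHom, AutPSL.fieldSL_coe]
  ext i j
  fin_cases i <;> fin_cases j <;>
    simp [ll, Matrix.mul_apply, Fin.sum_univ_two, Units.val_inv_eq_inv_val]

theorem twist_dd (μ : Fˣ) (σ : F ≃+* F) (a : Fˣ) :
    twist μ σ (PSL2.mk (dd a)) = PSL2.mk (dd (Units.map (σ : F →* F) a)) := by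
  rw [twist_mk]
  refine congrArg PSL2.mk (Subtype.ext ?_)
  rw [AutPSL.conjSL_coe, ← map_inv, GL.coe_diagHom, GL.coe_diagHom, AutPSL.fieldSL_coe]
  ext i j
  fin_cases i <;> fin_cases j <;>
    simp [dd, Matrix.mul_apply, Fin.sum_univ_two, Units.val_inv_eq_inv_val] <;> field_simp

theorem ringChar_ne_two (h2 : (2 : F) ≠ 0) : ringChar F ≠ 2 := fun h => h2 (by
  have := ringChar.Nat.cast_ringChar (R := F)
  rw [h] at this
  simpa using this)

theorem commute_ww_dd_iff {a : Fˣ} (h : Commute (PSL2.mk (ww : SL(2, F))) (PSL2.mk (dd a))) :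
    (a : F) ^ 4 = 1 := by
  rw [commute_iff_eq, ← map_mul, ← map_mul, PSL2.mk_eq_mk] at h
  have ha : (a : F) ≠ 0 := a.ne_zero
  rcases h with h | h
  · have e := congrArg (fun B : SL(2, F) => B 0 1) h
    simp only [PSL2.mul01] at e
    simp [Units.val_inv_eq_inv_val] at e
    have h2 : (a : F) * a = 1 := by
      field_simp at e
      linear_combination -e
    linear_combination ((a : F) * a + 1) * h2
  · have e := congrArg (fun B : SL(2, F) => B 0 1) h
    simp only [Matrix.SpecialLinearGroup.coe_neg, Matrix.neg_apply, PSL2.mul01] at e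
    simp [Units.val_inv_eq_inv_val] at e
    have h2 : (a : F) * a = -1 := by
      field_simp at e
      linear_combination e
    linear_combination ((a : F) * a - 1) * h2

theorem exists_conj_torus (h2 : (2 : F) ≠ 0) {i : Fˣ} (hi : (i : F) * i = -1) :
    ∃ h : SL(2, F), h * dd i = ww * h := by
  refine ⟨⟨!![1, (i : F) / 2; (i : F), -(i : F) * ((i : F) / 2)], ?_⟩, ?_⟩
  · simp [Matrix.det_fin_two]
    field_simp
    linear_combination -2 * hi
  · have hinv : ((i⁻¹ : Fˣ) : F) = -(i : F) := by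
      rw [Units.val_inv_eq_inv_val]
      exact inv_eq_of_mul_eq_one_right (by linear_combination -hi)
    refine Subtype.ext ?_
    show (!![1, (i : F) / 2; (i : F), -(i : F) * ((i : F) / 2)] *
        !![(i : F), 0; 0, ((i⁻¹ : Fˣ) : F)] : Matrix (Fin 2) (Fin 2) F) =
      !![(0 : F), 1; -1, 0] * !![1, (i : F) / 2; (i : F), -(i : F) * ((i : F) / 2)]
    rw [hinv]
    ext a b
    fin_cases a <;> fin_cases b <;> simp <;>
      first
        | linear_combination hi
        | linear_combination (-(i : F) / 2) * hi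
        | linear_combination ((i : F) / 2) * hi
        | ring

theorem eq_three_of_two_pow {k n : ℕ} (hk : Odd k) (hk1 : 1 < k) (h : k ^ 2 - 1 = 2 ^ n) :
    k = 3 := by
  have e : k ^ 2 - 1 = (k + 1) * (k - 1) := by simpa using Nat.sq_sub_sq k 1
  obtain ⟨j, -, hj⟩ := (Nat.dvd_prime_pow Nat.prime_two).1 (h ▸ e ▸ Dvd.intro _ rfl : k + 1 ∣ 2 ^ n)
  obtain ⟨i, -, hi⟩ :=
    (Nat.dvd_prime_pow Nat.prime_two).1 (h ▸ e ▸ Dvd.intro_left _ rfl : k - 1 ∣ 2 ^ n)
  obtain ⟨l, hl⟩ := hk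
  rcases i with _ | _ | i
  · simp at hi; omega
  · simp at hi; omega
  rcases j with _ | _ | j
  · simp at hj; omega
  · simp at hj; omega
  have h1 : 2 ^ (i + 2) = 4 * 2 ^ i := by ring
  have h2 : 2 ^ (j + 2) = 4 * 2 ^ j := by ring
  omega

end Linear

open Linear

variable {G : Type*} [Group G] [Finite G] {F : Type} [Field F] [Fintype F]

/-- No element acts as `diag(μ, 1)` times a field involution with `μ` a non-square. -/
theorem Part.Hard.false_of_diag {P : Part G} (hP : P.Hard) (h2 : (2 : F) ≠ 0)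
    (E : Emb G PSL(2, F)) (g : G) (σ : F ≃+* F) (hσ : orderOf σ = 2) (μ : Fˣ)
    (hμ : ¬ IsSquare (μ : F)) (hρ : E.ρ g = twist μ σ) : False := by
  classical
  have hrc := ringChar_ne_two h2
  obtain ⟨K, hKcard, hKmem⟩ := fixed_card σ
  rw [hσ] at hKcard
  set k := Nat.card K with hk
  have hk1 : 1 < k := Finite.one_lt_card
  have hkodd : Odd k := by
    have := PSL2.odd_card_iff.2 h2
    rw [hKcard] at this
    exact (Nat.odd_pow_iff two_ne_zero).1 this
  have hσσ : ∀ x, σ (σ x) = x := fun x => by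
    have h1 : σ * σ = 1 := by rw [← pow_two, ← hσ, pow_orderOf_eq_one]
    exact RingEquiv.congr_fun h1 x
  -- fixed elements are squares
  have hfixsq : ∀ {a : F}, σ a = a → a ≠ 0 → IsSquare a := by
    intro a ha ha0
    rw [FiniteField.isSquare_iff hrc ha0, hKcard]
    have ha' := (hKmem a).2 ha
    letI := Fintype.ofFinite K
    have h1 : a ^ (k - 1) = 1 := by
      have := congrArg Subtype.val
        (FiniteField.pow_card_sub_one_eq_one (⟨a, ha'⟩ : K) (fun e => ha0 (congrArg Subtype.val e)))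
      rwa [SubmonoidClass.coe_pow, ← Nat.card_eq_fintype_card] at this
    obtain ⟨l, hl⟩ := hkodd
    have h3 : k ^ 2 / 2 = (k - 1) * (l + 1) := by
      rw [hl, show (2 * l + 1) ^ 2 = 4 * (l * l + l) + 1 by ring, show 2 * l + 1 - 1 = 2 * l by omega,
        show 2 * l * (l + 1) = 2 * (l * l + l) by ring]
      omega
    rw [h3, pow_mul, h1, one_pow]
  obtain ⟨i₀, hi₀⟩ : IsSquare (-1 : F) := hfixsq (by rw [map_neg, map_one]) (neg_ne_zero.2 one_ne_zero)
  have hμσ : (μ : F) * σ μ ≠ 1 := fun h1 => hμ (by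
    have hμ1 : (μ : F) ≠ -1 := fun e => hμ (e ▸ ⟨i₀, hi₀⟩)
    have hc : (1 : F) + μ ≠ 0 := fun e => hμ1 (by linear_combination e)
    have e : (μ : F) * σ (1 + (μ : F)) = 1 + μ := by
      rw [map_add, map_one]; linear_combination h1
    have hh : (μ : F) ^ (Fintype.card F / 2) * σ (1 + (μ : F)) ^ (Fintype.card F / 2) =
        (1 + (μ : F)) ^ (Fintype.card F / 2) := by rw [← mul_pow, e]
    rw [FiniteField.isSquare_iff hrc μ.ne_zero]
    rw [← map_pow] at hh
    rcases FiniteField.pow_dichotomy hrc hc with h | h <;>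
      · rw [h] at hh
        simpa using hh)
  have hg1 : g ≠ 1 := fun e => by
    have h3 : twist μ σ = 1 := by rw [← hρ, e, map_one]
    have h4 := congrArg (fun f : MulAut PSL(2, F) => f (PSL2.mk (uu 1))) h3
    simp only [twist_uu, MulAut.one_apply, map_one, mul_one] at h4
    exact hμ (by rw [mk_uu_inj h4]; exact IsSquare.one)
  have hg2 : orderOf g ≠ 2 := fun h => by
    have hgg := pow_orderOf_eq_one g
    rw [h, pow_two] at hgg
    have h3 : twist μ σ * twist μ σ = 1 := by rw [← hρ, ← map_mul, hgg, map_one]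
    have h4 := congrArg (fun f : MulAut PSL(2, F) => f (PSL2.mk (uu 1))) h3
    simp only [MulAut.mul_apply, twist_uu, MulAut.one_apply, map_one, mul_one] at h4
    exact hμσ (mk_uu_inj h4)
  have hσμ : σ μ ≠ (μ : F) := fun e => hμ (hfixsq e μ.ne_zero)
  -- facts about a torus involution
  have key : ∀ i : Fˣ, (i : F) * i = -1 →
      g ∈ P.comp (E.ι (PSL2.mk (dd i))) ∧ E.ι (PSL2.mk ww) ∈ P.comp (E.ι (PSL2.mk (dd i))) ∧
        ∀ a : Fˣ, orderOf (PSL2.mk (dd a)) ≠ 2 →
          E.ι (PSL2.mk (dd a)) ∈ P.comp (E.ι (PSL2.mk (dd i))) := by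
    intro i hi
    have hτo : orderOf (PSL2.mk (dd i)) = 2 := by
      refine orderOf_eq_prime ?_ fun h => ?_
      · rw [← map_pow, PSL2.dd_pow, show i ^ 2 = -1 from Units.ext (by simpa [pow_two] using hi),
          dd_neg, PSL2.dd_one, PSL2.mk_neg_one]
      · have e := sq_of_mk_dd_eq_one h
        rw [pow_two, hi] at e
        apply h2
        linear_combination -e
    have hτfix : E.ρ g (PSL2.mk (dd i)) = PSL2.mk (dd i) := by
      rw [hρ, twist_dd]
      have hcases : σ (i : F) = i ∨ σ (i : F) = -i := by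
        rw [← mul_self_eq_mul_self_iff, ← map_mul, hi, map_neg, map_one]
      rcases hcases with h | h
      · congr 2
        exact Units.ext h
      · rw [show Units.map (σ : F →* F) i = -i from Units.ext h, dd_neg, PSL2.mk_neg]
    have hE2 : orderOf (E.ι (PSL2.mk (dd i))) = 2 := by rw [E.orderOf_ι, hτo]
    have hgY : g ∈ P.comp (E.ι (PSL2.mk (dd i))) :=
      P.mem_of_commute_ne_two hE2 (E.commute_ι hτfix) hg2
    have hwτ : Commute (PSL2.mk (ww : SL(2, F))) (PSL2.mk (dd i)) := by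
      have hinv : i⁻¹ = -i := inv_eq_of_mul_eq_one_right (Units.ext (by simpa using congrArg Neg.neg hi))
      have e : PSL2.mk (ww * dd i * ww⁻¹) = PSL2.mk (dd i) := by
        rw [PSL2.ww_conj_dd, hinv, dd_neg, PSL2.mk_neg]
      rw [map_mul, map_mul, map_inv] at e
      exact mul_inv_eq_iff_eq_mul.1 e
    refine ⟨hgY, by_contra fun hw => ?_, fun a ha => P.mem_of_commute_ne_two hE2
      (Commute.map ?_ E.ι) (by rwa [E.orderOf_ι])⟩
    · have h1 := P.inverts hE2 (hwτ.map E.ι) hw hgY (E.commute_ι hτfix)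
      have h2 : g * (E.ι (PSL2.mk ww) * g * (E.ι (PSL2.mk ww))⁻¹) = 1 := by
        rw [h1, mul_inv_cancel]
      have h3 := congrArg (fun x => E.ρ x (PSL2.mk (uu 1))) h2
      simp only [map_mul, map_inv, map_one, E.ρ_ι, MulAut.mul_apply, MulAut.one_apply,
        MulAut.inv_apply, hρ] at h3
      have h4 : (MulAut.conj (PSL2.mk (ww : SL(2, F)))).symm (PSL2.mk (uu 1)) =
          PSL2.mk (ll (-1)) := by
        rw [MulEquiv.symm_apply_eq, MulAut.conj_apply, ← map_inv, ← map_mul, ← map_mul,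
          PSL2.ww_conj_ll, neg_neg]
      rw [h4, twist_ll, MulAut.conj_apply, ← map_inv, ← map_mul, ← map_mul, PSL2.ww_conj_ll,
        twist_uu] at h3
      have h5 := mk_uu_inj h3
      simp only [map_neg, map_one, neg_mul, one_mul, neg_neg, Units.val_inv_eq_inv_val,
        map_inv₀] at h5
      have hs : σ (μ : F) ≠ 0 := by simp
      field_simp at h5
      exact hσμ h5.symm
    · exact (Commute.map (show Commute (dd a) (dd i) by
        rw [commute_iff_eq, PSL2.dd_mul_dd, PSL2.dd_mul_dd, mul_comm]) PSL2.mk)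
  -- only the prime two divides `q - 1`
  by_cases hℓ : ∃ ℓ : ℕ, ℓ.Prime ∧ ℓ ≠ 2 ∧ ℓ ∣ Fintype.card F - 1
  · obtain ⟨ℓ, hℓ, hℓ2, hℓd⟩ := hℓ
    haveI := Fact.mk hℓ
    have hi₀0 : i₀ ≠ 0 := fun e => by simp [e] at hi₀
    obtain ⟨-, hw, hT⟩ := key (Units.mk0 i₀ hi₀0) hi₀.symm
    obtain ⟨a, ha⟩ := exists_prime_orderOf_dvd_card' ℓ (G := Fˣ)
      (by rwa [Nat.card_eq_fintype_card, Fintype.card_units])
    have ha1 : PSL2.mk (dd a) ≠ 1 := fun h => by
      have h3 : orderOf a ∣ 2 := orderOf_dvd_of_pow_eq_one (Units.ext (by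
        rw [Units.val_pow_eq_pow_val, Units.val_one]; exact sq_of_mk_dd_eq_one h))
      rw [ha] at h3
      exact hℓ2 ((Nat.prime_dvd_prime_iff_eq hℓ Nat.prime_two).1 h3)
    have hao : orderOf (PSL2.mk (dd a)) = ℓ := orderOf_eq_prime (by
      rw [← map_pow, PSL2.dd_pow, ← ha, pow_orderOf_eq_one, PSL2.dd_one, map_one]) ha1
    have hY1 : E.ι (PSL2.mk (dd (Units.mk0 i₀ hi₀0))) ≠ 1 := E.ι_ne_one fun h => by
      have e := sq_of_mk_dd_eq_one h
      rw [Units.val_mk0, pow_two, ← hi₀] at e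
      apply h2
      linear_combination -e
    have hc := hP.commute_odd hY1 (hT a (by rw [hao]; exact hℓ2)) hw
      (by rw [E.orderOf_ι, orderOf_mk_ww]) (by rw [E.orderOf_ι, hao]; exact hℓ.odd_of_ne_two hℓ2)
    have h4 := commute_ww_dd_iff (E.ι_inj ((map_mul E.ι _ _).trans
      (hc.symm.eq.trans (map_mul E.ι _ _).symm)))
    have h5 : ℓ ∣ 2 ^ 2 := ha ▸ orderOf_dvd_of_pow_eq_one (Units.ext (by
      rw [Units.val_pow_eq_pow_val, Units.val_one]; exact h4))
    exact hℓ2 ((Nat.prime_dvd_prime_iff_eq hℓ Nat.prime_two).1 (hℓ.dvd_of_dvd_pow h5))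
  push Not at hℓ
  have hk3 : k = 3 := by
    refine eq_three_of_two_pow hkodd hk1
      (Nat.eq_prime_pow_of_unique_prime_dvd (p := 2) ?_ fun {d} hd hdd => ?_)
    · have := Nat.pow_le_pow_left (show 2 ≤ k from hk1) 2
      omega
    · by_contra hd2
      exact hℓ d hd hd2 (hKcard ▸ hdd)
  have hq : Fintype.card F = 9 := by rw [hKcard, hk3]; rfl
  -- `q = 9`
  obtain ⟨a, ha⟩ : ∃ a : Fˣ, orderOf a = 8 := by
    obtain ⟨a, ha⟩ := IsCyclic.exists_generator (α := Fˣ)
    exact ⟨a, by rw [orderOf_eq_card_of_forall_mem_zpowers ha, Nat.card_eq_fintype_card,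
      Fintype.card_units, hq]⟩
  have ha4 : (a : F) ^ 4 = -1 := by
    rcases FiniteField.pow_dichotomy hrc a.ne_zero with h | h
    · exfalso
      rw [hq] at h
      have := orderOf_dvd_of_pow_eq_one (x := a) (n := 4) (Units.ext (by
        rw [Units.val_pow_eq_pow_val, Units.val_one]; exact h))
      rw [ha] at this
      norm_num at this
    · rwa [hq] at h
  have hi : ((a ^ 2 : Fˣ) : F) * (a ^ 2 : Fˣ) = -1 := by
    rw [Units.val_pow_eq_pow_val, ← ha4]; ring
  obtain ⟨-, hw, hT⟩ := key (a ^ 2) hi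
  set t := PSL2.mk (dd a) with ht
  have htsq : t ^ 2 = PSL2.mk (dd (a ^ 2)) := by rw [ht, ← map_pow, PSL2.dd_pow]
  have htne : t ^ 2 ≠ 1 := fun h => by
    rw [htsq] at h
    have e := sq_of_mk_dd_eq_one h
    rw [pow_two, hi] at e
    apply h2
    linear_combination -e
  have ht4 : t ^ 4 = 1 := by
    rw [ht, ← map_pow, PSL2.dd_pow]
    rw [show a ^ 4 = -1 from Units.ext (by simpa using ha4), dd_neg, PSL2.dd_one, PSL2.mk_neg_one]
  haveI : Fact (Nat.Prime 2) := ⟨Nat.prime_two⟩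
  have hto : orderOf t = 4 := orderOf_eq_prime_pow (p := 2) (n := 1) (by rwa [pow_one])
    (by exact ht4)
  obtain ⟨h, hh⟩ := exists_conj_torus h2 hi
  set s := PSL2.mk h * t * (PSL2.mk h)⁻¹ with hs
  have hso : orderOf s = 4 := by
    rw [hs, ← MulAut.conj_apply, MulEquiv.orderOf_eq, hto]
  have hssq : s ^ 2 = PSL2.mk ww := by
    rw [hs, conj_pow, htsq, ← map_inv, ← map_mul, ← map_mul, hh, mul_inv_cancel_right]
  have hY1 : E.ι (PSL2.mk (dd (a ^ 2))) ≠ 1 := by
    rw [← htsq]; exact E.ι_ne_one htne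
  have hsY : E.ι s ∈ P.comp (E.ι (PSL2.mk (dd (a ^ 2)))) := by
    have hw1 : E.ι (PSL2.mk (ww : SL(2, F))) ≠ 1 := E.ι_ne_one fun e => by
      have := orderOf_mk_ww (F := F); rw [e, orderOf_one] at this; omega
    rw [← P.eq_of_mem hY1 hw hw1]
    exact P.mem_of_commute_ne_two (by rw [E.orderOf_ι, orderOf_mk_ww])
      ((hssq ▸ (Commute.refl s).pow_right 2 : Commute s (PSL2.mk ww)).map E.ι)
      (by rw [E.orderOf_ι, hso]; norm_num)
  obtain ⟨K₂, hK₂, hK₂mem⟩ := hP.exists_pGroup hY1 2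
  have hmemT : ∀ x : PSL(2, F), orderOf x = 4 → E.ι x ∈ P.comp (E.ι (PSL2.mk (dd (a ^ 2)))) →
      x ∈ K₂.comap E.ι := fun x hx hxY => hK₂mem _ hxY ⟨2, by
    rw [← map_pow, show (2 : ℕ) ^ 2 = orderOf x from hx.symm, pow_orderOf_eq_one, map_one]⟩
  have htT := hmemT t hto (hT a (by rw [← ht, hto]; norm_num))
  have hsT := hmemT s hso hsY
  have hT2 : IsPGroup 2 (K₂.comap E.ι : Subgroup PSL(2, F)) := hK₂.comap_of_injective E.ι E.ι_inj
  obtain ⟨n, hn⟩ := IsPGroup.iff_card.1 hT2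
  have hG360 : Nat.card PSL(2, F) = 360 := by
    have := PSL2.two_mul_card_PSL (F := F) h2
    rw [hq] at this
    omega
  have hn3 : n ≤ 3 := by
    by_contra hn'
    have h1 : 2 ^ 4 ∣ 360 := hG360 ▸ (Nat.pow_dvd_pow 2 (by omega : 4 ≤ n)).trans
      (hn ▸ Subgroup.card_subgroup_dvd_card _)
    norm_num at h1
  have hle : zpowers t ≤ K₂.comap E.ι := zpowers_le.2 htT
  have hidx := Subgroup.index_mul_card ((zpowers t).subgroupOf (K₂.comap E.ι))
  rw [Nat.card_congr (subgroupOfEquivOfLe hle).toEquiv, Nat.card_zpowers, hto, hn] at hidx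
  have hs2 : s ^ 2 ∈ zpowers t := by
    have h8 : 2 ^ n ≤ 8 := le_trans (Nat.pow_le_pow_right two_pos hn3) (by norm_num)
    have hpos := ((zpowers t).subgroupOf (K₂.comap E.ι)).index_ne_zero_of_finite
    rcases (show ((zpowers t).subgroupOf (K₂.comap E.ι)).index = 1 ∨
        ((zpowers t).subgroupOf (K₂.comap E.ι)).index = 2 by omega) with h1 | h1
    · rw [Subgroup.index_eq_one, Subgroup.subgroupOf_eq_top] at h1
      exact pow_mem (h1 hsT) 2
    · exact mem_subgroupOf.1 (Subgroup.sq_mem_of_index_two h1 ⟨s, hsT⟩)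
  obtain ⟨j, hj⟩ := mem_zpowers_iff.1 hs2
  have hcomm : Commute (PSL2.mk (ww : SL(2, F))) t := by
    rw [← hssq, ← hj]
    exact (Commute.refl t).zpow_left j
  have h5 := commute_ww_dd_iff hcomm
  rw [ha4] at h5
  apply h2
  linear_combination -h5

/-- A `PSL(2, q)` socle: the group is `PSL(2, q)` or `PGL(2, q)`. -/
theorem Part.Hard.psl_cases {P : Part G} (hP : P.Hard) (hq : 5 ≤ Fintype.card F)
    (E : Emb G PSL(2, F)) :
    Nonempty (G ≃* PSL(2, F)) ∨
      (Odd (Fintype.card F) ∧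
        Nonempty (G ≃* (GL (Fin 2) F ⧸ Subgroup.center (GL (Fin 2) F)))) := by
  classical
  have hinner : ∀ M : GL (Fin 2) F, IsSquare (GeneralLinearGroup.det M) →
      ∃ l, E.ρ (E.ι l) = conjP M := by
    rintro M ⟨c, hc⟩
    obtain ⟨x, hx⟩ := (AutPSL.conjP_mem_inn_iff (m := 1) le_rfl M).2 ⟨c, by rw [hc, pow_two]⟩
    exact ⟨x, (E.ρ_ι x).trans hx⟩
  -- semilinear shape
  have hsemi : ∀ g : G, ∃ (M : GL (Fin 2) F) (σ : F ≃+* F), E.ρ g = conjP M * fieldP σ := by
    intro g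
    obtain ⟨M, σ, γ, hγ, he⟩ := AutPSL.exists_decomposition (m := 1) le_rfl (E.ρ g)
    rcases hγ with rfl | rfl
    · exact ⟨M, σ, by rw [he, mul_one]⟩
    have hW : (AutPSL.invP : MulAut PSL(2, F)) =
        conjP (Matrix.SpecialLinearGroup.toGL (ww : SL(2, F))) := by
      refine MulEquiv.ext fun x => ?_
      induction x using QuotientGroup.induction_on with
      | _ s =>
        rw [AutPSL.invP_mk, AutPSL.conjP_mk, AutPSL.conjSL_toGL]
        refine congrArg QuotientGroup.mk ?_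
        apply PSL2.ext2 <;>
          simp [AutPSL.invT_coe, Matrix.adjugate_fin_two, PSL2.mul00, PSL2.mul01, PSL2.mul10, PSL2.mul11, PSL2.inv00,
            PSL2.inv01, PSL2.inv10, PSL2.inv11]
    refine ⟨M * FieldExt.glMap σ (Matrix.SpecialLinearGroup.toGL (ww : SL(2, F))), σ, ?_⟩
    rw [he, hW, mul_assoc (conjP M), AutPSL.fieldP_mul_conjP, ← mul_assoc, map_mul]
  -- no field part
  have hno : ∀ (g : G) (M : GL (Fin 2) F) (σ : F ≃+* F), E.ρ g = conjP M * fieldP σ → σ = 1 := by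
    intro g M σ hg
    by_contra hσ
    haveI : Finite (F ≃+* F) := Finite.of_injective (fun s => (s : F → F)) DFunLike.coe_injective
    obtain ⟨r, hr, hrd⟩ := Nat.exists_prime_and_dvd (n := orderOf σ)
      fun e => hσ (orderOf_eq_one_iff.1 e)
    haveI := Fact.mk hr
    have hσr : orderOf (σ ^ (orderOf σ / r)) = r :=
      orderOf_pow_orderOf_div (orderOf_pos σ).ne' hrd
    set τ := σ ^ (orderOf σ / r) with hτ
    obtain ⟨N, hN⟩ : ∃ N : GL (Fin 2) F, E.ρ (g ^ (orderOf σ / r)) = conjP N * fieldP τ :=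
      ⟨_, by rw [map_pow, hg, AutPSL.conjP_mul_fieldP_pow]⟩
    have hfield : ∀ (g' : G) (N' : GL (Fin 2) F) (τ' : F ≃+* F), (orderOf τ').Prime →
        E.ρ g' = conjP N' * fieldP τ' → ¬ IsSquare (GeneralLinearGroup.det N') := by
      intro g' N' τ' hτ' hg' hsq
      obtain ⟨l, hl⟩ := hinner N' hsq
      exact hP.false_of_field hq E ((E.ι l)⁻¹ * g') τ' hτ'
        (by rw [map_mul, map_inv, hl, hg', inv_mul_cancel_left])
    have hns := hfield _ N τ (hσr ▸ hr) hN
    have h2 : (2 : F) ≠ 0 := fun h => hns (by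
      obtain ⟨c, hc⟩ := FiniteField.isSquare_of_char_two
        (CharP.ringChar_of_prime_eq_zero Nat.prime_two (by simpa using h))
        ((GeneralLinearGroup.det N : Fˣ) : F)
      exact ⟨Units.mk0 c (fun e => (GeneralLinearGroup.det N).ne_zero (by rw [hc, e, mul_zero])),
        Units.ext hc⟩)
    have hrc := ringChar_ne_two h2
    have hmap : GeneralLinearGroup.det (FieldExt.glMap τ N) =
        Units.map (τ : F →* F) (GeneralLinearGroup.det N) := by
      refine Units.ext ?_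
      simp [GeneralLinearGroup.val_det_apply, FieldExt.glMap_val]
      exact (RingHom.map_det τ.toRingHom N.val).symm
    by_cases hr2 : r = 2
    · subst hr2
      set d := GeneralLinearGroup.det N
      have hdetD : GeneralLinearGroup.det (GL.diagHom ![d, 1]) = d := by
        rw [GL.det_diagHom, Fin.prod_univ_two]; simp
      obtain ⟨l, hl⟩ := hinner (N * (GL.diagHom ![d, 1])⁻¹)
        (by rw [map_mul, map_inv, hdetD, mul_inv_cancel]; exact IsSquare.one)
      refine hP.false_of_diag h2 E ((E.ι l)⁻¹ * g ^ (orderOf σ / 2)) τ hσr d (fun hsq => hns ?_) ?_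
      · obtain ⟨c, hc⟩ := hsq
        exact ⟨Units.mk0 c (fun e => by simp [e] at hc), Units.ext hc⟩
      · rw [map_mul, map_inv, hl, hN, map_mul, map_inv, twist]
        group
    -- `r` odd: square
    have hodd := hr.odd_of_ne_two hr2
    obtain ⟨j, hj⟩ := hodd
    have hρ2 : E.ρ (g ^ (orderOf σ / r) * g ^ (orderOf σ / r)) =
        conjP (N * FieldExt.glMap τ N) * fieldP (τ * τ) := by
      rw [map_mul, hN, map_mul, mul_assoc, ← mul_assoc (fieldP τ), AutPSL.fieldP_mul_conjP,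
        show (fieldP (τ * τ) : MulAut PSL(2, F)) = fieldP τ * fieldP τ from
          map_mul (AutPSL.fieldPHom (m := 1)) τ τ]
      simp only [mul_assoc]
    refine hfield _ _ _ ?_ hρ2 ?_
    · rw [← pow_two, Nat.Coprime.orderOf_pow (y := τ) (m := 2)
      (by rw [hσr]; exact (Nat.coprime_primes hr Nat.prime_two).2 hr2), hσr]
      exact hr
    · rw [FiniteField.unit_isSquare_iff hrc] at hns ⊢
      rw [map_mul, hmap, mul_pow, ← map_pow]
      refine Units.ext ?_
      have hm1 : ((GeneralLinearGroup.det N : Fˣ) : F) ^ (Fintype.card F / 2) = -1 :=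
        (FiniteField.pow_dichotomy hrc (GeneralLinearGroup.det N).ne_zero).resolve_left
          fun h => hns (Units.ext (by rw [Units.val_pow_eq_pow_val, h, Units.val_one]))
      simp only [Units.val_mul, Units.coe_map, Units.val_pow_eq_pow_val, Units.val_one, map_pow]
      rw [hm1, MonoidHom.coe_coe, ← map_pow, hm1, map_neg, map_one]
      ring
  have hconj : ∀ g : G, ∃ M : GL (Fin 2) F, E.ρ g = conjP M := fun g => by
    obtain ⟨M, σ, h⟩ := hsemi g
    refine ⟨M, ?_⟩
    rw [h, hno g M σ h, AutPSL.fieldP_one (m := 1), mul_one]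
  by_cases hsurj : ∀ g : G, ∃ l, E.ι l = g
  · exact Or.inl (E.mulEquiv_of_surjective hsurj)
  push Not at hsurj
  obtain ⟨g₀, hg₀⟩ := hsurj
  obtain ⟨M₀, hM₀⟩ := hconj g₀
  have hns : ¬ IsSquare (GeneralLinearGroup.det M₀) := fun h => by
    obtain ⟨l, hl⟩ := hinner M₀ h
    exact hg₀ l (E.ρ_inj (hl.trans hM₀.symm))
  have h2 : (2 : F) ≠ 0 := fun h => hns (by
    obtain ⟨c, hc⟩ := FiniteField.isSquare_of_char_two
      (CharP.ringChar_of_prime_eq_zero Nat.prime_two (by simpa using h))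
      ((GeneralLinearGroup.det M₀ : Fˣ) : F)
    exact ⟨Units.mk0 c (fun e => (GeneralLinearGroup.det M₀).ne_zero (by rw [hc, e, mul_zero])),
      Units.ext hc⟩)
  have hrc := ringChar_ne_two h2
  have hall : ∀ M : GL (Fin 2) F, ∃ g, E.ρ g = conjP M := fun M => by
    by_cases hM : IsSquare (GeneralLinearGroup.det M)
    · obtain ⟨l, hl⟩ := hinner M hM; exact ⟨_, hl⟩
    have hprod : IsSquare (GeneralLinearGroup.det (M * M₀⁻¹)) := by
      rw [map_mul, map_inv, FiniteField.unit_isSquare_iff hrc, mul_pow, inv_pow, mul_inv_eq_one]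
      rw [FiniteField.unit_isSquare_iff hrc] at hM hns
      have hneg : ∀ u : Fˣ, u ^ (Fintype.card F / 2) ≠ 1 →
          ((u ^ (Fintype.card F / 2) : Fˣ) : F) = -1 := fun u hu => by
        rw [Units.val_pow_eq_pow_val]
        exact (FiniteField.pow_dichotomy hrc u.ne_zero).resolve_left
          fun h => hu (Units.ext (by rw [Units.val_pow_eq_pow_val, h, Units.val_one]))
      exact Units.ext ((hneg _ hM).trans (hneg _ hns).symm)
    obtain ⟨l, hl⟩ := hinner _ hprod
    exact ⟨E.ι l * g₀, by rw [map_mul, hl, hM₀, map_mul, map_inv, inv_mul_cancel_right]⟩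
  have hker : (conjP : GL (Fin 2) F →* MulAut PSL(2, F)).ker = Subgroup.center (GL (Fin 2) F) := by
    ext M
    rw [MonoidHom.mem_ker, GeneralLinearGroup.center_eq_range_scalar, MonoidHom.mem_range,
      AutPSL.conjP_eq_one_iff (m := 1) le_rfl M]
    exact ⟨fun ⟨c, hc⟩ => ⟨c, hc.symm⟩, fun ⟨c, hc⟩ => ⟨c, hc.symm⟩⟩
  have hrange : E.ρ.range = (conjP : GL (Fin 2) F →* MulAut PSL(2, F)).range := by
    refine le_antisymm ?_ ?_
    · rintro _ ⟨g, rfl⟩
      obtain ⟨M, hM⟩ := hconj g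
      exact ⟨M, hM.symm⟩
    · rintro _ ⟨M, rfl⟩
      obtain ⟨g, hg⟩ := hall M
      exact ⟨g, hg⟩
  exact Or.inr ⟨PSL2.odd_card_iff.2 h2, ⟨((MonoidHom.ofInjective E.ρ_inj).trans
    (MulEquiv.subgroupCongr hrange)).trans ((QuotientGroup.quotientMulEquivOfEq hker).symm.trans
      (QuotientGroup.quotientKerEquivRange _)).symm⟩⟩

end Cfsg.Agent.GroupPartition
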