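import Cfsg.Agent.Lib.GroupPartition.Elementary
import Cfsg.Agent.Lib.OddOrder.CNBasic

/-!
# Groups with a partition and no small configuration

`Part.Hard`: no nontrivial abelian normal subgroup and no component is its own normaliser. All
components are then nilpotent.
-/

set_option autoImplicit false
set_option linter.style.haveILetI false

namespace Cfsg.Agent.GroupPartition

open Subgroup

namespace Part

variable {G : Type*} [Group G] (P : Part G)

/-- No abelian normal subgroup and no self-normalising component. -/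
structure Hard : Prop where
  noAb : ∀ A : Subgroup G, A.Normal → IsMulCommutative A → A = ⊥
  normalizer_ne : ∀ g : G, g ≠ 1 → normalizer (P.comp g : Set G) ≠ P.comp g

theorem conj_ne_one {g : G} (a : G) (hg : g ≠ 1) : a * g * a⁻¹ ≠ 1 := fun e =>
  hg (conj_eq_one_iff.1 e)

theorem mem_comp_conj {g x : G} (a : G) (hg : g ≠ 1) (hx : x ∈ P.comp g) :
    a * x * a⁻¹ ∈ P.comp (a * g * a⁻¹) := by
  rw [P.conj a hg]
  exact ⟨x, hx, rfl⟩

theorem conj_mem {g x a : G} (ha : a ∈ normalizer (P.comp g : Set G)) (hx : x ∈ P.comp g) :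
    a * x * a⁻¹ ∈ P.comp g :=
  (mem_normalizer_iff.1 ha x).1 hx

theorem not_mem_of_comp_ne {x g : G} (hg : g ≠ 1) (hx : x ≠ 1) (h : P.comp x ≠ P.comp g) :
    x ∉ P.comp g := fun hxg => h (P.eq_of_mem hg hxg hx)

variable [Finite G]

/-- An element commuting with an involution outside whose component it lies is an involution. -/
theorem orderOf_eq_two {x t : G} (ht : orderOf t = 2) (hc : Commute x t) (hx : x ∉ P.comp t) :
    orderOf x = 2 := by
  have ht1 : t ≠ 1 := fun e => by simp [e] at ht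
  have hx1 : x ≠ 1 := fun e => hx (e ▸ one_mem _)
  have hne : P.comp x ≠ P.comp t := fun e => hx (e ▸ P.mem x)
  rw [(P.orderOf_eq_of_commute hx1 ht1 hc hne).1, ht]

theorem mem_of_commute_ne_two {x t : G} (ht : orderOf t = 2) (hc : Commute x t)
    (hx : orderOf x ≠ 2) : x ∈ P.comp t :=
  by_contra fun h => hx (P.orderOf_eq_two ht hc h)

/-- An element outside the component of the involution `t` centralising `t` inverts the part of
that component which centralises `t`. -/
theorem inverts {x t c : G} (ht : orderOf t = 2) (hc : Commute x t) (hx : x ∉ P.comp t)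
    (hcm : c ∈ P.comp t) (hct : Commute c t) : x * c * x⁻¹ = c⁻¹ := by
  have h2 : x * x = 1 := by rw [← pow_two, ← P.orderOf_eq_two ht hc hx, pow_orderOf_eq_one]
  have hxc : x * c ∉ P.comp t := fun h => hx (by
    have := mul_mem h (inv_mem hcm)
    rwa [mul_inv_cancel_right] at this)
  have h3 : (x * c) * (x * c) = 1 := by
    rw [← pow_two, ← P.orderOf_eq_two ht (hc.mul_left hct) hxc, pow_orderOf_eq_one]
  rw [inv_eq_of_mul_eq_one_right h2, eq_inv_iff_mul_eq_one]
  rw [← mul_assoc] at h3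
  exact h3

theorem hard_of_not_small (h : ¬ Small G) : P.Hard := by
  refine ⟨fun A hA hAc => by_contra fun hA1 => h (haveI := hA; P.small_of_abelian_normal hAc hA1),
    fun g hg hN => h (Or.inr (Or.inr ⟨P.comp g, P.comp_ne_bot hg, P.ne_top hg, fun a ha => ?_⟩))⟩
  refine (eq_bot_iff_forall _).2 fun x hx => by_contra fun hx1 => ha (hN ▸ ?_)
  obtain ⟨hxX, y, hy, rfl⟩ := hx
  exact P.mem_normalizer_of_conj hg hy (fun e => hx1 (by simp [e])) hxX

variable {P} (hP : P.Hard)
include hP

theorem Hard.isNilpotent_comp {g : G} (hg : g ≠ 1) : Group.IsNilpotent (P.comp g) := by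
  set N := normalizer (P.comp g : Set G) with hN
  have hXN : P.comp g ≤ N := le_normalizer
  have hL : ∀ h : G, h ≠ 1 → ¬ N ≤ P.comp h := fun h hh hle => hP.normalizer_ne g hg
    (le_antisymm (hle.trans (P.eq_of_mem hh (hle (hXN (P.mem g))) hg).ge) hXN)
  have hg' : (⟨g, hXN (P.mem g)⟩ : N) ≠ 1 := fun e => hg (congrArg Subtype.val e)
  haveI : ((P.restrict N hL).comp ⟨g, hXN (P.mem g)⟩).Normal :=
    show ((P.comp g).subgroupOf N).Normal from Subgroup.normal_subgroupOf_iff_le_normalizer hXN |>.2 le_rfl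
  have h : Group.IsNilpotent ((P.comp g).subgroupOf N) :=
    (P.restrict N hL).isNilpotent_of_normal hg'
  exact Group.nilpotent_of_mulEquiv (Subgroup.subgroupOfEquivOfLe hXN)

theorem Hard.commute_of_coprime {g a b : G} {p : ℕ} [Fact p.Prime] (hg : g ≠ 1)
    (ha : a ∈ P.comp g) (hb : b ∈ P.comp g) (hbp : orderOf b = p) (hap : (orderOf a).Coprime p) :
    Commute a b :=
  OddOrder.CN.commute_of_nilpotent (hP.isNilpotent_comp hg) hb ha
    ⟨1, by rw [pow_one, ← hbp, pow_orderOf_eq_one]⟩ hap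

theorem Hard.commute_odd {g a b : G} (hg : g ≠ 1) (ha : a ∈ P.comp g) (hb : b ∈ P.comp g)
    (hb2 : orderOf b = 2) (hodd : Odd (orderOf a)) : Commute a b :=
  haveI : Fact (Nat.Prime 2) := ⟨Nat.prime_two⟩
  hP.commute_of_coprime hg ha hb hb2 (Nat.coprime_two_right.2 hodd)

omit hP in
theorem orderOf_of_mem_layer {g u : G} {p : ℕ} [Fact p.Prime] (hu : u ∈ P.layer g p) (hu1 : u ≠ 1) :
    orderOf u = p :=
  orderOf_eq_prime hu.2.2 hu1

omit hP in
theorem conj_mem_layer {g u a : G} {p : ℕ} (ha : a ∈ normalizer (P.comp g : Set G))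
    (hu : u ∈ P.layer g p) : a * u * a⁻¹ ∈ P.layer g p := by
  refine P.mem_layer.2 ⟨P.conj_mem ha hu.1, fun y hy => ?_, by
    rw [conj_pow, hu.2.2, mul_one, mul_inv_cancel]⟩
  have hy' : a⁻¹ * y * a ∈ P.comp g := (mem_normalizer_iff.1 ha _).2 (by
    rwa [show a * (a⁻¹ * y * a) * a⁻¹ = y by group])
  have h := (hu.2.1 _ hy').map (MulAut.conj a).toMonoidHom
  simpa [mul_assoc] using h

theorem Hard.exists_layer {g : G} {p : ℕ} [Fact p.Prime] (hg : g ≠ 1)
    (hp : p ∣ Nat.card (P.comp g)) : ∃ u ∈ P.layer g p, orderOf u = p := by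
  haveI := hP.isNilpotent_comp hg
  obtain ⟨⟨u, hu⟩, hu1⟩ := Subgroup.ne_bot_iff_exists_ne_one.1 (P.layer_ne_bot (g := g) hp)
  exact ⟨u, hu, P.orderOf_of_mem_layer hu fun e => hu1 (Subtype.ext e)⟩

theorem Hard.exists_fixed_layer {g h : G} {p : ℕ} [Fact p.Prime] (hg : g ≠ 1)
    (hh : h ∈ normalizer (P.comp g : Set G)) (ho : orderOf h = p)
    (hp : p ∣ Nat.card (P.comp g)) : ∃ u ∈ P.layer g p, u ≠ 1 ∧ Commute h u := by
  haveI := hP.isNilpotent_comp hg
  set V := P.layer g p with hV
  have hVn : zpowers h ≤ normalizer (V : Set G) := by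
    refine le_trans (zpowers_le.2 hh) fun a ha => mem_normalizer_iff.2 fun u =>
      ⟨fun hu => conj_mem_layer ha hu, fun hu => ?_⟩
    have := conj_mem_layer (inv_mem ha) hu
    simpa [mul_assoc] using this
  have hVp : IsPGroup p V := fun x => ⟨1, Subtype.ext (by
    rw [SubmonoidClass.coe_pow, pow_one, OneMemClass.coe_one]; exact x.2.2.2)⟩
  have hW : IsPGroup p (V ⊔ zpowers h : Subgroup G) :=
    hVp.to_sup_of_normal_left' (IsPGroup.of_card (n := 1) (by rw [Nat.card_zpowers, ho, pow_one]))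
      hVn
  haveI := hW.isNilpotent
  haveI : (V.subgroupOf (V ⊔ zpowers h)).Normal :=
    (Subgroup.normal_subgroupOf_iff_le_normalizer le_sup_left).2 (sup_le le_normalizer hVn)
  obtain ⟨⟨⟨u, huW⟩, huV, huc⟩, hu1⟩ := Subgroup.ne_bot_iff_exists_ne_one.1
    (Solvable.inf_center_ne_bot (N := V.subgroupOf (V ⊔ zpowers h))
      (fun e => P.layer_ne_bot hp (by
        rw [Subgroup.subgroupOf_eq_bot, disjoint_iff, inf_eq_left.2 le_sup_left] at e
        exact e)))
  exact ⟨u, mem_subgroupOf.1 huV, fun e => hu1 (Subtype.ext (Subtype.ext e)),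
    congrArg Subtype.val (Subgroup.mem_center_iff.1 huc ⟨h, mem_sup_right (mem_zpowers h)⟩)⟩

end Part

end Cfsg.Agent.GroupPartition
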