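import Cfsg.Agent.Lib.GroupPartition.Basic
import Cfsg.Agent.Lib.GroupPartition.Acting
import Cfsg.Agent.Lib.Coprime.Basic
import Cfsg.Agent.Lib.Frobenius.Basic
import Cfsg.Agent.Lib.PComplement.FixedPointFree
import Cfsg.Agent.S4249

/-!
# A normal component

If a component is normal it is nilpotent, and the group is a Frobenius group or all elements
outside the component have the same prime order.
-/

set_option autoImplicit false
set_option linter.style.haveILetI false
open scoped Pointwise IsMulCommutative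

namespace Cfsg.Agent.GroupPartition

open Subgroup

/-- A coprime normal subgroup whose outer elements act without fixed points is a Frobenius
kernel. -/
theorem small_of_coprime {G : Type*} [Group G] [Finite G] (K : Subgroup G) [K.Normal]
    (hK : K ≠ ⊥) (hKt : K ≠ ⊤) (hco : (Nat.card K).Coprime K.index)
    (hfpf : ∀ h : G, h ∉ K → ∀ k ∈ K, Commute h k → k = 1) : Small G := by
  obtain ⟨H, hH⟩ := exists_right_complement'_of_coprime hco
  have hH1 : H ≠ ⊥ := fun e => by
    subst e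
    exact hKt (isComplement'_bot_right.1 hH)
  refine Or.inr (Or.inr ⟨H, (Frobenius.isFrobeniusComplement_iff hH hK hH1).2 fun h hh h1 => ?_⟩)
  refine (Subgroup.eq_bot_iff_forall _).2 fun k hk => hfpf h (fun hhK => h1 ?_) k hk.1 ?_
  · exact Subgroup.disjoint_def.1 hH.disjoint hhK hh
  · exact (show Commute k h from mem_centralizer_singleton_iff.1 hk.2).symm

/-- In a group of elements of prime order with two primes, some element of order `r` normalises a
nontrivial `p`-subgroup. -/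
theorem exists_section {Q : Type*} [Group Q] [Finite Q] (hord : ∀ q : Q, q ≠ 1 → (orderOf q).Prime)
    (htwo : ∀ p : ℕ, ∃ q : Q, q ≠ 1 ∧ orderOf q ≠ p) :
    ∃ (p r : ℕ) (A : Subgroup Q) (b : Q), p.Prime ∧ r.Prime ∧ p ≠ r ∧ IsPGroup p A ∧ A ≠ ⊥ ∧
      orderOf b = r ∧ b ∈ normalizer (A : Set Q) := by
  by_cases hn : ∃ (p : ℕ) (A : Subgroup Q), p.Prime ∧ A.Normal ∧ IsPGroup p A ∧ A ≠ ⊥
  · obtain ⟨p, A, hp, hA, hAp, hA1⟩ := hn
    obtain ⟨b, hb1, hb⟩ := htwo p
    exact ⟨p, orderOf b, A, b, hp, hord b hb1, hb.symm, hAp, hA1, rfl,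
      by rw [Subgroup.normalizer_eq_top]; exact mem_top b⟩
  push Not at hn
  obtain ⟨q₀, hq₀, -⟩ := htwo 0
  haveI : Nontrivial Q := ⟨⟨q₀, 1, hq₀⟩⟩
  have h2 : 2 ∣ Nat.card Q := by
    by_contra h2
    haveI := S0205.result (Nat.odd_iff.2 (Nat.two_dvd_ne_zero.1 h2) : Odd (Nat.card Q))
    obtain ⟨N, r, hNn, -, hN1, -, -, hr, hNr⟩ :=
      Solvable.exists_abelian_minimal_normal (K := (⊤ : Subgroup Q)) inferInstance top_ne_bot
    exact hN1 (hn r N hr hNn hNr)
  haveI : Fact (Nat.Prime 2) := ⟨Nat.prime_two⟩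
  obtain ⟨s, hs⟩ := exists_prime_orderOf_dvd_card' 2 h2
  obtain ⟨x, hx⟩ : ∃ x : Q, ¬ IsPGroup 2 (closure ({s, x * s * x⁻¹} : Set Q)) := by
    by_contra hall
    push Not at hall
    have h1 := hn 2 _ Nat.prime_two inferInstance (Involution.baer_suzuki (p := 2) s hall)
    have h3 : s ∈ (⊥ : Subgroup Q) := h1 ▸ subset_normalClosure (Set.mem_singleton s)
    rw [Subgroup.mem_bot.1 h3, orderOf_one] at hs
    omega
  set s' := x * s * x⁻¹ with hs'
  have hss : s * s = 1 := Involution.sq_of_orderOf_two hs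
  have hs's' : s' * s' = 1 := by rw [hs', ← sq, conj_pow, sq, hss]; group
  have he1 : s * s' ≠ 1 := fun e => hx (Involution.isPGroup_closure_pair hss hs's' (a := 0)
    (by rw [pow_zero, pow_one, e]))
  have he2 : orderOf (s * s') ≠ 2 := fun e => hx (Involution.isPGroup_closure_pair hss hs's' (a := 1)
    (by rw [pow_one, ← e, pow_orderOf_eq_one]))
  haveI := Fact.mk (hord _ he1)
  refine ⟨orderOf (s * s'), 2, zpowers (s * s'), s, hord _ he1, Nat.prime_two, he2,
    IsPGroup.of_card (n := 1) (by rw [Nat.card_zpowers, pow_one]),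
    fun e => he1 (zpowers_eq_bot.1 e), hs, ?_⟩
  have hinv : s * (s * s') * s⁻¹ = (s * s')⁻¹ := by
    rw [mul_inv_rev, inv_eq_of_mul_eq_one_right hss, inv_eq_of_mul_eq_one_right hs's',
      ← mul_assoc s s s', hss, one_mul]
  have hmap : (zpowers (s * s')).map (MulAut.conj s).toMonoidHom = zpowers (s * s') := by
    rw [MonoidHom.map_zpowers]
    show zpowers (s * (s * s') * s⁻¹) = _
    rw [hinv, Subgroup.zpowers_inv]
  exact mem_normalizer_iff_map_conj_eq.2 hmap

namespace Part

variable {G : Type*} [Group G] [Finite G] (P : Part G)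

theorem orderOf_lift {g : G} (hg : g ≠ 1) [(P.comp g).Normal]
    (hall : ∀ h, h ∉ P.comp g → (orderOf h).Prime) {h : G} (hh : h ∉ P.comp g) :
    orderOf (QuotientGroup.mk' (P.comp g) h) = orderOf h := by
  refine ((Nat.dvd_prime (hall h hh)).1 (orderOf_map_dvd _ h)).resolve_left fun e => hh ?_
  rwa [orderOf_eq_one_iff, QuotientGroup.mk'_apply, QuotientGroup.eq_one_iff] at e

/-- A normal component is nilpotent. -/
theorem isNilpotent_of_normal {g : G} (hg : g ≠ 1) [(P.comp g).Normal] :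
    Group.IsNilpotent (P.comp g) := by
  classical
  set X := P.comp g with hX
  have hmem : ∀ {h : G} {n : ℕ}, h ∉ X → h ^ n ≠ 1 → h ^ n ∉ X := fun {h} {n} hh hn hX' => hh (by
    have h1 := P.eq_of_mem hg hX' hn
    rw [P.comp_pow hn] at h1
    have h2 := P.mem h
    rwa [h1] at h2)
  by_cases hfree : ∃ h, h ∉ X ∧ (orderOf h).Prime ∧ ∀ u ∈ X, Commute h u → u = 1
  · obtain ⟨h, hh, hp, hf⟩ := hfree
    haveI := Fact.mk hp
    refine PComplement.isNilpotent_of_fpf (p := orderOf h) X (MulAut.conjNormal h) ?_ fun u hu => ?_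
    · rw [← map_pow, pow_orderOf_eq_one, map_one]
    · have h1 : h * (u : G) * h⁻¹ = u := by
        have := congrArg Subtype.val hu
        rwa [MulAut.conjNormal_apply] at this
      rw [mul_inv_eq_iff_eq_mul] at h1
      exact Subtype.ext (hf u u.2 h1)
  push Not at hfree
  have hall : ∀ h, h ∉ X → (orderOf h).Prime := by
    intro h hh
    obtain ⟨p, hp, hpd⟩ := Nat.exists_prime_and_dvd (n := orderOf h)
      fun e => hh (by rw [orderOf_eq_one_iff.1 e]; exact one_mem X)
    haveI := Fact.mk hp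
    have ho : orderOf (h ^ (orderOf h / p)) = p := orderOf_pow_orderOf_div (orderOf_pos h).ne' hpd
    have hne : h ^ (orderOf h / p) ≠ 1 := fun e => by
      rw [e, orderOf_one] at ho; exact hp.one_lt.ne ho
    obtain ⟨u, hu, hc, hu1⟩ := hfree _ (hmem hh hne) (ho.symm ▸ hp)
    have hkn : h ∈ normalizer (X : Set G) := by rw [Subgroup.normalizer_eq_top]; exact mem_top h
    obtain ⟨-, -, h3⟩ := P.orderOf_of_fixes hg (hmem hh hne) hu hu1 hc
      (k := h) (by rw [P.comp_pow hne]; exact P.mem h) (fun e => hh (e ▸ one_mem X)) hkn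
    rw [h3, ho]; exact hp
  by_cases hsame : ∃ p : ℕ, p.Prime ∧ ∀ h, h ∉ X → orderOf h = p
  · obtain ⟨p, hp, hsame⟩ := hsame
    by_cases hG : IsPGroup p G
    · haveI := Fact.mk hp
      haveI := hG.isNilpotent
      infer_instance
    have hle : closure {x : G | x ^ p ≠ 1} ≤ X := (closure_le _).2 fun x hx =>
      by_contra fun hxX => hx (by rw [← hsame x hxX, pow_orderOf_eq_one])
    have hne : closure {x : G | x ^ p ≠ 1} ≠ ⊤ := fun e =>
      P.ne_top hg (eq_top_iff.2 (e ▸ hle))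
    obtain ⟨hnil, hidx⟩ := S4249.result p hp hG hne
    have heq : closure {x : G | x ^ p ≠ 1} = X := by
      refine le_antisymm hle ?_
      rw [← Subgroup.relIndex_eq_one]
      have h1 := Subgroup.relIndex_mul_index hle
      rw [hidx] at h1
      refine ((Nat.dvd_prime hp).1 (Dvd.intro _ h1)).resolve_right fun e => ?_
      rw [e] at h1
      have h2 : X.index = 1 := by
        have := hp.pos
        exact Nat.eq_of_mul_eq_mul_left this (h1.trans (mul_one p).symm)
      exact P.ne_top hg (Subgroup.index_eq_one.1 h2)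
    rw [← heq]; exact hnil
  push Not at hsame
  -- two primes in the quotient
  have hord : ∀ q : G ⧸ X, q ≠ 1 → (orderOf q).Prime := fun q hq => by
    obtain ⟨h, rfl⟩ := QuotientGroup.mk'_surjective X q
    have hh : h ∉ X := fun e => hq ((QuotientGroup.eq_one_iff h).2 e)
    rw [P.orderOf_lift hg hall hh]
    exact hall h hh
  obtain ⟨h₀, -, hh₀⟩ := SetLike.exists_of_lt (lt_top_iff_ne_top.2 (P.ne_top hg))
  have htwo : ∀ p : ℕ, ∃ q : G ⧸ X, q ≠ 1 ∧ orderOf q ≠ p := fun p => by
    by_cases hp : p.Prime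
    · obtain ⟨h, hh, hne⟩ := hsame p hp
      exact ⟨QuotientGroup.mk' X h, fun e => hh ((QuotientGroup.eq_one_iff h).1 e),
        by rwa [P.orderOf_lift hg hall hh]⟩
    · refine ⟨QuotientGroup.mk' X h₀, fun e => hh₀ ((QuotientGroup.eq_one_iff h₀).1 e), fun e => hp ?_⟩
      rw [← e, P.orderOf_lift hg hall hh₀]
      exact hall h₀ hh₀
  obtain ⟨p, r, A, b, hp, hr, hpr, hAp, hA1, hb, hbn⟩ := exists_section hord htwo
  haveI := Fact.mk hp
  haveI := Fact.mk hr
  set T := A ⊔ zpowers b with hT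
  have hTn : zpowers b ≤ normalizer (A : Set (G ⧸ X)) := zpowers_le.2 hbn
  have hdisj : zpowers b ⊓ A = ⊥ := by
    refine Coprime.disjoint_of_coprime_card ?_
    obtain ⟨n, hn⟩ := IsPGroup.iff_card.1 hAp
    rw [hn, Nat.card_zpowers, hb]
    exact Nat.Coprime.pow_right _ ((Nat.coprime_primes hr hp).2 hpr.symm)
  have hcard : Nat.card T = r * Nat.card A := by
    rw [hT, sup_comm, Coprime.card_sup_of_le_normalizer hTn hdisj, Nat.card_zpowers, hb]
  haveI hAn : (A.subgroupOf T).Normal :=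
    Coprime.normal_subgroupOf_of_le_normalizer (sup_le le_normalizer hTn)
  have hidx : (A.subgroupOf T).index = r := by
    have h1 := (A.subgroupOf T).card_mul_index
    rw [Nat.card_congr (Subgroup.subgroupOfEquivOfLe (le_sup_left : A ≤ T)).toEquiv, hcard,
      mul_comm r] at h1
    exact Nat.eq_of_mul_eq_mul_left Nat.card_pos h1
  have hout : ∀ y ∈ T, y ∉ A → orderOf y = r := by
    intro y hyT hyA
    have hy1 : y ≠ 1 := fun e => hyA (e ▸ one_mem A)
    by_contra hne
    have hyr : y ^ r ∈ A := by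
      have := Subgroup.pow_index_mem (A.subgroupOf T) (⟨y, hyT⟩ : T)
      rw [hidx] at this
      exact mem_subgroupOf.1 this
    obtain ⟨k, hk⟩ := exists_pow_eq_self_of_coprime (x := y) (n := r)
      ((Nat.coprime_primes hr (hord y hy1)).2 (Ne.symm hne))
    exact hyA (hk ▸ pow_mem hyr k)
  -- the preimages
  set K := T.comap (QuotientGroup.mk' X) with hK
  set H := A.comap (QuotientGroup.mk' X) with hH
  have hXH : X ≤ H := fun x hx => by
    rw [hH, mem_comap, QuotientGroup.mk'_apply, (QuotientGroup.eq_one_iff x).2 hx]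
    exact one_mem A
  have hHK : H ≤ K := comap_mono le_sup_left
  have hKH : ∀ y ∈ K, y ∉ H → y ^ r = 1 := fun y hyK hyH => by
    have hyX : y ∉ X := fun e => hyH (hXH e)
    rw [← hout _ hyK hyH, P.orderOf_lift hg hall hyX, pow_orderOf_eq_one]
  have hnotr : ¬ IsPGroup r K := fun hK' => by
    obtain ⟨⟨a, ha⟩, ha1⟩ := Subgroup.ne_bot_iff_exists_ne_one.1 hA1
    have ha1' : a ≠ 1 := fun e => ha1 (Subtype.ext e)
    obtain ⟨k, hk⟩ := IsPGroup.iff_orderOf.1 hAp ⟨a, ha⟩
    rw [Subgroup.orderOf_mk] at hk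
    obtain ⟨a', rfl⟩ := QuotientGroup.mk'_surjective X a
    obtain ⟨l, hl⟩ := IsPGroup.iff_orderOf.1 hK' ⟨a', hHK (mem_comap.2 ha)⟩
    rw [Subgroup.orderOf_mk] at hl
    have hdvd : p ^ k ∣ r ^ l := hk ▸ hl ▸ orderOf_map_dvd (QuotientGroup.mk' X) a'
    rcases k with _ | k
    · exact ha1' (orderOf_eq_one_iff.1 (hk.trans (pow_zero p)))
    · exact hpr ((Nat.prime_dvd_prime_iff_eq hp hr).1
        (hp.dvd_of_dvd_pow ((dvd_pow_self p k.succ_ne_zero).trans hdvd)))
  have hle : closure {x : K | x ^ r ≠ 1} ≤ H.subgroupOf K := (closure_le _).2 fun x hx =>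
    by_contra fun hxH => hx (Subtype.ext (hKH x x.2 fun e => hxH (mem_subgroupOf.2 e)))
  obtain ⟨b', hb'⟩ := QuotientGroup.mk'_surjective X b
  have hbK : b' ∈ K := mem_comap.2 (hb' ▸ mem_sup_right (mem_zpowers b))
  have hbH : b' ∉ H := fun e => by
    have h1 : b ∈ zpowers b ⊓ A := ⟨mem_zpowers b, hb' ▸ mem_comap.1 e⟩
    rw [hdisj, Subgroup.mem_bot] at h1
    rw [h1, orderOf_one] at hb
    exact hr.one_lt.ne hb
  have hHtop : H.subgroupOf K ≠ ⊤ := fun e =>
    hbH (mem_subgroupOf.1 (e ▸ mem_top (⟨b', hbK⟩ : K)))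
  have hne : closure {x : K | x ^ r ≠ 1} ≠ ⊤ := fun e => hHtop (eq_top_iff.2 (e ▸ hle))
  obtain ⟨hnil, hidx'⟩ := S4249.result r hr hnotr hne
  have heq : closure {x : K | x ^ r ≠ 1} = H.subgroupOf K := by
    refine le_antisymm hle ?_
    rw [← Subgroup.relIndex_eq_one]
    have h1 := Subgroup.relIndex_mul_index hle
    rw [hidx'] at h1
    refine ((Nat.dvd_prime hr).1 (Dvd.intro _ h1)).resolve_right fun e => ?_
    rw [e] at h1
    exact hHtop (Subgroup.index_eq_one.1
      (Nat.eq_of_mul_eq_mul_left hr.pos (h1.trans (mul_one r).symm)))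
  rw [heq] at hnil
  haveI := hnil
  haveI : Group.IsNilpotent H := Group.nilpotent_of_mulEquiv (Subgroup.subgroupOfEquivOfLe hHK)
  exact Group.nilpotent_of_mulEquiv (Subgroup.subgroupOfEquivOfLe hXH)

/-- The elements of exponent `p` in the centre of a component. -/
def layer (g : G) (p : ℕ) : Subgroup G where
  carrier := {x | x ∈ P.comp g ∧ (∀ y ∈ P.comp g, Commute x y) ∧ x ^ p = 1}
  one_mem' := ⟨one_mem _, fun y _ => Commute.one_left y, one_pow p⟩
  mul_mem' := fun {a b} ha hb => ⟨mul_mem ha.1 hb.1, fun y hy => (ha.2.1 y hy).mul_left (hb.2.1 y hy),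
    by rw [(ha.2.1 b hb.1).mul_pow, ha.2.2, hb.2.2, one_mul]⟩
  inv_mem' := fun {a} ha => ⟨inv_mem ha.1, fun y hy => (ha.2.1 y hy).inv_left,
    by rw [inv_pow, ha.2.2, inv_one]⟩

theorem mem_layer {g x : G} {p : ℕ} :
    x ∈ P.layer g p ↔ x ∈ P.comp g ∧ (∀ y ∈ P.comp g, Commute x y) ∧ x ^ p = 1 := Iff.rfl

theorem layer_ne_bot {g : G} [Group.IsNilpotent (P.comp g)] {p : ℕ} [Fact p.Prime]
    (hp : p ∣ Nat.card (P.comp g)) : P.layer g p ≠ ⊥ := by
  obtain ⟨S⟩ := (inferInstance : Nonempty (Sylow p (P.comp g)))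
  haveI : (S : Subgroup (P.comp g)).Normal :=
    (Group.isNilpotent_of_finite_tfae.out 0 3 rfl rfl).1 inferInstance p (Fact.mk Fact.out) S
  obtain ⟨⟨z, hzS, hzc⟩, hz1⟩ := Subgroup.ne_bot_iff_exists_ne_one.1
    (Solvable.inf_center_ne_bot (N := (S : Subgroup (P.comp g))) (S.ne_bot_of_dvd_card hp))
  obtain ⟨k, hk⟩ := IsPGroup.iff_orderOf.1 S.2 ⟨z, hzS⟩
  rw [Subgroup.orderOf_mk] at hk
  rcases k with _ | k
  · exact absurd (Subtype.ext (orderOf_eq_one_iff.1 (hk.trans (pow_zero p)))) hz1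
  intro e
  have hmem : ((z ^ p ^ k : P.comp g) : G) ∈ P.layer g p := by
    refine P.mem_layer.2 ⟨SetLike.coe_mem _, fun y hy => ?_, ?_⟩
    · exact (congrArg Subtype.val (Subgroup.mem_center_iff.1 (pow_mem hzc (p ^ k)) ⟨y, hy⟩)).symm
    · rw [← SubmonoidClass.coe_pow, ← pow_mul, ← pow_succ, ← hk, pow_orderOf_eq_one]; rfl
  rw [e, Subgroup.mem_bot] at hmem
  have h1 : orderOf z ∣ p ^ k := orderOf_dvd_of_pow_eq_one (Subtype.ext hmem)
  rw [hk] at h1
  exact absurd ((Nat.pow_dvd_pow_iff_le_right (Fact.out : p.Prime).one_lt).1 h1) (by omega)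

/-- A normal component: a Frobenius group or a proper Hughes subgroup. -/
theorem small_of_normal {g : G} (hg : g ≠ 1) [hn : (P.comp g).Normal] : Small G := by
  classical
  haveI := P.isNilpotent_of_normal hg
  set X := P.comp g with hX
  have hkn : ∀ h : G, h ∈ normalizer (X : Set G) := fun h => by
    rw [Subgroup.normalizer_eq_top]; exact mem_top h
  have hmem : ∀ {h : G} {n : ℕ}, h ∉ X → h ^ n ≠ 1 → h ^ n ∉ X := fun {h} {n} hh hn hX' => hh (by
    have h1 := P.eq_of_mem hg hX' hn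
    rw [P.comp_pow hn] at h1
    have h2 := P.mem h
    rwa [h1] at h2)
  haveI hLn : ∀ p, (P.layer g p).Normal := fun p => ⟨fun x hx a => by
    refine P.mem_layer.2 ⟨hn.conj_mem x hx.1 a, fun y hy => ?_, ?_⟩
    · have h1 := (hx.2.1 (a⁻¹ * y * a) (by simpa using hn.conj_mem y hy a⁻¹)).map
        (MulAut.conj a).toMonoidHom
      change Commute (a * x * a⁻¹) (a * (a⁻¹ * y * a) * a⁻¹) at h1
      rwa [show a * (a⁻¹ * y * a) * a⁻¹ = y by group] at h1
    · rw [conj_pow, hx.2.2, mul_one, mul_inv_cancel]⟩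
  -- (i) orders divisible by a prime of `X`
  have hI : ∀ (p : ℕ) [Fact p.Prime], p ∣ Nat.card X → ∀ h, h ∉ X → p ∣ orderOf h →
      orderOf h = p := by
    intro p _ hpX h hh hpd
    set h' := h ^ (orderOf h / p) with hh'
    have ho : orderOf h' = p := orderOf_pow_orderOf_div (orderOf_pos h).ne' hpd
    have hne : h' ≠ 1 := fun e => by
      rw [e, orderOf_one] at ho; exact (Fact.out : p.Prime).one_lt.ne ho
    have hV : IsPGroup p (P.layer g p) := fun x => ⟨1, Subtype.ext (by
      rw [SubmonoidClass.coe_pow, pow_one, OneMemClass.coe_one]; exact x.2.2.2)⟩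
    have hW : IsPGroup p (P.layer g p ⊔ zpowers h' : Subgroup G) :=
      hV.to_sup_of_normal_left (IsPGroup.of_card (n := 1) (by rw [Nat.card_zpowers, ho, pow_one]))
    haveI := hW.isNilpotent
    haveI : ((P.layer g p).subgroupOf (P.layer g p ⊔ zpowers h')).Normal := (hLn p).subgroupOf _
    obtain ⟨⟨⟨u, huW⟩, huV, huc⟩, hu1⟩ := Subgroup.ne_bot_iff_exists_ne_one.1
      (Solvable.inf_center_ne_bot (N := (P.layer g p).subgroupOf (P.layer g p ⊔ zpowers h'))
        (fun e => P.layer_ne_bot hpX (by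
          rw [Subgroup.subgroupOf_eq_bot, disjoint_iff, inf_eq_left.2 le_sup_left] at e
          exact e)))
    have hc : Commute h' u := congrArg Subtype.val
      (Subgroup.mem_center_iff.1 huc ⟨h', mem_sup_right (mem_zpowers h')⟩)
    obtain ⟨-, -, h3⟩ := P.orderOf_of_fixes hg (hmem hh hne) (mem_subgroupOf.1 huV).1
      (fun e => hu1 (Subtype.ext (Subtype.ext e))) hc
      (k := h) (by rw [P.comp_pow hne]; exact P.mem h) (fun e => hh (e ▸ one_mem X)) (hkn h)
    rw [h3, ho]
  -- (ii) fixed points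
  have hII : ∀ h, h ∉ X → ∀ u ∈ X, u ≠ 1 → Commute h u →
      ∃ p : ℕ, p.Prime ∧ orderOf h = p ∧ p ∣ Nat.card X ∧ orderOf u = p := by
    intro h hh u hu hu1 hc
    obtain ⟨h1, h2, -⟩ := P.orderOf_of_fixes hg hh hu hu1 hc (P.mem h)
      (fun e => hh (e ▸ one_mem X)) (hkn h)
    exact ⟨_, h2, rfl, h1 ▸ X.orderOf_dvd_natCard hu, h1.symm⟩
  -- centralisers of elements of order `p` in the quotient
  have hcQ : ∀ (p : ℕ) [Fact p.Prime], p ∣ Nat.card X → ∀ x y : G ⧸ X, orderOf x = p →
      (orderOf y).Prime → orderOf y ≠ p → ¬ Commute x y := by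
    intro p hp hpX x y hx hy hne hc
    obtain ⟨w, hw⟩ := QuotientGroup.mk'_surjective X (x * y)
    have ho : orderOf (x * y) = p * orderOf y := by
      rw [hc.orderOf_mul_eq_mul_orderOf_of_coprime, hx]
      rw [hx]; exact (Nat.coprime_primes hp.out hy).2 hne.symm
    have hdiv : p * orderOf y ∣ orderOf w := ho ▸ hw ▸ orderOf_map_dvd _ w
    have hwX : w ∉ X := fun e => by
      rw [← hw, QuotientGroup.mk'_apply, (QuotientGroup.eq_one_iff w).2 e, orderOf_one] at ho
      have := Nat.eq_one_of_mul_eq_one_right ho.symm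
      exact hp.out.ne_one this
    have h1 := hI p hpX w hwX ((Dvd.intro _ rfl).trans hdiv)
    rw [h1] at hdiv
    exact hne ((Nat.prime_dvd_prime_iff_eq hy hp.out).1 ((Dvd.intro_left _ rfl).trans hdiv))
  -- the Sylow subgroups of the quotient for primes of `X`
  have hsyl : ∀ (p : ℕ) [Fact p.Prime], p ∣ Nat.card X →
      ∃ S : Sylow p (G ⧸ X), (S : Subgroup (G ⧸ X)).Normal := by
    intro p hp hpX
    by_contra hns
    push Not at hns
    set V := P.layer g p with hV
    haveI : IsMulCommutative V :=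
      ⟨⟨fun a b => Subtype.ext (a.2.2.1 (b : G) b.2.1).eq⟩⟩
    let ψ : G ⧸ X →* MulAut V := QuotientGroup.lift X MulAut.conjNormal fun x hx => by
      rw [MonoidHom.mem_ker]
      ext v
      rw [MulAut.conjNormal_apply, MulAut.one_apply, ← (v.2.2.1 x hx).eq, mul_inv_cancel_right]
    have hψ : ∀ (a : G) (v : V), ((ψ (QuotientGroup.mk' X a) v : V) : G) = a * v * a⁻¹ :=
      fun a v => by show ((MulAut.conjNormal a v : V) : G) = _; rw [MulAut.conjNormal_apply]
    have hfix : ∀ (y : G ⧸ X) (v : V), y ≠ 1 → v ≠ 1 → ψ y v = v → orderOf y = p := by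
      intro y v hy hv he
      obtain ⟨w, rfl⟩ := QuotientGroup.mk'_surjective X y
      have hwX : w ∉ X := fun e => hy ((QuotientGroup.eq_one_iff w).2 e)
      have h1 : w * (v : G) * w⁻¹ = v := by rw [← hψ w v, he]
      rw [mul_inv_eq_iff_eq_mul] at h1
      obtain ⟨q, hq, hwq, -, hvq⟩ := hII w hwX v v.2.1 (fun e => hv (Subtype.ext e)) h1
      have hqp : q = p := (Nat.prime_dvd_prime_iff_eq hq hp.out).1
        (hvq ▸ orderOf_dvd_of_pow_eq_one v.2.2.2)
      refine ((Nat.dvd_prime hp.out).1 ?_).resolve_left fun e => hy (orderOf_eq_one_iff.1 e)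
      exact hqp ▸ hwq ▸ orderOf_map_dvd _ w
    have hVne : Nontrivial V := (Subgroup.nontrivial_iff_ne_bot _).2 (P.layer_ne_bot hpX)
    have hker : IsPGroup p ψ.ker := fun y => by
      refine ⟨1, ?_⟩
      by_cases hy : (y : G ⧸ X) = 1
      · exact Subtype.ext (by simp [hy])
      obtain ⟨v, hv⟩ := exists_ne (1 : V)
      have := hfix y v hy hv (by rw [MonoidHom.mem_ker.1 y.2, MulAut.one_apply])
      exact Subtype.ext (by
        rw [SubmonoidClass.coe_pow, pow_one, OneMemClass.coe_one, ← this, pow_orderOf_eq_one])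
    obtain ⟨y, R, hy, hR, hRp, hyR⟩ := exists_acting ψ hker
      (fun hp2 z hz v hzv => by_contra fun hv => hp2 (by
        have := hfix z v (fun e => by rw [e, orderOf_one] at hz; omega) hv hzv
        omega))
      (hcQ p hpX) hns
    obtain ⟨w, rfl⟩ := QuotientGroup.mk'_surjective X y
    have hp1 : (QuotientGroup.mk' X w) ^ p = 1 := hy ▸ pow_orderOf_eq_one _
    obtain ⟨v, hv⟩ := exists_ne (1 : V)
    refine hv (subsingleton_of_norm ψ (p := p) (fun v => Subtype.ext v.2.2.2) R _ hyR hp1 hR hRp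
      (fun r hr hc => ?_) (fun r hr hr1 a ha => by_contra fun ha1 => hRp ?_) (fun a => ?_) v)
    · by_contra hr1
      obtain ⟨q, hq, hqd⟩ := Nat.exists_prime_and_dvd (n := orderOf r)
        fun e => hr1 (orderOf_eq_one_iff.1 e)
      haveI := Fact.mk hq
      have ho := orderOf_pow_orderOf_div (orderOf_pos r).ne' hqd
      refine hcQ p hpX _ (r ^ (orderOf r / q)) hy (ho.symm ▸ hq)
        (fun e => hRp ?_) (hc.pow_right _)
      rw [← e, ho]
      exact hqd.trans (R.orderOf_dvd_natCard hr)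
    · rw [← hfix r a hr1 ha1 ha]
      exact R.orderOf_dvd_natCard hr
    · have hwX : ((a : G) * w) ∉ X := fun e => by
        have h1 : w ∈ X := by
          have := X.mul_mem (X.inv_mem a.2.1) e
          rwa [inv_mul_cancel_left] at this
        rw [QuotientGroup.mk'_apply, (QuotientGroup.eq_one_iff w).2 h1, orderOf_one] at hy
        exact hp.out.one_lt.ne hy
      have h2 : orderOf ((a : G) * w) = p := by
        refine hI p hpX _ hwX ?_
        have h3 : QuotientGroup.mk' X ((a : G) * w) = QuotientGroup.mk' X w := by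
          rw [map_mul, QuotientGroup.mk'_apply, QuotientGroup.mk'_apply,
            (QuotientGroup.eq_one_iff _).2 a.2.1, one_mul]
        exact hy ▸ h3 ▸ orderOf_map_dvd _ _
      have h4 : w ∉ X := fun e => hwX (X.mul_mem a.2.1 e)
      have h5 : w ^ p = 1 := by
        have := hI p hpX w h4 (hy ▸ orderOf_map_dvd _ w)
        rw [← this, pow_orderOf_eq_one]
      have h6 := mul_pow_eq_prod V w a p
      have h2' : ((a : G) * w) ^ p = 1 := by rw [← h2]; exact pow_orderOf_eq_one _
      rw [h2', h5, mul_one] at h6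
      refine Subtype.ext (Eq.trans ?_ h6.symm)
      congr 1
  have hidx : ∀ p : ℕ, p.Prime → p ∣ X.index → ∀ (_ : p ∣ Nat.card X),
      ∃ h, h ∉ X ∧ p ∣ orderOf h := by
    intro p hp hpi _
    haveI := Fact.mk hp
    rw [Subgroup.index_eq_card] at hpi
    obtain ⟨y, hy⟩ := exists_prime_orderOf_dvd_card' p hpi
    obtain ⟨w, rfl⟩ := QuotientGroup.mk'_surjective X y
    refine ⟨w, fun e => ?_, hy ▸ orderOf_map_dvd _ w⟩
    rw [QuotientGroup.mk'_apply, (QuotientGroup.eq_one_iff w).2 e, orderOf_one] at hy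
    exact hp.one_lt.ne hy
  by_cases hπ : ∃ p : ℕ, p.Prime ∧ p ∣ X.index ∧ p ∣ Nat.card X
  swap
  · refine small_of_coprime X (P.comp_ne_bot hg) (P.ne_top hg)
      (Nat.coprime_of_dvd fun p hp h1 h2 => hπ ⟨p, hp, h2, h1⟩) fun h hh u hu hc => ?_
    by_contra hu1
    obtain ⟨p, hp, hhp, hpX, -⟩ := hII h hh u hu hu1 hc
    refine hπ ⟨p, hp, ?_, hpX⟩
    have h1 : orderOf (QuotientGroup.mk' X h) = p := by
      refine ((Nat.dvd_prime hp).1 (hhp ▸ orderOf_map_dvd _ h)).resolve_left fun e => hh ?_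
      rwa [orderOf_eq_one_iff, QuotientGroup.mk'_apply, QuotientGroup.eq_one_iff] at e
    rw [Subgroup.index_eq_card, ← h1]
    exact orderOf_dvd_natCard _
  obtain ⟨p, hp, hpi, hpX⟩ := hπ
  haveI := Fact.mk hp
  obtain ⟨S, hS⟩ := hsyl p hpX
  -- the only such prime
  have honly : ∀ r : ℕ, r.Prime → r ∣ X.index → r ∣ Nat.card X → r = p := by
    intro r hr hri hrX
    by_contra hrp
    haveI := Fact.mk hr
    obtain ⟨S', hS'⟩ := hsyl r hrX
    rw [Subgroup.index_eq_card] at hri hpi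
    obtain ⟨⟨x, hx⟩, hxo⟩ := exists_prime_orderOf_dvd_card' p (S.dvd_card_of_dvd_card hpi)
    obtain ⟨⟨y, hy⟩, hyo⟩ := exists_prime_orderOf_dvd_card' r (S'.dvd_card_of_dvd_card hri)
    rw [Subgroup.orderOf_mk] at hxo hyo
    refine hcQ p hpX x y hxo (hyo.symm ▸ hr) (hyo.symm ▸ hrp) ?_
    exact Subgroup.commute_of_normal_of_disjoint _ _ hS hS'
      (IsPGroup.disjoint_of_ne p r (fun e => hrp e.symm) _ _ S.2 S'.2) x y hx hy
  by_cases hS1 : (S : Subgroup (G ⧸ X)) = ⊤
  · refine Or.inr (Or.inl ⟨p, hp, fun e => P.ne_top hg (eq_top_iff.2 (e ▸ (closure_le _).2 ?_))⟩)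
    intro h hh
    by_contra hhX
    refine hh ?_
    obtain ⟨k, hk⟩ := IsPGroup.iff_orderOf.1 S.2 ⟨QuotientGroup.mk' X h, hS1 ▸ mem_top _⟩
    rw [Subgroup.orderOf_mk] at hk
    rcases k with _ | k
    · exfalso
      refine hhX ?_
      rw [pow_zero, orderOf_eq_one_iff, QuotientGroup.mk'_apply, QuotientGroup.eq_one_iff] at hk
      exact hk
    · rw [← hI p hpX h hhX ((hk ▸ dvd_pow_self p k.succ_ne_zero).trans (orderOf_map_dvd _ h)),
        pow_orderOf_eq_one]
  set K := (S : Subgroup (G ⧸ X)).comap (QuotientGroup.mk' X) with hK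
  have hXK : X ≤ K := fun x hx => by
    rw [hK, mem_comap, QuotientGroup.mk'_apply, (QuotientGroup.eq_one_iff x).2 hx]
    exact one_mem _
  have hKi : K.index = (S : Subgroup (G ⧸ X)).index :=
    Subgroup.index_comap_of_surjective _ (QuotientGroup.mk'_surjective X)
  have hKc : Nat.card K = Nat.card X * Nat.card (S : Subgroup (G ⧸ X)) := card_comap_mk' X _
  refine small_of_coprime K (fun e => P.comp_ne_bot hg (eq_bot_iff.2 (e ▸ hXK)))
    (fun e => hS1 (eq_top_iff.2 fun y _ => ?_))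
    (Nat.coprime_of_dvd fun r hr h1 h2 => ?_) fun h hh k hk hc => ?_
  · obtain ⟨w, rfl⟩ := QuotientGroup.mk'_surjective X y
    exact mem_comap.1 (e ▸ mem_top w : w ∈ K)
  · rw [hKi] at h2
    rw [hKc] at h1
    have hrp : r = p := by
      rcases hr.dvd_mul.1 h1 with h1 | h1
      · refine honly r hr ?_ h1
        rw [Subgroup.index_eq_card, ← (S : Subgroup (G ⧸ X)).card_mul_index]
        exact Dvd.dvd.mul_left h2 _
      · obtain ⟨n, hn⟩ := IsPGroup.iff_card.1 S.2
        exact (Nat.prime_dvd_prime_iff_eq hr hp).1 (hr.dvd_of_dvd_pow (hn ▸ h1))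
    exact S.not_dvd_index (hrp ▸ h2)
  · by_contra hk1
    have hhX : h ∉ X := fun e => hh (hXK e)
    have hnS : QuotientGroup.mk' X h ∉ (S : Subgroup (G ⧸ X)) := hh
    have hpS : ∀ y : G ⧸ X, orderOf y = p → y ∈ (S : Subgroup (G ⧸ X)) := by
      intro y hy
      obtain ⟨T, hT⟩ := (IsPGroup.of_card (G := zpowers y) (p := p) (n := 1)
        (by rw [Nat.card_zpowers, hy, pow_one])).exists_le_sylow
      haveI := hS
      letI := Sylow.unique_of_normal S hS
      rw [Subsingleton.elim S T]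
      exact hT (mem_zpowers y)
    by_cases hkX : k ∈ X
    · obtain ⟨q, hq, hhq, hqX, -⟩ := hII h hhX k hkX hk1 hc
      have h1 : orderOf (QuotientGroup.mk' X h) = q := by
        refine ((Nat.dvd_prime hq).1 (hhq ▸ orderOf_map_dvd _ h)).resolve_left fun e => hhX ?_
        rwa [orderOf_eq_one_iff, QuotientGroup.mk'_apply, QuotientGroup.eq_one_iff] at e
      have hqp : q = p := honly q hq (by
        rw [Subgroup.index_eq_card, ← h1]; exact orderOf_dvd_natCard _) hqX
      exact hnS (hpS _ (h1.trans hqp))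
    · -- commuting images of coprime orders
      set x := QuotientGroup.mk' X k
      set y := QuotientGroup.mk' X h
      have hx : orderOf x = p := by
        obtain ⟨n, hn⟩ := IsPGroup.iff_orderOf.1 S.2 ⟨x, hk⟩
        rw [← Subgroup.orderOf_coe] at hn
        change orderOf x = p ^ n at hn
        rcases n with _ | n
        · exfalso
          refine hkX ?_
          rw [pow_zero, orderOf_eq_one_iff] at hn
          exact (QuotientGroup.eq_one_iff k).1 hn
        · have h1 := hI p hpX k hkX ((hn ▸ dvd_pow_self p n.succ_ne_zero).trans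
            (orderOf_map_dvd _ k))
          exact ((Nat.dvd_prime hp).1 (h1 ▸ orderOf_map_dvd _ k)).resolve_left fun e =>
            hkX ((QuotientGroup.eq_one_iff k).1 (orderOf_eq_one_iff.1 e))
      have hyne : y ≠ 1 := fun e => hhX ((QuotientGroup.eq_one_iff h).1 e)
      have hpy : ¬ p ∣ orderOf y := fun hd => hnS (hpS _ (by
        have h1 := hI p hpX h hhX (hd.trans (orderOf_map_dvd _ h))
        exact ((Nat.dvd_prime hp).1 (h1 ▸ orderOf_map_dvd _ h)).resolve_left fun e =>
          hyne (orderOf_eq_one_iff.1 e)))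
      obtain ⟨q, hq, hqd⟩ := Nat.exists_prime_and_dvd (n := orderOf y)
        fun e => hyne (orderOf_eq_one_iff.1 e)
      haveI := Fact.mk hq
      have ho := orderOf_pow_orderOf_div (orderOf_pos y).ne' hqd
      refine hcQ p hpX x (y ^ (orderOf y / q)) hx (ho.symm ▸ hq) (fun e => hpy ?_) ?_
      · rw [ho] at e; exact e ▸ hqd
      · exact ((hc.map (QuotientGroup.mk' X)).symm).pow_right _

end Part

end Cfsg.Agent.GroupPartition
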