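import Cfsg.Agent.Lib.GroupPartition.Local
import Cfsg.Agent.Lib.CharInt.FrobeniusKernel
import Cfsg.Agent.S0205

/-!
# The socle of a group with a partition

A group with a partition without small configuration has a simple normal subgroup with trivial
centraliser, and this subgroup has a partition without small configuration too.
-/

set_option autoImplicit false
set_option linter.style.haveILetI false

namespace Cfsg.Agent.GroupPartition

open Subgroup

variable {G : Type*} [Group G] [Finite G]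

theorem exists_minimal_subgroup {p : Subgroup G → Prop} (h : ∃ N, p N) :
    ∃ N, p N ∧ ∀ M : Subgroup G, p M → M ≤ N → M = N := by
  classical
  have h' : ∃ n, ∃ N : Subgroup G, p N ∧ Nat.card N = n := by
    obtain ⟨N, hN⟩ := h
    exact ⟨_, N, hN, rfl⟩
  obtain ⟨N, hN, hc⟩ := Nat.find_spec h'
  exact ⟨N, hN, fun M hM hMN =>
    eq_of_le_of_card_ge hMN (hc ▸ Nat.find_min' h' ⟨M, hM, rfl⟩)⟩

/-- A nontrivial nilpotent subgroup has a nontrivial abelian subgroup normalised by its
normaliser. -/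
theorem exists_abelian_of_nilpotent {R : Subgroup G} (hR : R ≠ ⊥) (hn : Group.IsNilpotent R) :
    ∃ A ≤ R, A ≠ ⊥ ∧ IsMulCommutative A ∧ normalizer (R : Set G) ≤ normalizer (A : Set G) := by
  haveI : Nontrivial R := (nontrivial_iff_ne_bot R).2 hR
  refine ⟨(center R).map R.subtype, map_subtype_le _, fun e => ?_, ?_, fun a ha => ?_⟩
  · obtain ⟨⟨x, hx⟩, hx1⟩ := Subgroup.ne_bot_iff_exists_ne_one.1
      (Solvable.inf_center_ne_bot (G := R) (N := ⊤) top_ne_bot)
    rw [top_inf_eq] at hx
    exact hx1 (Subtype.ext (R.subtype_injective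
      ((mem_bot.1 (e ▸ (⟨x, hx, rfl⟩ : R.subtype x ∈ (center R).map R.subtype))).trans
        (map_one _).symm)))
  · refine ⟨⟨fun x y => Subtype.ext ?_⟩⟩
    obtain ⟨-, a, ha, rfl⟩ := x
    obtain ⟨-, b, -, rfl⟩ := y
    exact (congrArg Subtype.val (mem_center_iff.1 ha b).symm : (a : G) * b = b * a)
  · have key : ∀ b ∈ normalizer (R : Set G), ∀ x ∈ (center R).map R.subtype,
        b * x * b⁻¹ ∈ (center R).map R.subtype := by
      rintro b hb _ ⟨z, hz, rfl⟩
      refine ⟨⟨b * z * b⁻¹, (mem_normalizer_iff.1 hb _).1 z.2⟩, mem_center_iff.2 fun y => ?_, rfl⟩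
      have hy : b⁻¹ * y * b ∈ R := (mem_normalizer_iff.1 hb _).2 (by
        rw [show b * (b⁻¹ * y * b) * b⁻¹ = y by group]; exact y.2)
      have h1 : b⁻¹ * y * b * z = z * (b⁻¹ * y * b) :=
        congrArg Subtype.val (mem_center_iff.1 hz ⟨_, hy⟩)
      refine Subtype.ext ?_
      show (y : G) * (b * z * b⁻¹) = b * z * b⁻¹ * y
      calc (y : G) * (b * z * b⁻¹) = b * (b⁻¹ * y * b * z) * b⁻¹ := by group
        _ = b * (z * (b⁻¹ * y * b)) * b⁻¹ := by rw [h1]
        _ = b * z * b⁻¹ * y := by group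
    refine mem_normalizer_iff.2 fun x => ⟨key a ha x, fun hx => ?_⟩
    have := key a⁻¹ (inv_mem ha) _ hx
    simpa [mul_assoc] using this

namespace Part

variable {P : Part G}

/-- A subgroup centralised by an involution contains a nilpotent subgroup normalised by its
normaliser. -/
theorem Hard.exists_nilpotent (hP : P.Hard) {B : Subgroup G} (hB : B ≠ ⊥) {n : G}
    (hn : orderOf n = 2) (hc : ∀ b ∈ B, Commute b n) :
    ∃ R ≤ B, R ≠ ⊥ ∧ Group.IsNilpotent R ∧ normalizer (B : Set G) ≤ normalizer (R : Set G) := by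
  haveI : Fact (Nat.Prime 2) := ⟨Nat.prime_two⟩
  set R := closure {b : G | b ∈ B ∧ Odd (orderOf b)} with hR
  have hRB : R ≤ B := (closure_le _).2 fun b hb => hb.1
  by_cases hR1 : R = ⊥
  · refine ⟨B, le_rfl, hB, IsPGroup.isNilpotent (p := 2) fun b => ?_, le_rfl⟩
    obtain ⟨k, m, hm, ho⟩ := Nat.exists_eq_two_pow_mul_odd (orderOf_pos (b : G)).ne'
    have h1 : (b : G) ^ 2 ^ k ∈ R := subset_closure ⟨pow_mem b.2 _, by
      rw [orderOf_pow_of_dvd (pow_ne_zero _ two_ne_zero) (ho ▸ Dvd.intro m rfl), ho,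
        Nat.mul_div_cancel_left _ (pow_pos two_pos k)]
      exact hm⟩
    rw [hR1, mem_bot] at h1
    exact ⟨k, Subtype.ext (by rw [SubmonoidClass.coe_pow, h1, OneMemClass.coe_one])⟩
  have hn1 : n ≠ 1 := fun e => by simp [e] at hn
  have hle : R ≤ P.comp n := (closure_le _).2 fun b hb =>
    P.mem_of_commute_ne_two hn (hc b hb.1) fun e => by
      have := hb.2
      rw [e] at this
      exact absurd this (by decide)
  haveI := hP.isNilpotent_comp hn1
  refine ⟨R, hRB, hR1, Group.nilpotent_of_mulEquiv (subgroupOfEquivOfLe hle), fun a ha => ?_⟩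
  refine mem_normalizer_iff_map_conj_eq.2 ?_
  rw [hR, MonoidHom.map_closure]
  congr 1
  ext x
  constructor
  · rintro ⟨b, ⟨hb, hbo⟩, rfl⟩
    exact ⟨(mem_normalizer_iff.1 ha b).1 hb, by
      show Odd (orderOf (MulAut.conj a b))
      rw [MulEquiv.orderOf_eq]; exact hbo⟩
  · rintro ⟨hx, hxo⟩
    refine ⟨a⁻¹ * x * a, ⟨(mem_normalizer_iff.1 ha _).2 (by
      rwa [show a * (a⁻¹ * x * a) * a⁻¹ = x by group]), ?_⟩, by simp [mul_assoc]⟩
    rw [← MulEquiv.orderOf_eq (MulAut.conj a), MulAut.conj_apply,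
      show a * (a⁻¹ * x * a) * a⁻¹ = x by group]
    exact hxo

omit [Finite G] in
theorem Hard.eq_bot_of_normal (hP : P.Hard) {A : Subgroup G} (hn : normalizer (A : Set G) = ⊤)
    (hA : IsMulCommutative A) : A = ⊥ :=
  hP.noAb A (Subgroup.normalizer_eq_top_iff.1 hn) hA

/-- A normal subgroup is not contained in a component. -/
theorem Hard.not_le_comp (hP : P.Hard) {N : Subgroup G} [N.Normal] (hN : N ≠ ⊥) {g : G}
    (hg : g ≠ 1) : ¬ N ≤ P.comp g := fun hle => by
  haveI := hP.isNilpotent_comp hg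
  obtain ⟨A, -, hA1, hAc, hAn⟩ :=
    exists_abelian_of_nilpotent hN (Group.nilpotent_of_mulEquiv (subgroupOfEquivOfLe hle))
  exact hA1 (hP.eq_bot_of_normal (eq_top_iff.2 (by rwa [Subgroup.normalizer_eq_top] at hAn)) hAc)

/-- The socle. -/
theorem Hard.exists_simple_normal (hP : P.Hard) [Nontrivial G] :
    ∃ L : Subgroup G, L.Normal ∧ IsSimpleGroup L ∧ ¬ IsMulCommutative L ∧
      centralizer (L : Set G) = ⊥ := by
  classical
  haveI : Fact (Nat.Prime 2) := ⟨Nat.prime_two⟩
  obtain ⟨N, ⟨hN1, hNn⟩, hNmin⟩ := exists_minimal_subgroup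
    (p := fun N : Subgroup G => N ≠ ⊥ ∧ N.Normal) ⟨⊤, top_ne_bot, inferInstance⟩
  haveI := hNn
  have hNc : ¬ IsMulCommutative N := fun h => hN1 (hP.noAb N hNn h)
  obtain ⟨n, hn, hn2⟩ : ∃ n ∈ N, orderOf n = 2 := by
    have h2 : 2 ∣ Nat.card N := by
      by_contra h2
      haveI := S0205.result (Nat.odd_iff.2 (Nat.two_dvd_ne_zero.1 h2) : Odd (Nat.card N))
      obtain ⟨A, p, hAn, -, hA1, -, hAc, -, -⟩ :=
        Solvable.exists_abelian_minimal_normal (K := N) inferInstance hN1
      exact hA1 (hP.noAb A hAn hAc)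
    obtain ⟨⟨n, hn⟩, hn2⟩ := exists_prime_orderOf_dvd_card' 2 h2
    exact ⟨n, hn, by rwa [Subgroup.orderOf_mk] at hn2⟩
  have hC : centralizer (N : Set G) = ⊥ := by
    by_contra hC
    obtain ⟨R, -, hR1, hRn, hRN⟩ := hP.exists_nilpotent hC hn2
      fun b hb => (mem_centralizer_iff.1 hb n hn).symm
    rw [Subgroup.normalizer_eq_top, top_le_iff, Subgroup.normalizer_eq_top_iff] at hRN
    haveI := hRN
    obtain ⟨A, -, hA1, hAc, hAn⟩ := exists_abelian_of_nilpotent hR1 hRn
    exact hA1 (hP.eq_bot_of_normal (eq_top_iff.2 (by rwa [Subgroup.normalizer_eq_top] at hAn)) hAc)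
  obtain ⟨S, ⟨hS1, hSN, hSn⟩, hSmin⟩ := exists_minimal_subgroup
    (p := fun S : Subgroup G => S ≠ ⊥ ∧ S ≤ N ∧ N ≤ normalizer (S : Set G))
    ⟨N, hN1, le_rfl, le_normalizer⟩
  have hSeq : S = N := by
    by_contra hne
    -- the conjugates of `S`
    let conjS : G → Subgroup G := fun g => S.map (MulAut.conj g).toMonoidHom
    have hmapN : ∀ (g : G) (K : Subgroup G), N ≤ normalizer (K : Set G) →
        N ≤ normalizer (K.map (MulAut.conj g).toMonoidHom : Set G) := fun g K hK a ha => by
      rw [← map_equiv_normalizer_eq]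
      exact ⟨g⁻¹ * a * g⁻¹⁻¹, hK (hNn.conj_mem a ha g⁻¹), by simp [mul_assoc]⟩
    have hconj : ∀ g, conjS g ≠ ⊥ ∧ conjS g ≤ N ∧ N ≤ normalizer (conjS g : Set G) ∧
        ∀ M : Subgroup G, (M ≠ ⊥ ∧ M ≤ N ∧ N ≤ normalizer (M : Set G)) → M ≤ conjS g →
          M = conjS g := by
      intro g
      have hcard : Nat.card (conjS g) = Nat.card S :=
        card_map_of_injective (MulAut.conj g).injective
      refine ⟨fun e => hS1 ((map_eq_bot_iff_of_injective S (MulAut.conj g).injective).1 e),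
        ?_, hmapN g S hSn, fun M hM hMle => ?_⟩
      · rintro _ ⟨x, hx, rfl⟩
        exact hNn.conj_mem x (hSN hx) g
      · have hcM : Nat.card (M.map (MulAut.conj g⁻¹).toMonoidHom) = Nat.card M :=
          card_map_of_injective (MulAut.conj g⁻¹).injective
        have h1 := hSmin (M.map (MulAut.conj g⁻¹).toMonoidHom) ⟨fun e => hM.1
          ((map_eq_bot_iff_of_injective M (MulAut.conj g⁻¹).injective).1 e), ?_,
          hmapN g⁻¹ M hM.2.2⟩ ?_
        · exact eq_of_le_of_card_ge hMle (by rw [hcard, ← hcM, h1])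
        · rintro _ ⟨x, hx, rfl⟩
          exact hNn.conj_mem x (hM.2.1 hx) g⁻¹
        · rintro _ ⟨x, hx, rfl⟩
          obtain ⟨y, hy, rfl⟩ := hMle hx
          simpa [mul_assoc] using hy
    have hone : conjS 1 = S := by simp [conjS]; exact Subgroup.map_id S
    -- distinct conjugates commute
    have hcomm : ∀ g h, conjS g ≠ conjS h → ∀ x ∈ conjS g, ∀ y ∈ conjS h, Commute x y := by
      intro g h hgh x hx y hy
      have hinf : conjS g ⊓ conjS h = ⊥ := by
        by_contra hi
        have hp : conjS g ⊓ conjS h ≠ ⊥ ∧ conjS g ⊓ conjS h ≤ N ∧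
            N ≤ normalizer ((conjS g ⊓ conjS h : Subgroup G) : Set G) :=
          ⟨hi, inf_le_left.trans (hconj g).2.1, fun a ha => mem_normalizer_iff.2 fun z => by
            rw [mem_inf, mem_inf, mem_normalizer_iff.1 ((hconj g).2.2.1 ha) z,
              mem_normalizer_iff.1 ((hconj h).2.2.1 ha) z]⟩
        exact hgh (((hconj g).2.2.2 _ hp inf_le_left).symm.trans
          ((hconj h).2.2.2 _ hp inf_le_right))
      have h1 : x * y * x⁻¹ * y⁻¹ ∈ conjS g ⊓ conjS h := by
        refine ⟨?_, (conjS h).mul_mem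
          ((mem_normalizer_iff.1 ((hconj h).2.2.1 ((hconj g).2.1 hx)) y).1 hy)
          ((conjS h).inv_mem hy)⟩
        rw [show x * y * x⁻¹ * y⁻¹ = x * (y * x⁻¹ * y⁻¹) by group]
        exact (conjS g).mul_mem hx ((mem_normalizer_iff.1 ((hconj g).2.2.1 ((hconj h).2.1 hy)) _).1
          ((conjS g).inv_mem hx))
      rw [hinf, mem_bot, mul_inv_eq_one, mul_inv_eq_iff_eq_mul] at h1
      exact h1
    obtain ⟨g, hg⟩ : ∃ g, conjS g ≠ S := by
      by_contra hall
      push Not at hall
      exact hne (hNmin S ⟨hS1, ⟨fun x hx g => hall g ▸ ⟨x, hx, rfl⟩⟩⟩ hSN)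
    have hSab : ¬ IsMulCommutative S := by
      intro hSc
      refine hNc ?_
      set U := closure (Group.conjugatesOfSet (S : Set G)) with hU
      have hUN : N = U := by
        refine (hNmin U ⟨fun e => hS1 (eq_bot_iff.2 (subset_normalClosure.trans_eq
          (congrArg SetLike.coe e))), normalClosure_normal⟩
          (normalClosure_le_normal (fun x hx => hSN hx))).symm
      rw [hUN]
      refine Subgroup.isMulCommutative_closure fun x hx y hy => ?_
      obtain ⟨a, ha, hax⟩ := Group.mem_conjugatesOfSet_iff.1 hx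
      obtain ⟨b, hb, hby⟩ := Group.mem_conjugatesOfSet_iff.1 hy
      obtain ⟨c, hc⟩ := isConj_iff.1 hax
      obtain ⟨d, hd⟩ := isConj_iff.1 hby
      have hx' : x ∈ conjS c := ⟨a, ha, hc⟩
      have hy' : y ∈ conjS d := ⟨b, hb, hd⟩
      by_cases hcd : conjS c = conjS d
      · rw [← hcd] at hy'
        obtain ⟨b', hb', hby'⟩ := hy'
        have h1 : a * b' = b' * a := congrArg Subtype.val (hSc.is_comm.comm ⟨a, ha⟩ ⟨b', hb'⟩)
        rw [← hc, ← hby']
        simp only [MulEquiv.coe_toMonoidHom, MulAut.conj_apply]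
        rw [show c * a * c⁻¹ * (c * b' * c⁻¹) = c * (a * b') * c⁻¹ by group, h1]
        group
      · exact hcomm c d hcd x hx' y hy'
    have hsolv : ∀ c, Group.IsSolvable (conjS c) → False := by
      intro c hsol
      haveI : Group.IsSolvable S :=
        Group.isSolvable_of_isSolvable_injective (f := ((MulAut.conj c).toMonoidHom.comp S.subtype).codRestrict (conjS c)
          fun x => ⟨x, x.2, rfl⟩) fun x y e => Subtype.ext ((MulAut.conj c).injective
            (congrArg Subtype.val e))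
      haveI : Nontrivial S := (nontrivial_iff_ne_bot S).2 hS1
      have hlt : ⁅S, S⁆ < S := by
        rw [← S.range_subtype, MonoidHom.range_eq_map, ← Subgroup.map_commutator,
          map_subtype_lt_map_subtype]
        exact Group.IsSolvable.commutator_lt_top_of_nontrivial S
      refine hSab ?_
      by_contra hab
      refine hlt.ne (hSmin _ ⟨fun e => hab ?_, ?_, fun a ha => ?_⟩ ?_)
      · refine ⟨⟨fun x y => Subtype.ext ?_⟩⟩
        have := commutator_mem_commutator x.2 y.2
        rw [e, mem_bot, commutatorElement_eq_one_iff_mul_comm] at this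
        exact this
      · exact (commutator_le.2 fun x hx y hy => mul_mem (mul_mem (mul_mem hx hy) (inv_mem hx))
          (inv_mem hy) : ⁅S, S⁆ ≤ S).trans hSN
      · rw [mem_normalizer_iff_map_conj_eq, Subgroup.map_commutator,
          mem_normalizer_iff_map_conj_eq.1 (hSn ha)]
      · exact commutator_le.2 fun x hx y hy => mul_mem (mul_mem (mul_mem hx hy) (inv_mem hx))
          (inv_mem hy)
    obtain ⟨⟨s, hs⟩, hs2⟩ : ∃ s : S, orderOf s = 2 := by
      refine exists_prime_orderOf_dvd_card' 2 ?_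
      by_contra h2
      haveI := S0205.result (Nat.odd_iff.2 (Nat.two_dvd_ne_zero.1 h2) : Odd (Nat.card S))
      exact hsolv 1 (hone.symm ▸ inferInstance)
    rw [Subgroup.orderOf_mk] at hs2
    obtain ⟨R, hRle, hR1, hRn, hRN⟩ := hP.exists_nilpotent (hconj g).1 hs2
      fun b hb => hcomm g 1 (hone.symm ▸ hg) b hb s (hone.symm ▸ hs)
    have hReq : R = conjS g := (hconj g).2.2.2 R
      ⟨hR1, hRle.trans (hconj g).2.1, (hconj g).2.2.1.trans hRN⟩ hRle
    haveI := hRn
    exact hsolv g (hReq ▸ inferInstance)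
  subst hSeq
  refine ⟨S, hNn, ?_, hNc, hC⟩
  haveI : Nontrivial S := (nontrivial_iff_ne_bot S).2 hN1
  refine ⟨fun H hH => or_iff_not_imp_left.2 fun hH1 => map_injective S.subtype_injective ?_⟩
  rw [← MonoidHom.range_eq_map, range_subtype]
  refine hSmin _ ⟨fun e => hH1 ((map_eq_bot_iff_of_injective H S.subtype_injective).1 e),
    map_subtype_le _, fun a ha => ?_⟩ (map_subtype_le _)
  exact (Subgroup.normal_subgroupOf_iff_le_normalizer (map_subtype_le H)).1
    (by rw [Subgroup.subgroupOf, Subgroup.comap_map_eq_self_of_injective S.subtype_injective]; exact hH) ha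

/-- The socle inherits the hypotheses. -/
theorem Hard.restrict_simple (hP : P.Hard) {L : Subgroup G} [L.Normal] [IsSimpleGroup L]
    (hL : ¬ IsMulCommutative L) : ∃ P' : Part L, P'.Hard := by
  haveI : Nontrivial L := IsSimpleGroup.toNontrivial
  have hL1 : L ≠ ⊥ := (nontrivial_iff_ne_bot L).1 inferInstance
  refine ⟨P.restrict L fun g hg => hP.not_le_comp hL1 hg, hard_of_not_small _ ?_⟩
  rintro (⟨⟨e⟩⟩ | ⟨p, hp, hne⟩ | ⟨H, hH⟩)
  · haveI : IsSimpleGroup (Equiv.Perm (Fin 4)) := e.symm.isSimpleGroup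
    rcases (inferInstance : (alternatingGroup (Fin 4)).Normal).eq_bot_or_eq_top with h | h
    · have := Subgroup.card_bot (G := Equiv.Perm (Fin 4))
      rw [← h, nat_card_alternatingGroup, Nat.card_fin] at this
      norm_num [Nat.factorial] at this
    · have h1 : Equiv.swap (0 : Fin 4) 1 ∈ alternatingGroup (Fin 4) := h ▸ mem_top _
      rw [Equiv.Perm.mem_alternatingGroup, Equiv.Perm.sign_swap (by decide)] at h1
      exact absurd h1 (by decide)
  · haveI : (closure {g : L | g ^ p ≠ 1}).Normal := ⟨fun x hx a => by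
      have h1 : (closure {g : L | g ^ p ≠ 1}).map (MulAut.conj a).toMonoidHom ≤
          closure {g : L | g ^ p ≠ 1} := by
        rw [MonoidHom.map_closure]
        refine closure_mono ?_
        rintro _ ⟨y, hy, rfl⟩
        exact fun e => hy (conj_eq_one_iff.1 (by rw [← conj_pow]; exact e : a * y ^ p * a⁻¹ = 1))
      exact h1 ⟨x, hx, rfl⟩⟩
    have h0 := ((inferInstance : (closure {g : L | g ^ p ≠ 1}).Normal).eq_bot_or_eq_top).resolve_right hne
    haveI := Fact.mk hp
    haveI : Group.IsNilpotent L := IsPGroup.isNilpotent (p := p) fun g => ⟨1, by_contra fun hg =>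
      have hgb : g ∈ closure {g : L | g ^ p ≠ 1} := subset_closure (by simpa using hg)
      hg (by rw [h0, mem_bot] at hgb; rw [hgb]; simp)⟩
    exact hL (isMulCommutative_iff.2 fun a b =>
      (IsSimpleGroup.comm_iff_isSolvable.2 inferInstance) a b)
  · obtain ⟨N, -, hN, hcompl⟩ := CharInt.exists_frobeniusKernel hH
    rcases hN.eq_bot_or_eq_top with h | h
    · subst h
      exact hH.2.1 (isComplement'_bot_left.1 hcompl)
    · subst h
      exact hH.1 (isComplement'_top_left.1 hcompl)

end Part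

end Cfsg.Agent.GroupPartition
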