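import Cfsg.Agent.Lib.GroupPartition.Embedded
import Cfsg.Agent.Lib.GroupPartition.DihedralType
import Cfsg.Agent.Lib.CIT.SuzukiFinal
import Cfsg.Agent.Lib.CIT.Cases
import Cfsg.Agent.Lib.SmallSimple.Low
import Cfsg.Agent.Lib.TICentralisers.Zassenhaus
import Cfsg.Prelude.Def_Sz

/-!
# The simple groups with a partition
-/

set_option autoImplicit false
set_option linter.style.haveILetI false

namespace Cfsg.Agent.GroupPartition

open Subgroup

/-- The simple conclusion. -/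
def SimpleOutcome (G : Type*) [Group G] : Prop :=
  (∃ (F : Type) (_ : Field F) (_ : Fintype F), 4 ≤ Fintype.card F ∧
      Nonempty (G ≃* Matrix.ProjectiveSpecialLinearGroup (Fin 2) F)) ∨
    Cfsg.Lie.IsoSuzuki G

theorem four_le_card {G : Type*} [Group G] [Finite G] [IsSimpleGroup G]
    (hne : ∃ a b : G, a * b ≠ b * a) {F : Type} [Field F] [Fintype F]
    (e : G ≃* Matrix.ProjectiveSpecialLinearGroup (Fin 2) F) : 4 ≤ Fintype.card F := by
  by_contra hlt
  have hle : Nat.card G ≤ 24 := by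
    rw [Nat.card_congr e.toEquiv, PSL2.card_PSL]
    refine (Nat.div_le_self _ _).trans ((Nat.mul_le_mul (show Fintype.card F ≤ 3 by omega)
      (show Fintype.card F ^ 2 - 1 ≤ 8 from ?_)).trans le_rfl)
    have := Nat.pow_le_pow_left (show Fintype.card F ≤ 3 by omega) 2
    omega
  have := SmallSimple.card_eq_sixty (fun h => by
    obtain ⟨a, b, hab⟩ := hne
    exact hab (h.is_comm.comm a b)) (G := G) (by omega)
  omega

theorem simpleOutcome_of_psl {G : Type*} [Group G] [Finite G] [IsSimpleGroup G]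
    (hne : ∃ a b : G, a * b ≠ b * a) (h : ∃ (F : Type) (_ : Field F) (_ : Fintype F),
      Nonempty (G ≃* Matrix.ProjectiveSpecialLinearGroup (Fin 2) F)) : SimpleOutcome G := by
  obtain ⟨F, iF, iFt, ⟨e⟩⟩ := h
  exact Or.inl ⟨F, iF, iFt, @four_le_card G _ _ _ hne F iF iFt e, ⟨e⟩⟩

namespace Part

variable {G : Type*} [Group G] [Finite G] {P : Part G}

/-- Two maximal local subgroups over a Sylow subgroup of order 64 cannot occur. -/
theorem Hard.false_of_pair (hP : P.Hard) {Q V A : Subgroup G} (h : CIT.Pair 4 Q V A)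
    (hQ : ∃ S : Sylow 2 G, (S : Subgroup G) = Q) : False := by
  haveI : Fact (Nat.Prime 2) := ⟨Nat.prime_two⟩
  have hVA : ¬ V ≤ A := fun hle => h.ne (eq_of_le_of_card_ge hle (by rw [h.cardA, h.cardV]))
  have hAV : ¬ A ≤ V := fun hle => h.ne (eq_of_le_of_card_ge hle (by rw [h.cardA, h.cardV])).symm
  obtain ⟨a₁, ha₁, ha₁V⟩ := SetLike.not_le_iff_exists.1 hAV
  have hVc : ∀ {v v' : G}, v ∈ V → v' ∈ V → Commute v v' := fun hv hv' =>
    congrArg Subtype.val (h.elemV.1.is_comm.comm ⟨_, hv⟩ ⟨_, hv'⟩)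
  have hAc : ∀ {v v' : G}, v ∈ A → v' ∈ A → Commute v v' := fun hv hv' =>
    congrArg Subtype.val (h.elemA.1.is_comm.comm ⟨_, hv⟩ ⟨_, hv'⟩)
  have hinvV : ∀ {v : G}, v ∈ V → v⁻¹ = v := fun hv =>
    inv_eq_of_mul_eq_one_right (by rw [← pow_two]; exact h.elemV.2 _ hv)
  have hinvA : ∀ {v : G}, v ∈ A → v⁻¹ = v := fun hv =>
    inv_eq_of_mul_eq_one_right (by rw [← pow_two]; exact h.elemA.2 _ hv)
  -- elements of order four
  have key : ∀ v ∈ V, v ∉ A → ∀ a ∈ A, a ∉ V →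
      (v * a) ^ 2 ≠ 1 ∧ ∀ z ∈ V ⊓ A, z ≠ 1 → P.comp (v * a) = P.comp z := by
    intro v hv hvA a ha haV
    have hva : v * a ∈ Q := mul_mem (h.leV hv) (h.leA ha)
    have hx2 : (v * a) ^ 2 ≠ 1 := fun e => by
      rcases h.sq_cases _ hva (by rwa [← pow_two]) with h1 | h1
      · exact haV (by simpa using mul_mem (inv_mem hv) h1)
      · exact hvA (by simpa using mul_mem h1 (inv_mem ha))
    have hsq : (v * a) ^ 2 ∈ V ⊓ A := by
      refine ⟨?_, ?_⟩
      · rw [pow_two, show v * a * (v * a) = v * (a * v * a⁻¹) * (a * a) by group,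
          show a * a = 1 by rw [← pow_two]; exact h.elemA.2 a ha, mul_one]
        exact mul_mem hv ((mem_normalizer_iff.1 (h.normV (h.leA ha)) v).1 hv)
      · rw [pow_two, show v * a * (v * a) = (v * a * v⁻¹) * (v * v) * a by group,
          show v * v = 1 by rw [← pow_two]; exact h.elemV.2 v hv, mul_one]
        exact mul_mem ((mem_normalizer_iff.1 (h.normA (h.leV hv)) a).1 ha) ha
    have hord : orderOf (v * a) = 4 := orderOf_eq_prime_pow (p := 2) (n := 1) (by rwa [pow_one])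
      (by rw [show (2 : ℕ) ^ (1 + 1) = 2 * 2 from rfl, pow_mul]; exact h.elemV.2 _ hsq.1)
    refine ⟨hx2, fun z hz hz1 => P.comp_eq_of_commute (fun e => hx2 (by rw [e, one_pow])) hz1
      ((hVc hv hz.1).mul_left (hAc ha hz.2)) fun ⟨_, hp⟩ => ?_⟩
    rw [hord] at hp
    norm_num at hp
  obtain ⟨⟨z₀, hz₀⟩, hz₀1⟩ := Subgroup.ne_bot_iff_exists_ne_one.1
    (fun e => by simpa [e] using h.cardInf : (V ⊓ A : Subgroup G) ≠ ⊥)
  have hz : z₀ ≠ 1 := fun e => hz₀1 (Subtype.ext e)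
  set X := P.comp z₀ with hX
  have hxX : ∀ v ∈ V, v ∉ A → v * a₁ ∈ X := fun v hv hvA => by
    rw [hX, ← (key v hv hvA a₁ ha₁ ha₁V).2 z₀ hz₀ hz]; exact P.mem _
  have hZX : ∀ z ∈ V ⊓ A, z ∈ X := fun z hz' => by
    by_cases hz1 : z = 1
    · exact hz1 ▸ one_mem _
    obtain ⟨v, hv, hvA⟩ := SetLike.not_le_iff_exists.1 hVA
    rw [hX, ← (key v hv hvA a₁ ha₁ ha₁V).2 z₀ hz₀ hz, (key v hv hvA a₁ ha₁ ha₁V).2 z hz' hz1]
    exact P.mem z
  have hVX : ∀ v ∈ V, v ∈ X := fun v hv => by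
    by_cases hvA : v ∈ A
    · exact hZX v ⟨hv, hvA⟩
    obtain ⟨v₁, hv₁, hv₁A, hv₁'⟩ : ∃ v₁ ∈ V, v₁ ∉ A ∧ v * v₁ ∉ A := by
      by_contra hno
      push Not at hno
      have hsub : (V : Set G) ⊆ ((V ⊓ A : Subgroup G) : Set G) ∪
          (v * ·) '' ((V ⊓ A : Subgroup G) : Set G) := fun b hb => by
        by_cases hbA : b ∈ A
        · exact Or.inl ⟨hb, hbA⟩
        · exact Or.inr ⟨v * b, ⟨mul_mem hv hb, hno b hb hbA⟩, show v * (v * b) = b by
            nth_rewrite 1 [← hinvV hv]; rw [inv_mul_cancel_left]⟩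
      have h1 := (Set.ncard_le_ncard hsub (Set.toFinite _)).trans (Set.ncard_union_le _ _)
      rw [Set.ncard_image_of_injective _ (mul_right_injective v)] at h1
      simp only [← Nat.card_coe_set_eq, SetLike.coe_sort_coe, h.cardV, h.cardInf] at h1
      omega
    have e : v = (v * v₁ * a₁) * (v₁ * a₁)⁻¹ := by
      rw [mul_inv_rev, hinvV hv₁, hinvA ha₁]
      simp only [mul_assoc]
      rw [← mul_assoc a₁ a₁, show a₁ * a₁ = 1 by rw [← pow_two]; exact h.elemA.2 a₁ ha₁, one_mul,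
        show v₁ * v₁ = 1 by rw [← pow_two]; exact h.elemV.2 v₁ hv₁, mul_one]
    rw [e]
    exact mul_mem (hxX _ (mul_mem hv hv₁) hv₁') (inv_mem (hxX _ hv₁ hv₁A))
  have hQX : Q ≤ X := fun x hx => by
    obtain ⟨v, hv, a, ha, rfl⟩ := h.eq_mul x hx
    refine mul_mem (hVX v hv) ?_
    by_cases haV : a ∈ V
    · exact hVX a haV
    obtain ⟨v₁, hv₁, hv₁A⟩ := SetLike.not_le_iff_exists.1 hVA
    have h1 : v₁ * a ∈ X := by
      rw [hX, ← (key v₁ hv₁ hv₁A a ha haV).2 z₀ hz₀ hz]; exact P.mem _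
    simpa using mul_mem (inv_mem (hVX v₁ hv₁)) h1
  obtain ⟨g, hgV, hgQ⟩ : ∃ g ∈ normalizer (V : Set G), g ∉ normalizer (Q : Set G) := by
    by_contra hno
    push Not at hno
    have h1 := h.cardBV
    rw [inf_eq_left.2 fun x hx => hno x hx, h.cardNV] at h1
    norm_num at h1
  have hgN : g ∈ normalizer (X : Set G) := P.mem_normalizer_of_conj hz (hVX z₀ hz₀.1) hz
    (hVX _ ((mem_normalizer_iff.1 hgV z₀).1 hz₀.1))
  obtain ⟨S, rfl⟩ := hQ
  haveI := hP.isNilpotent_comp hz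
  haveI : ((S.subtype hQX : Sylow 2 X) : Subgroup X).Normal :=
    (Group.isNilpotent_of_finite_tfae.out 0 3 rfl rfl).1 inferInstance 2 (Fact.mk Nat.prime_two) _
  have hXN : X ≤ normalizer ((S : Subgroup G) : Set G) :=
    (Subgroup.normal_subgroupOf_iff_le_normalizer hQX).1
      (show ((S : Subgroup G).subgroupOf X).Normal from ‹_›)
  have hle : (S : Subgroup G).map (MulAut.conj g).toMonoidHom ≤ S := by
    intro y hy
    refine ((S.isPGroup'.map (MulAut.conj g).toMonoidHom).inf_normalizer_sylow S).le ⟨hy, hXN ?_⟩ |>.2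
    obtain ⟨b, hb, rfl⟩ := hy
    exact P.conj_mem hgN (hQX hb)
  refine hgQ (mem_normalizer_iff_map_conj_eq.2 (eq_of_le_of_card_ge hle ?_))
  exact (Subgroup.card_map_of_injective (MulAut.conj g).injective).ge

/-- A simple group with a partition is `PSL(2, q)` or a Suzuki group. -/
theorem Hard.simpleOutcome [IsSimpleGroup G] (hP : P.Hard) (hne : ∃ a b : G, a * b ≠ b * a) :
    SimpleOutcome G := by
  by_cases hE : ∃ g, P.Closed g
  · obtain ⟨g, h⟩ := hE
    exact (SuzukiUnique.psl_or_lieSz (h.cfg hP).isZassenhaus).elim (simpleOutcome_of_psl hne) Or.inr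
  push Not at hE
  by_cases hG : CIT.IsCIT G
  · rcases CIT.classification_cases hne hG with ⟨S, n, hn, ⟨e⟩⟩ | ⟨Q, V, A, h, hQ⟩ | ⟨S, hse⟩
    · exact simpleOutcome_of_psl hne (CIT.exists_psl_of_dihedral hG hne S n hn e)
    · exact (hP.false_of_pair h hQ).elim
    · exact (SuzukiUnique.psl_or_lieSz (CIT.cfg_of_normalizer hG hne S hse).isZassenhaus).elim
        (simpleOutcome_of_psl hne) Or.inr
  haveI : Fact (Nat.Prime 2) := ⟨Nat.prime_two⟩
  simp only [CIT.IsCIT, IsPGroup, Subtype.forall] at hG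
  push Not at hG
  obtain ⟨t, ht, x, hxC, hx⟩ := hG
  obtain ⟨k, m, hm, hxo⟩ := Nat.exists_eq_two_pow_mul_odd (orderOf_pos x).ne'
  have hym : orderOf (x ^ 2 ^ k) = m := by
    rw [orderOf_pow_of_dvd (pow_ne_zero _ two_ne_zero) (hxo ▸ Dvd.intro m rfl), hxo,
      Nat.mul_div_cancel_left _ (pow_pos two_pos k)]
  have hy2 : (x ^ 2 ^ k) * (x ^ 2 ^ k) ≠ 1 := fun e => by
    have h1 : m ∣ 2 := hym ▸ orderOf_dvd_of_pow_eq_one (by rw [pow_two]; exact e)
    rcases (Nat.dvd_prime Nat.prime_two).1 h1 with rfl | rfl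
    · refine hx k (Subtype.ext ?_)
      rw [SubmonoidClass.coe_pow, OneMemClass.coe_one]
      exact orderOf_eq_one_iff.1 hym
    · exact absurd hm (by decide)
  have hyt : Commute (x ^ 2 ^ k) t :=
    (show Commute x t from mem_centralizer_singleton_iff.1 hxC).pow_left _
  have hyX : x ^ 2 ^ k ∈ P.comp t := P.mem_of_commute_ne_two ht hyt fun e => by
    rw [hym] at e; subst e; exact absurd hm (by decide)
  have ht1 : t ≠ 1 := fun e => by simp [e] at ht
  obtain ⟨u, hu, hu2, c, hcu, hcX⟩ : ∃ u ∈ P.comp t, orderOf u = 2 ∧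
      ∃ c, Commute c u ∧ c ∉ P.comp t := by
    by_contra hno
    push Not at hno
    exact hE t ⟨ht1, ⟨t, P.mem t, ht⟩, hno⟩
  have hu1 : u ≠ 1 := fun e => by simp [e] at hu2
  have hcX' : c ∉ P.comp u := by rwa [P.eq_of_mem ht1 hu hu1]
  have hcN : c ∈ normalizer (P.comp t : Set G) := P.mem_normalizer_of_commute ht1 hu hu1 hcu
  obtain ⟨t₀, ht₀, ht₀1, hct₀⟩ := hP.exists_fixed_layer ht1 hcN (P.orderOf_eq_two hu2 hcu hcX')
    (ht ▸ (P.comp t).orderOf_dvd_natCard (P.mem t))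
  have hcomp : P.comp t₀ = P.comp t := P.eq_of_mem ht1 ht₀.1 ht₀1
  have h : P.DihedralType t₀ c (x ^ 2 ^ k) :=
    ⟨P.orderOf_of_mem_layer ht₀ ht₀1, fun d hd => (ht₀.2.1 d (hcomp ▸ hd)).symm, hct₀,
      hcomp ▸ hcX, hcomp ▸ hyX, hy2⟩
  exact simpleOutcome_of_psl hne (h.exists_psl hne)

end Part

end Cfsg.Agent.GroupPartition
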