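import Cfsg.Agent.Lib.GroupPartition.Emb
import Cfsg.Agent.Lib.Sz.Aut

/-!
# A Suzuki socle

A group with a partition and Suzuki socle has no field automorphism.
-/

set_option autoImplicit false
set_option linter.style.haveILetI false

namespace Cfsg.Agent.GroupPartition

open Subgroup Matrix

/-- The product of two involutions of `Sz(2)`. -/
def szFive : SpecialLinearGroup (Fin 4) (ZMod 2) :=
  ⟨!![1, 1, 0, 1; 1, 0, 1, 0; 0, 1, 0, 0; 1, 0, 0, 0], by
    simp [Matrix.det_succ_row_zero, Fin.sum_univ_succ, Fin.succAbove]⟩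

theorem szFive_pow : szFive ^ 5 = 1 := by decide +kernel

variable {G : Type*} [Group G] [Finite G] {F : Type} [Field F] [Fintype F] {m : ℕ}

theorem slMap_szFive (hF : Fintype.card F = 2 ^ (2 * m + 1)) [CharP F 2] :
    SpecialLinearGroup.map (ZMod.castHom dvd_rfl F) szFive = SZ.T m 0 1 * SZ.W := by
  apply SZ.sl_ext
  rw [SZ.val_mul]
  show szFive.1.map (ZMod.castHom dvd_rfl F) = SZ.tMat m 0 1 * SZ.wMat
  ext i j
  fin_cases i <;> fin_cases j <;>
    simp [szFive, SZ.tMat, SZ.wMat, SZ.zf, Matrix.mul_apply, Fin.sum_univ_four]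

/-- With a Suzuki socle the group is the socle. -/
theorem Part.Hard.eq_sz {P : Part G} (hP : P.Hard) (hm : 1 ≤ m)
    (hF : Fintype.card F = 2 ^ (2 * m + 1)) (E : Emb G (Cfsg.Sz F m)) (g : G) :
    ∃ l, E.ι l = g := by
  classical
  haveI : Fact (Nat.Prime 2) := ⟨Nat.prime_two⟩
  haveI := SZ.charTwo hF
  obtain ⟨x, σ, hσ⟩ := SZ.exists_conj_fieldAut hm hF (E.ρ g)
  have hfield : E.ρ ((E.ι x)⁻¹ * g) = SZ.fieldAut hm hF σ := by
    rw [map_mul, map_inv, E.ρ_ι, hσ, inv_mul_cancel_left]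
  by_cases hs : σ = 1
  · exact ⟨x, inv_mul_eq_one.1 (E.ρ_inj (by rw [hfield, hs, map_one, map_one]))⟩
  exfalso
  -- the fixed involutions
  set φ := (E.ι x)⁻¹ * g
  set u := SZ.tS (m := m) hF (0 : F) 1
  set w := SZ.wS (F := F) (m := m) hF
  have hfu : ∀ k : ℕ, E.ρ (φ ^ k) u = u ∧ E.ρ (φ ^ k) w = w := fun k => by
    rw [map_pow, hfield, ← map_pow, SZ.fieldAut_tS, map_zero, map_one]
    exact ⟨rfl, SZ.fieldAut_wS hm hF _⟩
  have hu1 : u ≠ 1 := fun e => by
    have := congrArg Subtype.val e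
    exact one_ne_zero (SZ.T_inj ((this : SZ.T m (0 : F) 1 = 1).trans SZ.T_zero.symm)).2
  have hw2 : w * w = 1 := Subtype.ext SZ.W_mul_W
  have hw1 : w ≠ 1 := fun e => by
    have := congrArg (fun a : SpecialLinearGroup (Fin 4) F => a.1 0 0) (congrArg Subtype.val e)
    simp [w, SZ.wS, SZ.W, SZ.wMat] at this
  have hu2 : u * u = 1 := by
    rw [SZ.tS_mul hF, SZ.th_zero, zero_mul, add_zero, add_zero, CharTwo.add_self_eq_zero]
    exact Subtype.ext SZ.T_zero
  have hou : orderOf u = 2 := orderOf_eq_prime (by rw [pow_two, hu2]) hu1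
  have how : orderOf w = 2 := orderOf_eq_prime (by rw [pow_two, hw2]) hw1
  -- a power of `φ` whose order is not two
  have hφ1 : φ ≠ 1 := fun e => by
    apply hs
    have hone : SZ.fieldAut hm hF σ = 1 := by rw [← hfield, e, map_one]
    ext a
    have h1 := congrArg (fun f : MulAut (Cfsg.Sz F m) => f (SZ.tS hF 0 a)) hone
    simp only [SZ.fieldAut_tS, map_zero, MulAut.one_apply] at h1
    simpa using (SZ.tS_inj hF h1).2
  have hodd : orderOf φ ≠ 2 := fun h2 => by
    have hs2 : σ * σ = 1 := by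
      ext a
      have h1 : SZ.fieldAut hm hF (σ * σ) = 1 := by
        rw [map_mul, ← hfield, ← map_mul, ← pow_two, ← h2, pow_orderOf_eq_one, map_one]
      have h1' := congrArg (fun f : MulAut (Cfsg.Sz F m) => f (SZ.tS hF 0 a)) h1
      simp only [SZ.fieldAut_tS, map_zero, MulAut.one_apply] at h1'
      simpa using (SZ.tS_inj hF h1').2
    -- automorphisms of `F` have odd order
    haveI : Finite (RingAut F) := Finite.of_injective (fun s => (s : F → F)) DFunLike.coe_injective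
    let S := zpowers σ
    have hcard : Nat.card S = 2 := by
      rw [Nat.card_zpowers]; exact orderOf_eq_prime (by rw [pow_two, hs2]) hs
    have hfr : Module.finrank (FixedPoints.subfield S F) F = 2 := by
      let _ := Fintype.ofFinite S
      rw [FixedPoints.finrank_eq_card, ← Nat.card_eq_fintype_card, hcard]
    have hc := Module.natCard_eq_pow_finrank (K := FixedPoints.subfield S F) (V := F)
    rw [hfr, Nat.card_eq_fintype_card (α := F), hF] at hc
    obtain ⟨j, -, hj⟩ := (Nat.dvd_prime_pow Nat.prime_two).1 (hc ▸ dvd_pow_self _ two_ne_zero :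
      Nat.card (FixedPoints.subfield S F) ∣ 2 ^ (2 * m + 1))
    rw [hj, ← pow_mul] at hc
    have := Nat.pow_right_injective le_rfl hc
    omega
  obtain ⟨K, hK, hKmem⟩ := hP.exists_pGroup hφ1 2
  have hmem : ∀ l, E.ρ φ l = l → orderOf l = 2 → E.ι l ∈ K := fun l hl ho =>
    hKmem _ (E.mem_comp hφ1 hl (by rw [ho]; exact hodd.symm)) ⟨1, by
      rw [pow_one, ← ho, ← E.orderOf_ι, pow_orderOf_eq_one]⟩
  have hu := hmem u (by simpa using (hfu 1).1) hou
  have hw := hmem w (by simpa using (hfu 1).2) how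
  obtain ⟨k, hk⟩ := hK ⟨_, mul_mem hu hw⟩
  have hk' : (u * w) ^ 2 ^ k = 1 := E.ι_inj (by
    rw [map_pow, map_mul, map_one]; exact congrArg Subtype.val hk)
  have h5 : (u * w) ^ 5 = 1 := by
    refine Subtype.ext ?_
    rw [SubmonoidClass.coe_pow, Subgroup.coe_mul, OneMemClass.coe_one]
    show (SZ.T m 0 1 * SZ.W) ^ 5 = 1
    rw [← slMap_szFive hF, ← map_pow, szFive_pow, map_one]
  have h1 := pow_gcd_eq_one.2 ⟨hk', h5⟩
  rw [((Nat.Coprime.pow_left k (by decide : Nat.Coprime 2 5))).gcd_eq_one, pow_one,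
    mul_eq_one_iff_eq_inv, inv_eq_of_mul_eq_one_right hw2] at h1
  have := congrArg (fun a : SpecialLinearGroup (Fin 4) F => a.1 0 0) (congrArg Subtype.val h1)
  simp [u, w, SZ.tS, SZ.T, SZ.tMat, SZ.wS, SZ.W, SZ.wMat] at this

end Cfsg.Agent.GroupPartition
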